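import Cfsg.Agent.ThCert.CoverDef

/-!
The orbits at some cosets are checked.
-/

set_option autoImplicit false
set_option maxRecDepth 100000
set_option Elab.async false

namespace Cfsg.Lib.ThCert

theorem cov1_a : allRange cov1.pointOK 0 8600 = true := by decide +kernel

theorem cov1_b : allRange cov1.pointOK 8600 8599 = true := by decide +kernel

theorem cov1_ok : allRange cov1.pointOK 0 17199 = true ∧ cov1.stabOK = true :=
  ⟨allRange_cat (n := 8600) (lo := 0) (m := 8599) cov1_a cov1_b, by decide +kernel⟩

theorem cov2_a : allRange cov2.pointOK 0 8600 = true := by decide +kernel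

theorem cov2_b : allRange cov2.pointOK 8600 8599 = true := by decide +kernel

theorem cov2_ok : allRange cov2.pointOK 0 17199 = true ∧ cov2.stabOK = true :=
  ⟨allRange_cat (n := 8600) (lo := 0) (m := 8599) cov2_a cov2_b, by decide +kernel⟩

theorem cov3_a : allRange cov3.pointOK 0 8600 = true := by decide +kernel

theorem cov3_b : allRange cov3.pointOK 8600 8599 = true := by decide +kernel

theorem cov3_ok : allRange cov3.pointOK 0 17199 = true ∧ cov3.stabOK = true :=
  ⟨allRange_cat (n := 8600) (lo := 0) (m := 8599) cov3_a cov3_b, by decide +kernel⟩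

theorem cov4_a : allRange cov4.pointOK 0 8600 = true := by decide +kernel

theorem cov4_b : allRange cov4.pointOK 8600 8599 = true := by decide +kernel

theorem cov4_ok : allRange cov4.pointOK 0 17199 = true ∧ cov4.stabOK = true :=
  ⟨allRange_cat (n := 8600) (lo := 0) (m := 8599) cov4_a cov4_b, by decide +kernel⟩

theorem cov5_a : allRange cov5.pointOK 0 8600 = true := by decide +kernel

theorem cov5_b : allRange cov5.pointOK 8600 8599 = true := by decide +kernel

theorem cov5_ok : allRange cov5.pointOK 0 17199 = true ∧ cov5.stabOK = true :=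
  ⟨allRange_cat (n := 8600) (lo := 0) (m := 8599) cov5_a cov5_b, by decide +kernel⟩

end Cfsg.Lib.ThCert
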