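import Cfsg.Agent.ThCert.CoverDef

/-!
The orbits at some cosets are checked.
-/

set_option autoImplicit false
set_option maxRecDepth 100000
set_option Elab.async false

namespace Cfsg.Lib.ThCert

theorem cov6_a : allRange cov6.pointOK 0 8600 = true := by decide +kernel

theorem cov6_b : allRange cov6.pointOK 8600 8599 = true := by decide +kernel

theorem cov6_ok : allRange cov6.pointOK 0 17199 = true ∧ cov6.stabOK = true :=
  ⟨allRange_cat (n := 8600) (lo := 0) (m := 8599) cov6_a cov6_b, by decide +kernel⟩

theorem cov7_a : allRange cov7.pointOK 0 8600 = true := by decide +kernel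

theorem cov7_b : allRange cov7.pointOK 8600 8599 = true := by decide +kernel

theorem cov7_ok : allRange cov7.pointOK 0 17199 = true ∧ cov7.stabOK = true :=
  ⟨allRange_cat (n := 8600) (lo := 0) (m := 8599) cov7_a cov7_b, by decide +kernel⟩

theorem cov8_a : allRange cov8.pointOK 0 8600 = true := by decide +kernel

theorem cov8_b : allRange cov8.pointOK 8600 8599 = true := by decide +kernel

theorem cov8_ok : allRange cov8.pointOK 0 17199 = true ∧ cov8.stabOK = true :=
  ⟨allRange_cat (n := 8600) (lo := 0) (m := 8599) cov8_a cov8_b, by decide +kernel⟩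

theorem cov9_a : allRange cov9.pointOK 0 8600 = true := by decide +kernel

theorem cov9_b : allRange cov9.pointOK 8600 8599 = true := by decide +kernel

theorem cov9_ok : allRange cov9.pointOK 0 17199 = true ∧ cov9.stabOK = true :=
  ⟨allRange_cat (n := 8600) (lo := 0) (m := 8599) cov9_a cov9_b, by decide +kernel⟩

theorem cov10_a : allRange cov10.pointOK 0 8600 = true := by decide +kernel

theorem cov10_b : allRange cov10.pointOK 8600 8599 = true := by decide +kernel

theorem cov10_ok : allRange cov10.pointOK 0 17199 = true ∧ cov10.stabOK = true :=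
  ⟨allRange_cat (n := 8600) (lo := 0) (m := 8599) cov10_a cov10_b, by decide +kernel⟩

end Cfsg.Lib.ThCert
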