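import Cfsg.Agent.ThCert.Facts
import Cfsg.Agent.ThCert.CoverChk0
import Cfsg.Agent.ThCert.CoverChk1

/-!
The index of the subgroup in the presented Thompson group is at most 143127000.
-/

set_option autoImplicit false
set_option maxRecDepth 100000

namespace Cfsg.Lib.ThCert

open Cfsg

/-- The coset of an element is listed. -/
def InO (g : Spor.Th) : Prop := ∃ n < 11, ∃ a : P, Eqc g (vv n * fTh a)

theorem InO.congr {g h : Spor.Th} (hh : InO h) (e : Eqc g h) : InO g := by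
  obtain ⟨n, hn, a, e'⟩ := hh
  exact ⟨n, hn, a, e.trans e'⟩

theorem InO.mul_f {g : Spor.Th} (h : InO g) (b : P) : InO (g * fTh b) := by
  obtain ⟨n, hn, a, e⟩ := h
  exact ⟨n, hn, a * b, by rw [map_mul, ← mul_assoc]; exact e.mul_right _⟩

theorem moveSet_into {x W : ℕ} {a : P} {X : Finset ℕ} (h : into x W = true) (hW : moveSet a X = spanKey W)
    (hX : ∀ v ∈ X, v < 2 ^ 676) (hcard : X.card = 16) (hx : x < ptN) : moveSet a X = ptSet x := by
  have hs := into_sound h
  rw [← hW] at hs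
  refine Finset.eq_of_subset_of_card_le hs ?_
  rw [ptSet_card hx, moveSet_card a X hX, hcard]

theorem moveSet_back {a : P} {X Y : Finset ℕ} (h : moveSet a X = Y) (hX : ∀ v ∈ X, v < 2 ^ 676) :
    moveSet a⁻¹ Y = X := by
  rw [← h]
  exact moveSet_inv a X hX

theorem stab_to_sub {a : P} (h : moveSet a (ptSet 0) = ptSet 0) : a ∈ hSub := by
  rw [hSub_eq_stab]
  exact h

/-- The stabiliser of a listed coset. -/
def cosStab (n : ℕ) : Subgroup P where
  carrier := {s | Eqc (vv n * fTh s) (vv n)}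
  one_mem' := by show Eqc _ _; rw [map_one, mul_one]; exact Eqc.refl _
  mul_mem' := fun {a b} (ha : Eqc _ _) (hb : Eqc _ _) => by
    show Eqc _ _
    rw [map_mul, ← mul_assoc]
    exact (ha.mul_right _).trans hb
  inv_mem' := fun {a} (ha : Eqc _ _) => by
    show Eqc _ _
    have := (ha.mul_right (fTh a⁻¹)).symm
    rwa [mul_assoc, ← map_mul, mul_inv_cancel, map_one, mul_one] at this

theorem gens_mem {C : CovData} (h : C.stabOK = true) {i : ℕ} (hi : i < C.gens.length) :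
    ∃ a ∈ cosStab C.n, El (fK (C.gens.getD i 0)) a ∧ El (fK2 (C.gens.getD i 0)) a⁻¹ := by
  simp only [CovData.stabOK, Bool.and_eq_true, List.all_eq_true, Nat.blt_eq] at h
  have hm : C.gens.getD i 0 ∈ C.gens := by rw [List.getD_eq_getElem _ _ hi]; exact List.getElem_mem hi
  obtain ⟨⟨h1, h2⟩, h3⟩ := h.1.1.1.1 _ hm
  have hf := fct_sound _ h1
  rw [FctHolds, if_pos (Nat.eq_of_beq_eq_true h2), Nat.eq_of_beq_eq_true h3] at hf
  obtain ⟨a, ha, hai, e⟩ := hf
  exact ⟨a, e, ha, hai⟩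

theorem gval_mem {C : CovData} (h : C.stabOK = true) : ∀ {w : List ℕ}, (∀ i ∈ w, i < C.gens.length) →
    ∃ a ∈ cosStab C.n, El (C.gval w) a
  | [], _ => ⟨1, (cosStab C.n).one_mem, El.one⟩
  | i :: w, hw => by
    obtain ⟨a, ha, hA, -⟩ := gens_mem h (hw i List.mem_cons_self)
    obtain ⟨b, hb, hB⟩ := gval_mem h fun j hj => hw j (List.mem_cons_of_mem i hj)
    exact ⟨a * b, (cosStab C.n).mul_mem ha hb, hA.mul hB⟩

theorem stab_order {C : CovData} (h : C.stabOK = true) : 0 < C.ord ∧ C.ord ≤ Nat.card (cosStab C.n) := by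
  have h' := h
  simp only [CovData.stabOK, Bool.and_eq_true, List.all_eq_true, Nat.blt_eq] at h'
  obtain ⟨⟨⟨⟨-, hw⟩, hc⟩, hs⟩, hp⟩ := h'
  have := card_P_le.1
  refine ⟨hp, Nat.eq_of_beq_eq_true hs ▸ (chain_le (cosStab C.n) C.chain hc ?_).trans ?_⟩
  · intro L hL t ht
    simp only [CovData.chain, List.mem_map] at hL
    obtain ⟨L', hL', rfl⟩ := hL
    obtain ⟨w, hw', rfl⟩ := List.mem_map.1 ht
    exact gval_mem h fun i hi => hw L' hL' w hw' i hi
  · rw [Subgroup.card_map_of_injective sigma_injective]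

theorem node_closed {C : CovData} (h : C.stabOK = true) (hp : allRange C.pointOK 0 17199 = true) (a : P) :
    InO (vv C.n * fTh a * tu) := by
  have key : ∀ d x, x < ptN → Nat.shiftRight (C.tree.at' x) 18 = d → ∀ b : P, moveSet b (ptSet x) = ptSet 0 →
      InO (vv C.n * fTh b * tu) := by
    intro d
    induction d using Nat.strong_induction_on with
    | _ d ih =>
      intro x hx hd b hb
      have hq := allRange_sound hp x (Nat.zero_le x) (by simpa [ptN] using hx)
      simp only [CovData.pointOK, hd] at hq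
      cases h0 : Nat.beq d 0
      · simp only [h0, cond_false, Bool.and_eq_true, Nat.blt_eq] at hq
        generalize Nat.land (C.tree.at' x) 32767 = y at hq
        generalize Nat.land (Nat.shiftRight (C.tree.at' x) 15) 7 = m at hq
        obtain ⟨⟨⟨hy, hdy⟩, hm⟩, hi⟩ := hq
        obtain ⟨g, hg, -, hgi⟩ := gens_mem h hm
        have hgx : moveSet g⁻¹ (ptSet y) = ptSet x :=
          moveSet_into hi (moveSet_spanKey hgi _) (spanKey_lt _) (ptSet_card hy) hx
        have h2 : InO (vv C.n * fTh (g⁻¹ * b) * tu) := ih _ hdy y hy rfl _ (by rw [moveSet_mul, hgx, hb])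
        refine h2.congr ?_
        rw [show vv C.n * fTh b = vv C.n * fTh g * fTh (g⁻¹ * b) by
          rw [mul_assoc, ← map_mul, mul_inv_cancel_left]]
        exact ((show Eqc (vv C.n * fTh g) (vv C.n) from hg).mul_right _).mul_right _
      · simp only [h0, cond_true, Bool.and_eq_true, Nat.blt_eq] at hq
        obtain ⟨⟨⟨⟨he, hS⟩, hI⟩, hJ⟩, hi⟩ := hq
        have hf := fct_sound _ he
        rw [FctHolds, if_neg (by rw [Nat.eq_of_beq_eq_true hS]; norm_num), Nat.eq_of_beq_eq_true hI] at hf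
        obtain ⟨a0, b0, ha0, -, e⟩ := hf
        have h0x : moveSet a0 (ptSet x) = ptSet 0 :=
          moveSet_into hi (moveSet_spanKey ha0 _) (spanKey_lt _) (ptSet_card hx) (Nat.lt_of_le_of_lt (Nat.zero_le x) hx)
        have hs : a0⁻¹ * b ∈ hSub := stab_to_sub (by rw [moveSet_mul, moveSet_back h0x (spanKey_lt _), hb])
        obtain ⟨d', hd'⟩ := twist_all hs
        exact ⟨_, hJ, b0 * d', cross e hd' (by rw [mul_inv_cancel_left]; exact Eqc.refl _)⟩
  obtain ⟨x, hx, e⟩ := orbit_total a⁻¹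
  refine key _ x hx rfl a ?_
  have := moveSet_back e (spanKey_lt _)
  rwa [inv_inv] at this

theorem first_fact : firstFact < fctN ∧ fS firstFact = 0 ∧ fI firstFact = 0 ∧ fJ firstFact < 11 := by decide +kernel

theorem zero_closed (a : P) : InO (vv 0 * fTh a * tu) := by
  obtain ⟨h1, h2, h3, h4⟩ := first_fact
  have hf := fct_sound _ h1
  rw [FctHolds, if_neg (by omega), h3] at hf
  obtain ⟨a0, b0, -, -, e⟩ := hf
  refine ⟨_, h4, b0, ((at_zero_any (s := ⟨0, matOf a⟩) rfl ⟨a, matOf_el a, Eqc.refl _⟩ a0).mul_right tu).trans e⟩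

/-- The listed stabiliser orders. -/
def covOrd : ℕ → ℕ
  | 0 => 634023936
  | 1 => cov1.ord
  | 2 => cov2.ord
  | 3 => cov3.ord
  | 4 => cov4.ord
  | 5 => cov5.ord
  | 6 => cov6.ord
  | 7 => cov7.ord
  | 8 => cov8.ord
  | 9 => cov9.ord
  | _ => cov10.ord

theorem covOrd_sum : ∑ n ∈ Finset.range 11, 634023936 / covOrd n = 143127000 := by decide +kernel

theorem cov_facts : ∀ n < 11, (0 < covOrd n ∧ covOrd n ≤ Nat.card (cosStab n)) ∧
    ∀ a, InO (vv n * fTh a * tu) := by
  intro n hn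
  interval_cases n
  · refine ⟨⟨by norm_num [covOrd], ?_⟩, zero_closed⟩
    have e : cosStab 0 = ⊤ := eq_top_iff.2 fun a _ => by
      show Eqc (vv 0 * fTh a) (vv 0)
      rw [vv_zero, one_mul]
      show fTh a * 1⁻¹ ∈ Kth
      rw [inv_one, mul_one]
      exact ⟨a, rfl⟩
    rw [e, Subgroup.card_top, card_P, covOrd]
  · exact ⟨stab_order cov1_ok.2, node_closed cov1_ok.2 cov1_ok.1⟩
  · exact ⟨stab_order cov2_ok.2, node_closed cov2_ok.2 cov2_ok.1⟩
  · exact ⟨stab_order cov3_ok.2, node_closed cov3_ok.2 cov3_ok.1⟩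
  · exact ⟨stab_order cov4_ok.2, node_closed cov4_ok.2 cov4_ok.1⟩
  · exact ⟨stab_order cov5_ok.2, node_closed cov5_ok.2 cov5_ok.1⟩
  · exact ⟨stab_order cov6_ok.2, node_closed cov6_ok.2 cov6_ok.1⟩
  · exact ⟨stab_order cov7_ok.2, node_closed cov7_ok.2 cov7_ok.1⟩
  · exact ⟨stab_order cov8_ok.2, node_closed cov8_ok.2 cov8_ok.1⟩
  · exact ⟨stab_order cov9_ok.2, node_closed cov9_ok.2 cov9_ok.1⟩
  · exact ⟨stab_order cov10_ok.2, node_closed cov10_ok.2 cov10_ok.1⟩

theorem all_InO (g : Spor.Th) : InO g := by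
  have hg : g ∈ Subgroup.closure (Set.range fun x => PresentedGroup.of (rels := thRels) x) := by
    rw [PresentedGroup.closure_range_of]; exact Subgroup.mem_top g
  suffices ∀ w, InO w → InO (w * g) ∧ InO (w * g⁻¹) by
    simpa using (this 1 ⟨0, by norm_num, 1, by rw [vv_zero, map_one, mul_one]; exact Eqc.refl _⟩).1
  induction hg using Subgroup.closure_induction with
  | mem x hx =>
    obtain ⟨z, rfl⟩ := hx
    have hu : ∀ w, InO w → InO (w * tu) := fun w ⟨n, hn, a, e⟩ =>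
      ((cov_facts n hn).2 a).congr (e.mul_right tu)
    intro w hw
    by_cases hz : z = Spor.Th.Gen.u
    · subst hz
      refine ⟨hu w hw, ?_⟩
      show InO (w * tu⁻¹)
      rw [tu_inv, ← mul_assoc]
      exact (hu w hw).mul_f acEl
    · obtain ⟨i, hi, e⟩ : ∃ i < 7, tg i = PresentedGroup.of (rels := thRels) z := by
        cases z
        · exact ⟨0, by norm_num, rfl⟩
        · exact ⟨1, by norm_num, rfl⟩
        · exact ⟨2, by norm_num, rfl⟩
        · exact ⟨3, by norm_num, rfl⟩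
        · exact ⟨4, by norm_num, rfl⟩
        · exact ⟨5, by norm_num, rfl⟩
        · exact ⟨6, by norm_num, rfl⟩
        · exact absurd rfl hz
      show InO (w * PresentedGroup.of z) ∧ InO (w * (PresentedGroup.of z)⁻¹)
      rw [← e, ← fTh_pg hi, ← map_inv]
      exact ⟨hw.mul_f _, hw.mul_f _⟩
  | one => intro w hw; simpa using hw
  | mul x y _ _ hx hy =>
    intro w hw
    exact ⟨by rw [← mul_assoc]; exact (hy _ (hx w hw).1).1,
      by rw [mul_inv_rev, ← mul_assoc]; exact (hx _ (hy w hw).2).2⟩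
  | inv x _ hx => intro w hw; rw [inv_inv]; exact ⟨(hx w hw).2, (hx w hw).1⟩

theorem index_Kth : Kth.index ≠ 0 ∧ Kth.index ≤ 143127000 := by
  classical
  have := card_P_le.1
  let Φ : (Σ n : Fin 11, P ⧸ cosStab n.val) → Spor.Th ⧸ Kth := fun z =>
    Quotient.liftOn' z.2 (fun a => ((fTh a * (vv z.1.val)⁻¹ : Spor.Th) : Spor.Th ⧸ Kth)) fun a b hab => by
      rw [QuotientGroup.leftRel_apply] at hab
      rw [QuotientGroup.eq]
      have h : vv z.1.val * fTh (a⁻¹ * b) * (vv z.1.val)⁻¹ ∈ Kth := hab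
      simpa [mul_assoc] using h
  have hsur : Function.Surjective Φ := by
    intro q
    refine Quotient.inductionOn' q fun g => ?_
    obtain ⟨n, hn, a, e⟩ := all_InO g⁻¹
    refine ⟨⟨⟨n, hn⟩, ((a⁻¹ : P) : P ⧸ cosStab n)⟩, ?_⟩
    show ((fTh a⁻¹ * (vv n)⁻¹ : Spor.Th) : Spor.Th ⧸ Kth) = ((g : Spor.Th) : Spor.Th ⧸ Kth)
    rw [QuotientGroup.eq, mul_inv_rev, inv_inv, ← map_inv, inv_inv]
    simpa [Eqc, mul_assoc] using e.symm
  have : Finite (Spor.Th ⧸ Kth) := Finite.of_surjective Φ hsur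
  refine ⟨Nat.card_ne_zero.2 ⟨⟨((1 : Spor.Th) : Spor.Th ⧸ Kth)⟩, this⟩, ?_⟩
  refine (Nat.card_le_card_of_surjective Φ hsur).trans ?_
  rw [Nat.card_sigma, ← covOrd_sum, Finset.sum_range]
  refine Finset.sum_le_sum fun n _ => ?_
  obtain ⟨h1, h2⟩ := (cov_facts n n.2).1
  have h3 := Subgroup.card_mul_index (cosStab n.val)
  rw [card_P] at h3
  show (cosStab n.val).index ≤ _
  rw [Nat.le_div_iff_mul_le h1, ← h3, mul_comm]
  exact Nat.mul_le_mul_right _ h2

end Cfsg.Lib.ThCert
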