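import Cfsg.Agent.ThCert.MGroup

/-!
The group in the first six generators is simple and normal in the presented group.
-/

set_option autoImplicit false
set_option maxRecDepth 100000
set_option exponentiation.threshold 700

namespace Cfsg.Lib.ThCert

/-- Three elements with these relations are trivial. -/
theorem des_trivial {Q : Type*} [Group Q] {d e s : Q} (hd : d * d = 1) (he : e * e = 1) (hs : s ^ 7 = 1)
    (hde : (d * e) ^ 3 = 1) (hde8 : (d * e) ^ 8 = 1) (hsd : s * d * s * d = 1)
    (hes : e⁻¹ * s⁻¹ * e * s * s⁻¹ ^ 3 * e⁻¹ * s ^ 3 = 1) : d = 1 ∧ e = 1 ∧ s = 1 := by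
  have hx : d * e = 1 := by
    have h9 : (d * e) ^ 9 = 1 := by rw [show 9 = 3 * 3 from rfl, pow_mul, hde, one_pow]
    rwa [pow_succ, hde8, one_mul] at h9
  have de' : d = e := by rw [eq_inv_of_mul_eq_one_left hx, inv_eq_of_mul_eq_one_right he]
  subst de'
  have ei : d⁻¹ = d := inv_eq_of_mul_eq_one_right hd
  have hse : s * d = d * s⁻¹ := by
    have e1 : s * d = (s * d)⁻¹ := eq_inv_of_mul_eq_one_left (by rw [← mul_assoc]; exact hsd)
    rwa [mul_inv_rev, ei] at e1
  have es : d * s⁻¹ * d = s := by rw [← hse, mul_assoc, hd, mul_one]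
  have e2 : s * s * s⁻¹ ^ 3 * d * s ^ 3 = 1 := by
    rw [ei, es] at hes
    exact hes
  have e3 : d * s ^ 3 = s := by
    have : s * s * s⁻¹ ^ 3 = s⁻¹ := by group
    rw [this, mul_assoc] at e2
    exact (inv_mul_eq_one.1 e2).symm
  have e4 : d = s * s⁻¹ ^ 3 := by rw [inv_pow, eq_mul_inv_iff_mul_eq, e3]
  have hcomm : d * s = s * d := by rw [e4]; group
  have s2 : s * s = 1 := by
    have : s * d = s⁻¹ * d := by
      rw [hse, show d * s⁻¹ = s⁻¹ * d from ?_]
      exact ((Commute.inv_right (show Commute d s from hcomm)).eq)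
    rw [mul_right_cancel_iff] at this
    exact mul_eq_one_iff_eq_inv.2 this
  have s1 : s = 1 := by
    have : s ^ 7 = s := by rw [show 7 = 2 * 3 + 1 from rfl, pow_succ, pow_mul, pow_two, s2, one_pow, one_mul]
    rw [← this, hs]
  refine ⟨?_, ?_, s1⟩ <;> rw [e4, s1] <;> simp

/-- A generator as an element of the subgroup. -/
noncomputable def mg (i : ℕ) : mSub := if h : i < 6 then ⟨pg i, pg_mem_m h⟩ else 1

theorem mg_coe {i : ℕ} (h : i < 6) : (mg i : P) = pg i := by rw [mg, dif_pos h]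

theorem mg_rel {w : List ℕ} (hw : ∀ x ∈ w, x < 12) (h : mval w = one26) : wordVal (sgn mg) w = 1 := by
  refine Subtype.ext ?_
  have e : ((wordVal (sgn mg) w : mSub) : P) = wordVal (sgn pg) w := by
    rw [show ((wordVal (sgn mg) w : mSub) : P) = mSub.subtype (wordVal (sgn mg) w) from rfl, wordVal_map]
    refine congrArg List.prod (List.map_congr_left fun x hx => ?_)
    have hx' := hw x hx
    rw [sgn_map mSub.subtype mg x]
    unfold sgn
    beta_reduce
    rw [Subgroup.subtype_apply, mg_coe (by omega)]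
  rw [e, word_eq (w' := []) (fun x hx => (hw x hx).trans (by norm_num)) (by simp) h]
  rfl

theorem hom_rels {Q : Type*} [Group Q] (f : mSub →* Q) :
    ∀ w ∈ [[4, 4], [6, 6], [8, 8], [6, 8, 6, 8, 6, 8], [10, 10, 10, 10, 10, 10, 10], [10, 6, 10, 6],
      [9, 11, 8, 10, 11, 11, 11, 9, 10, 10, 10], [0, 7, 5, 7, 5, 7, 5, 7, 5],
      [2, 4, 6, 8, 2, 4, 6, 8, 2, 4, 6, 8, 2, 4, 6, 8, 2, 4, 6, 8, 2, 4, 6, 8, 2, 4, 6, 8, 2, 4, 6, 8],
      [0, 2, 0, 2, 0, 2], [2, 4, 2, 4, 2, 4], [0, 0], [2, 2]],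
    wordVal (sgn fun i => f (mg i)) w = 1 := by
  intro w hw
  have h := Nat.eq_of_beq_eq_true (List.all_eq_true.1 mrel_chk w hw)
  have h12 : ∀ x ∈ w, x < 12 := by
    simp only [List.mem_cons, List.not_mem_nil, or_false] at hw
    rcases hw with rfl | rfl | rfl | rfl | rfl | rfl | rfl | rfl | rfl | rfl | rfl | rfl | rfl <;> decide
  rw [← map_one f, ← mg_rel h12 h, wordVal_map, funext (fun x => sgn_map f mg x)]

theorem hom_trivial {Q : Type*} [Group Q] (f : mSub →* Q) (ha : f (mg 0) = 1)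
    (hb : f (mg 1) = 1) (hc : f (mg 2) = 1) : f = 1 := by
  have h := hom_rels f
  have hd := h [6, 6] (by simp)
  have he := h [8, 8] (by simp)
  have hde := h [6, 8, 6, 8, 6, 8] (by simp)
  have hs := h [10, 10, 10, 10, 10, 10, 10] (by simp)
  have hsd := h [10, 6, 10, 6] (by simp)
  have hes := h [9, 11, 8, 10, 11, 11, 11, 9, 10, 10, 10] (by simp)
  have h8 := h [2, 4, 6, 8, 2, 4, 6, 8, 2, 4, 6, 8, 2, 4, 6, 8, 2, 4, 6, 8, 2, 4, 6, 8, 2, 4, 6, 8, 2, 4, 6, 8]
    (by simp)
  simp [wordVal, sgn, hb, hc] at hd he hde hs hsd hes h8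
  obtain ⟨d1, e1, s1⟩ := des_trivial (d := f (mg 3)) (e := f (mg 4)) (s := f (mg 5)) hd he
    (by simpa [pow_succ, mul_assoc] using hs) (by simpa [pow_succ, mul_assoc] using hde)
    (by simpa [pow_succ, mul_assoc] using h8) (by simpa [mul_assoc] using hsd)
    (by simpa [pow_succ, mul_assoc] using hes)
  have key : ∀ i < 6, f (mg i) = 1 := fun i hi => by interval_cases i <;> assumption
  ext g
  obtain ⟨g, hg⟩ := g
  show f ⟨g, hg⟩ = 1
  induction hg using Subgroup.closure_induction with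
  | mem x hx =>
    obtain ⟨l, hl, rfl⟩ := hx
    simp only [Set.mem_ofPred_eq, List.mem_cons, List.not_mem_nil, or_false] at hl
    rcases hl with rfl | rfl | rfl | rfl | rfl | rfl | rfl
    · rw [← key 0 (by norm_num)]; exact congrArg f (Subtype.ext (mg_coe (by norm_num)).symm)
    · rw [← key 1 (by norm_num)]; exact congrArg f (Subtype.ext (mg_coe (by norm_num)).symm)
    · rw [← key 2 (by norm_num)]; exact congrArg f (Subtype.ext (mg_coe (by norm_num)).symm)
    · rw [← key 3 (by norm_num)]; exact congrArg f (Subtype.ext (mg_coe (by norm_num)).symm)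
    · rw [← key 4 (by norm_num)]; exact congrArg f (Subtype.ext (mg_coe (by norm_num)).symm)
    · rw [← key 5 (by norm_num)]; exact congrArg f (Subtype.ext (mg_coe (by norm_num)).symm)
    · rw [← inv_one, ← key 5 (by norm_num), ← map_inv]
      refine congrArg f (Subtype.ext ?_)
      rw [Subgroup.coe_inv, mg_coe (by norm_num)]
      rfl
  | one => exact map_one f
  | mul x y hx hy ih ih' => rw [← one_mul (1 : Q), ← congrArg₂ (· * ·) ih ih', ← map_mul]; rfl
  | inv x hx ih => rw [← inv_one, ← ih, ← map_inv]; rfl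

theorem hom_a {Q : Type*} [Group Q] (f : mSub →* Q) (ha : f (mg 0) = 1) : f = 1 := by
  have h := hom_rels f
  have e1 := h [0, 2, 0, 2, 0, 2] (by simp)
  have e2 := h [2, 2] (by simp)
  simp [wordVal, sgn, ha] at e1 e2
  have hb : f (mg 1) = 1 := by
    rw [← mul_assoc, e2, one_mul] at e1
    exact e1
  have e3 := h [2, 4, 2, 4, 2, 4] (by simp)
  have e4 := h [4, 4] (by simp)
  simp [wordVal, sgn, hb] at e3 e4
  have hc : f (mg 2) = 1 := by
    rw [← mul_assoc, e4, one_mul] at e3
    exact e3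
  exact hom_trivial f ha hb hc

theorem hom_comm {A : Type*} [CommGroup A] (f : mSub →* A) : f = 1 := by
  have h := hom_rels f
  have e1 := h [0, 2, 0, 2, 0, 2] (by simp)
  have a2 := h [0, 0] (by simp)
  have b2 := h [2, 2] (by simp)
  have c2 := h [4, 4] (by simp)
  have d2 := h [6, 6] (by simp)
  have e5 := h [0, 7, 5, 7, 5, 7, 5, 7, 5] (by simp)
  simp [wordVal, sgn] at e1 a2 b2 c2 d2 e5
  refine hom_a f ?_
  have ei : (f (mg 3))⁻¹ = f (mg 3) := inv_eq_of_mul_eq_one_right d2
  have ci : (f (mg 2))⁻¹ = f (mg 2) := inv_eq_of_mul_eq_one_right c2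
  rw [ei, ci] at e5
  have q : ∀ a d c : A, d * d = 1 → c * c = 1 → a * (d * (c * (d * (c * (d * (c * (d * c))))))) = 1 → a = 1 := by
    intro a d c hd hc hh
    have : a * ((d * d) * (d * d) * (c * c) * (c * c)) = 1 := by rw [← hh]; ac_rfl
    simpa [hd, hc] using this
  exact q _ _ _ d2 c2 e5

theorem mSub_isSimple : IsSimpleGroup mSub := by
  have := sub_M.1
  have hnt : Nontrivial mSub := Finite.one_lt_card_iff_nontrivial.1 (by rw [card_mSub]; norm_num)
  refine ⟨fun N hN => ?_⟩
  have hmem : ∀ n ∈ N, ∀ g : mSub, g * n * g⁻¹ ∈ N := fun n hn g => hN.conj_mem n hn g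
  have htop : mg 0 ∈ N → N = ⊤ := fun ha => by
    have h1 := hom_a (QuotientGroup.mk' N) ((QuotientGroup.eq_one_iff _).2 ha)
    refine eq_top_iff.2 fun g _ => (QuotientGroup.eq_one_iff g).1 ?_
    exact DFunLike.congr_fun h1 g
  let N' : Subgroup P := N.map mSub.subtype
  let C' : Subgroup mSub := cSub.subgroupOf mSub
  have hH := maximal_cSub (H := (N ⊔ C').map mSub.subtype)
    (fun g hg => ⟨⟨g, cSub_le_mSub hg⟩, Subgroup.mem_sup_right (Subgroup.mem_subgroupOf.2 hg), rfl⟩)
    (by rintro _ ⟨g, -, rfl⟩; exact g.2)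
  have hC : ∀ c ∈ C', c * mg 0 = mg 0 * c := fun c hc => Subtype.ext (by
    simp only [Subgroup.coe_mul, mg_coe (show 0 < 6 by norm_num)]
    exact cSub_comm (Subgroup.mem_subgroupOf.1 hc))
  rcases hH with hH | hH
  · left
    rw [eq_bot_iff]
    intro n hn
    have hle : N ≤ C' := fun g hg => by
      have : (g : P) ∈ (N ⊔ C').map mSub.subtype := ⟨g, Subgroup.mem_sup_left hg, rfl⟩
      rw [hH] at this
      exact Subgroup.mem_subgroupOf.2 this
    let Z : Subgroup mSub := Subgroup.centralizer {n}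
    have hZ : (Subgroup.normalClosure {mg 0}) ≤ Z := by
      rw [Subgroup.normalClosure, Subgroup.closure_le]
      intro x hx
      obtain ⟨a, ha, hx'⟩ := Group.mem_conjugatesOfSet_iff.1 hx
      rw [Set.mem_singleton_iff] at ha
      subst ha
      obtain ⟨c, rfl⟩ := isConj_iff.1 hx'
      rw [SetLike.mem_coe, Subgroup.mem_centralizer_iff]
      intro m hm
      rw [Set.mem_singleton_iff] at hm
      rw [hm]
      have hn' : c⁻¹ * n * c ∈ N := by simpa using hmem n hn c⁻¹
      have := hC _ (hle hn')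
      calc n * (c * mg 0 * c⁻¹) = c * ((c⁻¹ * n * c) * mg 0) * c⁻¹ := by group
        _ = c * (mg 0 * (c⁻¹ * n * c)) * c⁻¹ := by rw [this]
        _ = (c * mg 0 * c⁻¹) * n := by group
    have hnc : Subgroup.normalClosure {mg 0} = ⊤ := by
      have h1 := hom_a (QuotientGroup.mk' (Subgroup.normalClosure {mg 0}))
        ((QuotientGroup.eq_one_iff _).2 (Subgroup.subset_normalClosure rfl))
      exact eq_top_iff.2 fun g _ => (QuotientGroup.eq_one_iff g).1 (DFunLike.congr_fun h1 g)
    have : (n : P) = 1 := centralizer_mSub fun g hg => by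
      have := Subgroup.mem_centralizer_iff.1 (hZ (hnc ▸ Subgroup.mem_top (⟨g, hg⟩ : mSub))) n rfl
      exact congrArg Subtype.val this.symm
    exact Subgroup.mem_bot.2 (Subtype.ext this)
  · right
    have hsup : N ⊔ C' = ⊤ := eq_top_iff.2 fun g _ => by
      obtain ⟨x, hx, e⟩ := (hH.symm ▸ g.2 : (g : P) ∈ (N ⊔ C').map mSub.subtype)
      rwa [← Subtype.ext e]
    have hcen : ∀ g : mSub, Commute ((g : mSub ⧸ N)) (mg 0 : mSub ⧸ N) := by
      intro g
      have hg : g ∈ ((N ⊔ C' : Subgroup mSub) : Set mSub) := by rw [hsup]; exact Subgroup.mem_top g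
      rw [Subgroup.normal_mul] at hg
      obtain ⟨n, hn, c, hc, rfl⟩ := hg
      rw [QuotientGroup.mk_mul, (QuotientGroup.eq_one_iff n).2 hn, one_mul, Commute, SemiconjBy,
        ← QuotientGroup.mk_mul, ← QuotientGroup.mk_mul, hC c hc]
    let N2 : Subgroup mSub := (Subgroup.center (mSub ⧸ N)).comap (QuotientGroup.mk' N)
    have hN2 : N2 = ⊤ := by
      have ha : mg 0 ∈ N2 := Subgroup.mem_center_iff.2 fun q => by
        refine QuotientGroup.induction_on q fun g => ?_
        exact (hcen g).eq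
      have h1 := hom_a (QuotientGroup.mk' N2) ((QuotientGroup.eq_one_iff _).2 ha)
      exact eq_top_iff.2 fun g _ => (QuotientGroup.eq_one_iff g).1 (DFunLike.congr_fun h1 g)
    letI : CommGroup (mSub ⧸ N) :=
      { (inferInstance : Group (mSub ⧸ N)) with
        mul_comm := fun x y => by
          refine QuotientGroup.induction_on y fun g => ?_
          exact Subgroup.mem_center_iff.1 (Subgroup.mem_comap.1 (hN2 ▸ Subgroup.mem_top g : g ∈ N2)) x }
    have h1 := hom_comm (QuotientGroup.mk' N)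
    exact htop ((QuotientGroup.eq_one_iff _).1 (DFunLike.congr_fun h1 (mg 0)))

theorem t_conj : ∀ i < 6, (pg 6)⁻¹ * pg i * pg 6 ∈ mSub := by
  have key : ∀ p ∈ [([13, 1, 12], [1]), ([13, 3, 12], [3]), ([13, 5, 12], [5]), ([13, 7, 12], [7]),
      ([13, 9, 12], [9]), ([13, 10, 12], [10, 10])], wordVal (sgn pg) p.1 ∈ mSub := by
    intro p hp
    have h := Nat.eq_of_beq_eq_true (List.all_eq_true.1 mnormal_chk p hp)
    have hs : (∀ x ∈ p.1, x < 14) ∧ ∀ x ∈ p.2, x < 12 := by
      simp only [List.mem_cons, List.not_mem_nil, or_false] at hp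
      rcases hp with rfl | rfl | rfl | rfl | rfl | rfl <;> decide
    rw [word_eq hs.1 (fun x hx => (hs.2 x hx).trans (by norm_num)) h]
    exact word_mem_m hs.2
  intro i hi
  interval_cases i
  · rw [← pg_invol (show 0 < 5 by norm_num)]; simpa [wordVal, sgn, mul_assoc] using key ([13, 1, 12], [1]) (by simp)
  · rw [← pg_invol (show 1 < 5 by norm_num)]; simpa [wordVal, sgn, mul_assoc] using key ([13, 3, 12], [3]) (by simp)
  · rw [← pg_invol (show 2 < 5 by norm_num)]; simpa [wordVal, sgn, mul_assoc] using key ([13, 5, 12], [5]) (by simp)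
  · rw [← pg_invol (show 3 < 5 by norm_num)]; simpa [wordVal, sgn, mul_assoc] using key ([13, 7, 12], [7]) (by simp)
  · rw [← pg_invol (show 4 < 5 by norm_num)]; simpa [wordVal, sgn, mul_assoc] using key ([13, 9, 12], [9]) (by simp)
  · simpa [wordVal, sgn, mul_assoc] using key ([13, 10, 12], [10, 10]) (by simp)

instance mSub_normal : mSub.Normal := by
  have := card_P_le.1
  have hgen : ∀ i < 7, pg i ∈ Subgroup.normalizer (mSub : Set P) := by
    intro i hi
    by_cases h6 : i < 6
    · exact Subgroup.le_normalizer (pg_mem_m h6)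
    · obtain rfl : i = 6 := by omega
      refine Subgroup.inv_mem_iff _ |>.1 ?_
      have hle : mSub.map (MulAut.conj ((pg 6)⁻¹)).toMonoidHom ≤ mSub := by
        rw [show mSub = Subgroup.closure _ from rfl, MonoidHom.map_closure, Subgroup.closure_le]
        rintro _ ⟨_, ⟨l, hl, rfl⟩, rfl⟩
        simp only [Set.mem_ofPred_eq, List.mem_cons, List.not_mem_nil, or_false] at hl
        have ht : ∀ i < 6, (MulAut.conj ((pg 6)⁻¹)).toMonoidHom (pg i) ∈ mSub := fun i hi => by
          simpa [MulAut.conj_apply] using t_conj i hi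
        rcases hl with rfl | rfl | rfl | rfl | rfl | rfl | rfl
        exacts [ht 0 (by norm_num), ht 1 (by norm_num), ht 2 (by norm_num), ht 3 (by norm_num), ht 4 (by norm_num),
          ht 5 (by norm_num), by
            show _ ∈ mSub
            rw [show plv 6 = (pg 5)⁻¹ from rfl, map_inv]
            exact inv_mem (ht 5 (by norm_num))]
      have heq := Subgroup.eq_of_le_of_card_ge hle (le_of_eq
        (Subgroup.card_map_of_injective (MulAut.conj ((pg 6)⁻¹)).injective).symm)
      rw [Subgroup.mem_normalizer_iff]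
      intro x
      constructor
      · intro hx
        have : (MulAut.conj ((pg 6)⁻¹)).toMonoidHom x ∈ mSub.map (MulAut.conj ((pg 6)⁻¹)).toMonoidHom := ⟨x, hx, rfl⟩
        rw [heq] at this
        simpa [MulAut.conj_apply] using this
      · intro hx
        rw [← heq] at hx
        obtain ⟨y, hy, e⟩ := hx
        rw [← (MulAut.conj ((pg 6)⁻¹)).injective (a₁ := y) (a₂ := x) (by simpa [MulAut.conj_apply] using e)]
        exact hy
  rw [← Subgroup.normalizer_eq_top_iff, eq_top_iff, ← PresentedGroup.closure_range_of pRels, Subgroup.closure_le]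
  rintro _ ⟨i, rfl⟩
  have e : (PresentedGroup.of i : P) = pg i.val := by
    rw [pg, free7, Fin.ofNat_val_eq_self]; rfl
  rw [e]
  exact hgen i.val i.2

/-- A normal subgroup of the presented group without the first generator is trivial. -/
theorem normal_cases (N : Subgroup P) (hN : N.Normal) : pg 0 ∈ N ∨ N = ⊥ := by
  have hs := mSub_isSimple
  rcases hs.eq_bot_or_eq_top_of_normal (N.subgroupOf mSub) inferInstance with h | h
  · refine Or.inr (eq_bot_iff.2 fun z hz => Subgroup.mem_bot.2 (centralizer_mSub fun g hg => ?_))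
    have h1 : g * z * g⁻¹ * z⁻¹ ∈ N ⊓ mSub := by
      refine Subgroup.mem_inf.2 ⟨N.mul_mem (hN.conj_mem z hz g) (N.inv_mem hz), ?_⟩
      rw [show g * z * g⁻¹ * z⁻¹ = g * (z * g⁻¹ * z⁻¹) by group]
      exact mSub.mul_mem hg (mSub_normal.conj_mem _ (mSub.inv_mem hg) z)
    have h2 : (⟨_, (Subgroup.mem_inf.1 h1).2⟩ : mSub) ∈ N.subgroupOf mSub :=
      Subgroup.mem_subgroupOf.2 (Subgroup.mem_inf.1 h1).1
    rw [h, Subgroup.mem_bot] at h2
    have h3 : g * z * g⁻¹ * z⁻¹ = 1 := congrArg Subtype.val h2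
    calc g * z = (g * z * g⁻¹ * z⁻¹) * (z * g) := by group
      _ = z * g := by rw [h3, one_mul]
  · refine Or.inl ?_
    exact Subgroup.mem_subgroupOf.1 (h ▸ Subgroup.mem_top (⟨pg 0, pg_mem_m (by norm_num)⟩ : mSub))

end Cfsg.Lib.ThCert
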