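import Cfsg.Agent.ThCert.CentFixChk
import Cfsg.Agent.ThCert.Index
import Cfsg.Agent.ThCert.MSimple

/-!
The conjugates of the first generator in the stabilisers of cosets.
-/

set_option autoImplicit false
set_option maxRecDepth 100000
set_option exponentiation.threshold 700

namespace Cfsg.Lib.ThCert

/-- The centraliser of the first generator. -/
abbrev cPa : Subgroup P := Subgroup.centralizer ({pg 0} : Set P)

theorem mem_cPa {g : P} : g ∈ cPa ↔ g * pg 0 = pg 0 * g := by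
  rw [Subgroup.mem_centralizer_iff]
  exact ⟨fun h => (h _ rfl).symm, fun h x hx => by rw [Set.mem_singleton_iff.1 hx]; exact h.symm⟩

theorem cj_eq_iff {g h : P} : cj g = cj h ↔ g⁻¹ * h ∈ cPa := by
  rw [mem_cPa]
  unfold cj
  constructor
  · intro e
    calc g⁻¹ * h * pg 0 = g⁻¹ * (h * pg 0 * h⁻¹) * h := by group
      _ = g⁻¹ * (g * pg 0 * g⁻¹) * h := by rw [e]
      _ = pg 0 * (g⁻¹ * h) := by group
  · intro e
    calc g * pg 0 * g⁻¹ = g * (pg 0 * (g⁻¹ * h)) * h⁻¹ := by group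
      _ = g * ((g⁻¹ * h) * pg 0) * h⁻¹ := by rw [e]
      _ = h * pg 0 * h⁻¹ := by group

theorem t_comm_a : pg 6 ∈ cPa := by
  rw [mem_cPa]
  have e : wordVal (sgn pg) [13, 1, 12] = wordVal (sgn pg) [1] :=
    word_eq (by decide) (by decide) (Nat.eq_of_beq_eq_true (List.all_eq_true.1 mnormal_chk ([13, 1, 12], [1]) (by simp)))
  simp only [wordVal, List.map_cons, List.map_nil, List.prod_cons, List.prod_nil, mul_one, sgn] at e
  norm_num at e
  rw [pg_invol (show 0 < 5 by norm_num)] at e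
  calc pg 6 * pg 0 = pg 6 * ((pg 6)⁻¹ * (pg 0 * pg 6)) := by rw [e]
    _ = pg 0 * pg 6 := by group

theorem class_P (g : P) : ∃ i < 819, cj g = clsEl i := by
  have hgen : mSub ⊔ cPa = ⊤ := by
    rw [eq_top_iff, ← pg_closure, Subgroup.closure_le]
    rintro _ ⟨i, rfl⟩
    by_cases h : i.val < 6
    · exact Subgroup.mem_sup_left (pg_mem_m h)
    · have e : i.val = 6 := by omega
      show pg i.val ∈ _
      rw [e]
      exact Subgroup.mem_sup_right t_comm_a
  have hg : g ∈ ((mSub ⊔ cPa : Subgroup P) : Set P) := by rw [hgen]; exact Subgroup.mem_top g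
  rw [Subgroup.normal_mul] at hg
  obtain ⟨m, hm, c, hc, rfl⟩ := hg
  have e : cj (m * c) = cj m := cj_eq_iff.2 (by
    rw [mul_inv_rev, mul_assoc, inv_mul_cancel, mul_one]
    exact cPa.inv_mem hc)
  obtain ⟨i, hi, e'⟩ := (class_all.1 ▸ ⟨m, hm, rfl⟩ : cj m ∈ clsEl '' Set.Iio 819)
  exact ⟨i, hi, e.trans e'.symm⟩

/-- The conjugates as a map of cosets of the centraliser. -/
def cjP : P ⧸ cPa → P :=
  Quotient.lift cj fun _ _ h => cj_eq_iff.2 (QuotientGroup.leftRel_apply.1 h)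

theorem cjP_facts : Function.Injective cjP ∧ Set.range cjP = clsEl '' Set.Iio 819 ∧
    Nat.card cPa = 774144 := by
  have := card_P_le.1
  have hinj : Function.Injective cjP := fun a b => by
    refine Quotient.inductionOn₂' a b fun x y e => ?_
    exact Quotient.sound' (QuotientGroup.leftRel_apply.2 (cj_eq_iff.1 e))
  have hr : Set.range cjP = clsEl '' Set.Iio 819 := by
    ext q
    constructor
    · rintro ⟨z, rfl⟩
      refine Quotient.inductionOn' z fun g => ?_
      obtain ⟨i, hi, e⟩ := class_P g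
      exact ⟨i, hi, e.symm⟩
    · rintro ⟨i, hi, rfl⟩
      obtain ⟨-, h, -, e, -⟩ := cls_mem i hi
      exact ⟨(h : P ⧸ cPa), e.symm⟩
  refine ⟨hinj, hr, ?_⟩
  have h1 := Subgroup.card_mul_index cPa
  rw [card_P, Subgroup.index, ← Nat.card_range_of_injective hinj, hr,
    Nat.card_image_of_injOn (s := Set.Iio 819) (f := clsEl) (fun i hi j hj => clsEl_inj hi hj)] at h1
  simp at h1
  omega

theorem covOf_ok {n : ℕ} (h1 : 1 ≤ n) (h2 : n < 11) :
    (covOf n).stabOK = true ∧ (covOf n).n = n ∧ (covOf n).ord = covOrd n := by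
  interval_cases n
  exacts [⟨cov1_ok.2, rfl, rfl⟩, ⟨cov2_ok.2, rfl, rfl⟩, ⟨cov3_ok.2, rfl, rfl⟩, ⟨cov4_ok.2, rfl, rfl⟩,
    ⟨cov5_ok.2, rfl, rfl⟩, ⟨cov6_ok.2, rfl, rfl⟩, ⟨cov7_ok.2, rfl, rfl⟩, ⟨cov8_ok.2, rfl, rfl⟩,
    ⟨cov9_ok.2, rfl, rfl⟩, ⟨cov10_ok.2, rfl, rfl⟩]

theorem givl_el {C : CovData} (h : C.stabOK = true) : ∀ {w : List ℕ}, (∀ i ∈ w, i < C.gens.length) →
    ∃ a ∈ cosStab C.n, El (C.gval w) a ∧ El (C.givl w) a⁻¹ ∧
      ∀ H : Subgroup P, (∀ g ∈ C.gens, ∀ b, El (fK g) b → b ∈ H) → a ∈ H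
  | [], _ => ⟨1, (cosStab C.n).one_mem, El.one, by rw [inv_one]; exact El.one, fun H _ => H.one_mem⟩
  | i :: w, hw => by
    have hi := hw i List.mem_cons_self
    obtain ⟨a, ha, hA, hI⟩ := gens_mem h hi
    obtain ⟨b, hb, hB, hBI, hH⟩ := givl_el h fun j hj => hw j (List.mem_cons_of_mem i hj)
    refine ⟨a * b, (cosStab C.n).mul_mem ha hb, hA.mul hB, by rw [mul_inv_rev]; exact hBI.mul hI,
      fun H hH' => H.mul_mem (hH' _ ?_ a hA) (hH H hH')⟩
    rw [List.getD_eq_getElem _ _ hi]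
    exact List.getElem_mem hi

theorem chain_all (G H : Subgroup P) : ∀ (ls : List (ℕ × List (ℕ × ℕ))),
    chainLv (ls.map fun L => (L.1, L.2.map Prod.fst)) = true →
    (∀ L ∈ ls, ∀ t ∈ L.2, ∃ a ∈ G, a ∈ H ∧ El t.1 a ∧ El t.2 a⁻¹) →
    ∃ S : Finset P, S.card = chainSz (ls.map fun L => (L.1, L.2.map Prod.fst)) ∧ (∀ x ∈ S, x ∈ G ∧ x ∈ H) ∧
      (∀ v, (∀ L ∈ ls, ∀ t ∈ L.2, mm v t.1 = v) → ∀ x ∈ S, ∀ p, El p x → toMat v * toMat p = toMat v) ∧
      ∀ x ∈ S, ∀ p, p < 2 ^ 676 → El p x → siftCh ls p = true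
  | [], _, _ => ⟨{1}, rfl, fun x hx => by rw [Finset.mem_singleton.1 hx]; exact ⟨G.one_mem, H.one_mem⟩,
      fun v _ x hx p hp => by
        rw [Finset.mem_singleton.1 hx] at hp
        rw [hp, map_one, Units.val_one, mul_one],
      fun x hx p hp hE => by
        rw [Finset.mem_singleton.1 hx] at hE
        show Nat.beq p one26 = true
        rw [toMat_inj (B := one26) hp (by decide +kernel) (hE.trans El.one.symm)]
        exact Nat.beq_refl _⟩
  | (v, T) :: rest, h, hel => by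
    classical
    simp only [List.map_cons, chainLv, Bool.and_eq_true, List.all_eq_true] at h
    obtain ⟨⟨hd, hfix⟩, hrest⟩ := h
    obtain ⟨S, hS, hmem, hfx, hsift⟩ := chain_all G H rest hrest fun L hL => hel L (List.mem_cons_of_mem _ hL)
    have hfix' : ∀ L ∈ rest, ∀ t ∈ L.2, mm v t.1 = v := fun L hL t ht => Nat.eq_of_beq_eq_true
      (hfix _ (List.mem_map_of_mem hL) t.1 (List.mem_map_of_mem ht))
    have hv := hfx v hfix'
    have hT : ∀ i : Fin T.length, ∃ a ∈ G, a ∈ H ∧ El (T.get i).1 a ∧ El (T.get i).2 a⁻¹ :=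
      fun i => hel (v, T) List.mem_cons_self _ (T.get_mem i)
    choose a haG haH haE haI using hT
    refine ⟨(S ×ˢ (Finset.univ : Finset (Fin T.length))).image fun z => z.1 * a z.2, ?_, ?_, ?_, ?_⟩
    · rw [Finset.card_image_of_injOn, Finset.card_product, hS, Finset.card_univ, Fintype.card_fin, List.map_cons,
        chainSz, List.length_map, mul_comm]
      rintro ⟨x, i⟩ hx ⟨y, j⟩ hy (e : x * a i = y * a j)
      simp only [Finset.coe_product, Set.mem_prod, Finset.mem_coe] at hx hy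
      have hx' := (matOf_el x).mul (haE i)
      have hy' := (matOf_el y).mul (haE j)
      rw [e] at hx'
      have e' : toMat v * toMat (mm (matOf x) (T.get i).1) = toMat v * toMat (mm (matOf y) (T.get j).1) := by
        rw [hx', hy']
      rw [toMat_mm, toMat_mm, ← mul_assoc, ← mul_assoc, hv x hx.1 _ (matOf_el x), hv y hy.1 _ (matOf_el y),
        ← toMat_mm, ← toMat_mm] at e'
      have hij : i = j := by
        have := toMat_inj (mm_lt _ _) (mm_lt _ _) e'
        refine Fin.ext ((List.Nodup.getElem_inj_iff (distinct_nodup hd) (hi := by simp) (hj := by simp)).1 ?_)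
        simpa using this
      subst hij
      rw [mul_right_cancel e]
    · intro z hz
      obtain ⟨⟨x, i⟩, hx, rfl⟩ := Finset.mem_image.1 hz
      obtain ⟨h1, h2⟩ := hmem x (Finset.mem_product.1 hx).1
      exact ⟨G.mul_mem h1 (haG i), H.mul_mem h2 (haH i)⟩
    · intro w hw z hz p hp
      obtain ⟨⟨x, i⟩, hx, rfl⟩ := Finset.mem_image.1 hz
      rw [hp, map_mul, Units.val_mul, ← matOf_el x, ← haE i, ← mul_assoc,
        hfx w (fun L hL => hw L (List.mem_cons_of_mem _ hL)) x (Finset.mem_product.1 hx).1 _ (matOf_el x), ← toMat_mm,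
        hw (v, T) List.mem_cons_self _ (T.get_mem i)]
    · intro z hz p hp hE
      obtain ⟨⟨x, i⟩, hx, rfl⟩ := Finset.mem_image.1 hz
      have hxS := (Finset.mem_product.1 hx).1
      simp only [siftCh, List.any_eq_true, Bool.and_eq_true]
      refine ⟨T.get i, T.get_mem i, ?_, ?_⟩
      · have e : mm v p = mm v (T.get i).1 := toMat_inj (mm_lt _ _) (mm_lt _ _) (by
          rw [toMat_mm, toMat_mm, hE, haE i, map_mul, Units.val_mul, ← matOf_el x, ← mul_assoc,
            hv x hxS _ (matOf_el x)])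
        rw [e]
        exact Nat.beq_refl _
      · refine hsift x hxS _ (mm_lt _ _) ?_
        have := hE.mul (haI i)
        rwa [mul_inv_cancel_right] at this

theorem stab_facts_n {n : ℕ} (h1 : 1 ≤ n) (h2 : n < 11) (hc : Nat.card (cosStab n) = covOrd n) :
    (∀ y ∈ cosStab n, ∀ p, p < 2 ^ 676 → El p y → siftCh (covOf n).ichain p = true) ∧
      ∀ H : Subgroup P, (∀ g ∈ (covOf n).gens, ∀ b, El (fK g) b → b ∈ H) → cosStab n ≤ H := by
  have := card_P_le.1
  obtain ⟨hok, hn, ho⟩ := covOf_ok h1 h2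
  have hok' := hok
  simp only [CovData.stabOK, Bool.and_eq_true, List.all_eq_true, Nat.blt_eq] at hok'
  obtain ⟨⟨⟨⟨-, hw⟩, hch⟩, hs⟩, -⟩ := hok'
  have emap : ((covOf n).ichain.map fun L => (L.1, L.2.map Prod.fst)) = (covOf n).chain := by
    simp [CovData.ichain, CovData.chain, Function.comp_def]
  have main : ∀ H : Subgroup P, (∀ g ∈ (covOf n).gens, ∀ b, El (fK g) b → b ∈ H) →
      ∃ S : Finset P, S.card = covOrd n ∧ (∀ x ∈ S, x ∈ cosStab n ∧ x ∈ H) ∧
        ∀ x ∈ S, ∀ p, p < 2 ^ 676 → El p x → siftCh (covOf n).ichain p = true := by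
    intro H hH
    obtain ⟨S, hS, hmem, -, hsift⟩ := chain_all (cosStab n) H (covOf n).ichain (emap ▸ hch) (fun L hL t ht => by
      simp only [CovData.ichain, List.mem_map] at hL
      obtain ⟨L', hL', rfl⟩ := hL
      obtain ⟨w, hw', rfl⟩ := List.mem_map.1 ht
      obtain ⟨a, ha, hA, hI, hH'⟩ := givl_el hok fun i hi => hw L' hL' w hw' i hi
      exact ⟨a, hn ▸ ha, hH' H hH, hA, hI⟩)
    exact ⟨S, by rw [hS, emap, Nat.eq_of_beq_eq_true hs, ho], hmem, hsift⟩
  have all : ∀ (S : Finset P), S.card = covOrd n → (∀ x ∈ S, x ∈ cosStab n) → ∀ y ∈ cosStab n, y ∈ S := by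
    intro S hS hmem y hy
    have hfin : ((cosStab n : Subgroup P) : Set P).Finite := Set.toFinite _
    have e : (S : Set P) = (cosStab n : Set P) := Set.eq_of_subset_of_ncard_le hmem (by
      rw [Set.ncard_coe_finset, hS, ← Nat.card_coe_set_eq]
      exact le_of_eq hc) hfin
    exact Finset.mem_coe.1 (e ▸ hy)
  constructor
  · intro y hy p hp hE
    obtain ⟨S, hS, hmem, hsift⟩ := main ⊤ fun _ _ _ _ => Subgroup.mem_top _
    exact hsift y (all S hS (fun x hx => (hmem x hx).1) y hy) p hp hE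
  · intro H hH y hy
    obtain ⟨S, hS, hmem, -⟩ := main H hH
    exact (hmem y (all S hS (fun x hx => (hmem x hx).1) y hy)).2

/-- The members of an orbit. -/
noncomputable def orbSet (k : ℕ) : Set P := {y | ∃ e ∈ (orbOf k).2, y = clsEl e.1}

/-- The coset of an orbit. -/
def orbN (k : ℕ) : ℕ := (orbOf k).1

theorem cls_lt {i : ℕ} (hi : i < 819) : clsMats.getD i 0 < 2 ^ 676 := by
  have h := List.all_eq_true.1 cls_chk i (List.mem_range.2 hi)
  cases hr : clsRoot i <;>
    simp only [clsOK, hr, cond_false, cond_true, Bool.and_eq_true, Nat.blt_eq] at h <;>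
    exact (Nat.eq_of_beq_eq_true h.2.2) ▸ mm_lt _ _

theorem orb_range {k : ℕ} (hk : k < 5) : 1 ≤ orbN k ∧ orbN k < 11 := by
  have h := List.all_eq_true.1 orbit_chk.1 k (List.mem_range.2 hk)
  simp only [orbitOK, Bool.and_eq_true, Nat.blt_eq] at h
  exact ⟨h.1.1.1.1.1.1, h.1.1.1.1.1.2⟩

theorem orb_cover {n : ℕ} (h1 : 1 ≤ n) (h2 : n < 11) (hc : Nat.card (cosStab n) = covOrd n) {g : P}
    (hy : cj g ∈ cosStab n) : ∃ k < 5, orbN k = n ∧ cj g ∈ orbSet k := by
  obtain ⟨i, hi, e⟩ := class_P g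
  have hs := (stab_facts_n h1 h2 hc).1 _ hy _ (cls_lt hi) (e ▸ (cls_mem i hi).1)
  have h := List.all_eq_true.1 outside_chk (n - 1) (List.mem_range.2 (by omega))
  rw [show n - 1 + 1 = n by omega] at h
  have hh := List.all_eq_true.1 h i (List.mem_range.2 hi)
  simp only [hs, Bool.not_true, Bool.or_false, fixAt, List.any_eq_true, List.mem_flatMap, List.mem_filter,
    List.mem_map] at hh
  obtain ⟨_, ⟨o, ⟨ho, hon⟩, f, hf, rfl⟩, hif⟩ := hh
  obtain ⟨k, hk, rfl⟩ := List.getElem_of_mem ho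
  rw [orbit_chk.2] at hk
  have eo : orbOf k = fixOrbs[k] := List.getD_eq_getElem _ _ _
  refine ⟨k, hk, by rw [orbN, eo]; exact Nat.eq_of_beq_eq_true hon, f, by rw [eo]; exact hf, ?_⟩
  rw [e, Nat.eq_of_beq_eq_true hif]

theorem orb_facts {k : ℕ} (hk : k < 5) (hc : Nat.card (cosStab (orbN k)) = covOrd (orbN k)) :
    (∀ y ∈ orbSet k, ∃ h, y = cj h) ∧ Nat.card (orbSet k) = (orbOf k).2.length ∧
      (∀ y ∈ orbSet k, ∀ s ∈ cosStab (orbN k), s⁻¹ * y * s ∈ orbSet k) ∧
      ∀ y ∈ orbSet k, ∀ z ∈ orbSet k, ∃ s ∈ cosStab (orbN k), z = s⁻¹ * y * s := by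
  have h := List.all_eq_true.1 orbit_chk.1 k (List.mem_range.2 hk)
  simp only [orbitOK, Bool.and_eq_true, List.all_eq_true, List.any_eq_true, Nat.blt_eq, List.mem_range,
    Bool.or_eq_true] at h
  obtain ⟨⟨⟨⟨⟨⟨h1, h2⟩, hlen⟩, h819⟩, hd⟩, htree⟩, hclosed⟩ := h
  obtain ⟨hok, hn, -⟩ := covOf_ok h1 h2
  set C := covOf (orbOf k).1
  set O := (orbOf k).2
  have hconj : ∀ i j g, i < 819 → j < 819 → ∀ a, El (fK g) a → El (fK2 g) a⁻¹ →
      Nat.beq (mm (fK2 g) (mm (clsMats.getD i 0) (fK g))) (clsMats.getD j 0) = true →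
      a⁻¹ * clsEl i * a = clsEl j := fun i j g hi hj a ha hai he => by
    have := hai.mul ((cls_mem i hi).1.mul ha)
    rw [Nat.eq_of_beq_eq_true he] at this
    rw [mul_assoc, clsEl_eq this]
  have hgen : ∀ g ∈ C.gens, ∃ a ∈ cosStab (orbN k), El (fK g) a ∧ El (fK2 g) a⁻¹ := fun g hg => by
    obtain ⟨i, hi, rfl⟩ := List.getElem_of_mem hg
    obtain ⟨a, ha, hA, hI⟩ := gens_mem hok hi
    rw [List.getD_eq_getElem _ _ hi] at hA hI
    exact ⟨a, by rw [orbN, ← hn]; exact ha, hA, hI⟩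
  refine ⟨?_, ?_, ?_, ?_⟩
  · rintro y ⟨e, he, rfl⟩
    obtain ⟨-, h, -, eh, -⟩ := cls_mem e.1 (h819 e he)
    exact ⟨h, eh⟩
  · classical
    have : orbSet k = clsEl '' ↑((O.map Prod.fst).toFinset) := by
      ext y
      simp only [orbSet, Set.mem_ofPred_eq, Set.mem_image, Finset.mem_coe, List.mem_toFinset, List.mem_map]
      constructor
      · rintro ⟨e, he, rfl⟩; exact ⟨e.1, ⟨e, he, rfl⟩, rfl⟩
      · rintro ⟨_, ⟨e, he, rfl⟩, rfl⟩; exact ⟨e, he, rfl⟩
    rw [this, Nat.card_image_of_injOn, Nat.card_coe_set_eq, Set.ncard_coe_finset,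
      List.toFinset_card_of_nodup (distinct_nodup hd), List.length_map]
    intro i hi j hj
    simp only [Finset.mem_coe, List.mem_toFinset, List.mem_map] at hi hj
    obtain ⟨a, ha, rfl⟩ := hi
    obtain ⟨b, hb, rfl⟩ := hj
    exact clsEl_inj (h819 a ha) (h819 b hb)
  · let I : Subgroup P :=
      { carrier := {s | (∀ y ∈ orbSet k, s⁻¹ * y * s ∈ orbSet k) ∧ ∀ y ∈ orbSet k, s * y * s⁻¹ ∈ orbSet k}
        one_mem' := ⟨fun y hy => by simpa using hy, fun y hy => by simpa using hy⟩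
        mul_mem' := fun {a b} ha hb => ⟨fun y hy => by
            have := hb.1 _ (ha.1 y hy)
            simpa [mul_assoc] using this,
          fun y hy => by
            have := ha.2 _ (hb.2 y hy)
            simpa [mul_assoc] using this⟩
        inv_mem' := fun {a} ha => ⟨fun y hy => by simpa using ha.2 y hy, fun y hy => by simpa using ha.1 y hy⟩ }
    have hI : cosStab (orbN k) ≤ I := (stab_facts_n h1 h2 hc).2 I fun g hg b hb => by
      obtain ⟨a, -, hA, hAI⟩ := hgen g hg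
      rw [El.eq sigma_injective hb hA]
      refine ⟨?_, ?_⟩ <;> rintro _ ⟨e, he, rfl⟩
      · obtain ⟨f, hf, hb'⟩ := (hclosed e he g hg).1
        exact ⟨f, hf, hconj e.1 f.1 g (h819 e he) (h819 f hf) a hA hAI hb'⟩
      · obtain ⟨f, hf, hb'⟩ := (hclosed e he g hg).2
        refine ⟨f, hf, ?_⟩
        have := hA.mul ((cls_mem e.1 (h819 e he)).1.mul hAI)
        rw [Nat.eq_of_beq_eq_true hb'] at this
        rw [mul_assoc, clsEl_eq this]
    exact fun y hy s hs => (hI hs).1 y hy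
  · have hroot : ∀ p < O.length, ∃ s ∈ cosStab (orbN k),
        clsEl (O.getD p (0, 0, 0)).1 = s⁻¹ * clsEl (O.getD 0 (0, 0, 0)).1 * s := by
      intro p
      induction p using Nat.strong_induction_on with
      | _ p ih =>
        intro hp
        rcases htree p hp with h0 | ⟨⟨hq, hg⟩, he⟩
        · exact ⟨1, one_mem _, by rw [Nat.eq_of_beq_eq_true h0]; simp⟩
        · set e := O.getD p (0, 0, 0) with hedef
          obtain ⟨s, hs, es⟩ := ih e.2.1 hq (by omega)
          obtain ⟨a, ha, hA, hI⟩ := hgen (C.gens.getD e.2.2 0) (by rw [List.getD_eq_getElem _ _ hg]; exact List.getElem_mem hg)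
          have m : ∀ q < O.length, (O.getD q (0, 0, 0)).1 < 819 := fun q hq => by
            rw [List.getD_eq_getElem _ _ hq]; exact h819 _ (List.getElem_mem hq)
          refine ⟨s * a, mul_mem hs ha, ?_⟩
          rw [← hconj _ e.1 _ (m _ (by omega)) (m p hp) a hA hI he, es]
          group
    intro y hy z hz
    obtain ⟨e, he, rfl⟩ := hy
    obtain ⟨f, hf, rfl⟩ := hz
    obtain ⟨p, hp, rfl⟩ := List.getElem_of_mem he
    obtain ⟨q, hq, rfl⟩ := List.getElem_of_mem hf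
    obtain ⟨s, hs, es⟩ := hroot p hp
    obtain ⟨r, hr, er⟩ := hroot q hq
    rw [List.getD_eq_getElem _ _ hp] at es
    rw [List.getD_eq_getElem _ _ hq] at er
    exact ⟨s⁻¹ * r, mul_mem (inv_mem hs) hr, by rw [es, er]; group⟩

end Cfsg.Lib.ThCert
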