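import Cfsg.Agent.ThCert.Pres

/-!
Lower bounds for orders from transversals: vectors, and lists of matrices which move them to distinct places and fix
the earlier vectors.
-/

set_option autoImplicit false

namespace Cfsg.Lib.ThCert

/-- The list has no repetitions. -/
def distinct : List ℕ → Bool
  | [] => true
  | a :: l => l.all (fun b => !Nat.beq a b) && distinct l

/-- The levels are in order. -/
def chainLv : List (ℕ × List ℕ) → Bool
  | [] => true
  | (v, T) :: rest => distinct (T.map fun t => mm v t) &&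
      (rest.all fun L => L.2.all fun t => Nat.beq (mm v t) v) && chainLv rest

/-- The product of the sizes. -/
def chainSz : List (ℕ × List ℕ) → ℕ
  | [] => 1
  | (_, T) :: rest => T.length * chainSz rest

theorem distinct_nodup : ∀ {l : List ℕ}, distinct l = true → l.Nodup
  | [], _ => List.nodup_nil
  | a :: l, h => by
    simp only [distinct, Bool.and_eq_true, List.all_eq_true, Bool.not_eq_true'] at h
    exact List.nodup_cons.2 ⟨fun hm => Nat.ne_of_beq_eq_false (h.1 a hm) rfl, distinct_nodup h.2⟩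

theorem chain_set (G : Subgroup P) : ∀ (ls : List (ℕ × List ℕ)), chainLv ls = true →
    (∀ L ∈ ls, ∀ t ∈ L.2, ∃ a ∈ G, El t a) →
    ∃ S : Finset (GL (Fin 26) (ZMod 2)), S.card = chainSz ls ∧ (∀ x ∈ S, ∃ a ∈ G, sigma a = x) ∧
      ∀ v, (∀ L ∈ ls, ∀ t ∈ L.2, mm v t = v) → ∀ x ∈ S, toMat v * (x : Matrix (Fin 26) (Fin 26) (ZMod 2)) = toMat v
  | [], _, _ => ⟨{1}, rfl, fun x hx => ⟨1, G.one_mem, by rw [map_one, Finset.mem_singleton.1 hx]⟩,
      fun v _ x hx => by rw [Finset.mem_singleton.1 hx, Units.val_one, mul_one]⟩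
  | (v, T) :: rest, h, hel => by
    classical
    simp only [chainLv, Bool.and_eq_true, List.all_eq_true] at h
    obtain ⟨⟨hd, hfix⟩, hrest⟩ := h
    obtain ⟨S, hS, hmem, hfx⟩ := chain_set G rest hrest fun L hL => hel L (List.mem_cons_of_mem _ hL)
    have hv : ∀ x ∈ S, toMat v * (x : Matrix (Fin 26) (Fin 26) (ZMod 2)) = toMat v :=
      hfx v fun L hL t ht => Nat.eq_of_beq_eq_true (hfix L hL t ht)
    have hT : ∀ i : Fin T.length, ∃ a ∈ G, El (T.get i) a := fun i => hel (v, T) List.mem_cons_self _ (T.get_mem i)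
    choose a haG haE using hT
    refine ⟨(S ×ˢ (Finset.univ : Finset (Fin T.length))).image fun z => z.1 * sigma (a z.2), ?_, ?_, ?_⟩
    · rw [Finset.card_image_of_injOn, Finset.card_product, hS, Finset.card_univ, Fintype.card_fin, chainSz, mul_comm]
      rintro ⟨x, i⟩ hx ⟨y, j⟩ hy (e : x * sigma (a i) = y * sigma (a j))
      simp only [Finset.coe_product, Set.mem_prod, Finset.mem_coe] at hx hy
      have e' := congrArg (fun z : GL (Fin 26) (ZMod 2) => toMat v * (z : Matrix (Fin 26) (Fin 26) (ZMod 2))) e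
      simp only [Units.val_mul, ← mul_assoc, hv x hx.1, hv y hy.1] at e'
      rw [← haE i, ← haE j, ← toMat_mm, ← toMat_mm] at e'
      have hij : i = j := by
        have := toMat_inj (mm_lt _ _) (mm_lt _ _) e'
        refine Fin.ext ((List.Nodup.getElem_inj_iff (distinct_nodup hd) (hi := by simp) (hj := by simp)).1 ?_)
        simpa using this
      subst hij
      rw [mul_right_cancel e]
    · intro z hz
      obtain ⟨⟨x, i⟩, hx, rfl⟩ := Finset.mem_image.1 hz
      obtain ⟨b, hb, rfl⟩ := hmem x (Finset.mem_product.1 hx).1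
      exact ⟨b * a i, G.mul_mem hb (haG i), map_mul _ _ _⟩
    · intro w hw z hz
      obtain ⟨⟨x, i⟩, hx, rfl⟩ := Finset.mem_image.1 hz
      rw [Units.val_mul, ← mul_assoc, hfx w (fun L hL => hw L (List.mem_cons_of_mem _ hL)) x (Finset.mem_product.1 hx).1,
        ← haE i, ← toMat_mm, hw (v, T) List.mem_cons_self _ (T.get_mem i)]

theorem chain_le (G : Subgroup P) (ls : List (ℕ × List ℕ)) (h : chainLv ls = true)
    (hel : ∀ L ∈ ls, ∀ t ∈ L.2, ∃ a ∈ G, El t a) : chainSz ls ≤ Nat.card (G.map sigma) := by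
  classical
  obtain ⟨S, hS, hmem, -⟩ := chain_set G ls h hel
  rw [← hS, ← Nat.card_eq_finsetCard]
  refine Nat.card_le_card_of_injective (fun x => (⟨x.1, ?_⟩ : G.map sigma))
    fun x y hxy => Subtype.ext (congrArg Subtype.val hxy :)
  obtain ⟨a, ha, e⟩ := hmem x.1 x.2
  exact ⟨a, ha, e⟩

theorem injOn_of_card {G : Subgroup P} {n : ℕ} (hf : Finite G) (h1 : Nat.card G ≤ n)
    (h2 : n ≤ Nat.card (G.map sigma)) : (∀ a ∈ G, sigma a = 1 → a = 1) ∧ Nat.card G = n := by
  let q : G → G.map sigma := fun a => ⟨sigma a, a.1, a.2, rfl⟩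
  have hs : Function.Surjective q := fun ⟨x, a, ha, e⟩ => ⟨⟨a, ha⟩, Subtype.ext e⟩
  have := Finite.of_surjective q hs
  have hle := Nat.card_le_card_of_surjective q hs
  have hb := hs.bijective_of_nat_card_le (h1.trans h2)
  refine ⟨fun a ha e => ?_, le_antisymm h1 (h2.trans hle)⟩
  have := @hb.1 ⟨a, ha⟩ 1 (Subtype.ext (by simp [q, e]))
  exact congrArg Subtype.val this

end Cfsg.Lib.ThCert
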