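import Cfsg.Agent.ThCert.Letters
import Cfsg.Agent.ThCert.Chain
import Cfsg.Agent.ThCert.Data.LChain
import Cfsg.Agent.ThCert.Data.EACheck
import Cfsg.Agent.ThCert.Data.EBCheck
import Cfsg.Agent.ThCert.Data.ELCheck
import Cfsg.Agent.ThCert.Data.ESCheck
import Cfsg.Agent.ThCert.Data.EDCheck
import Cfsg.Agent.ThCert.Data.ECCheck
import Cfsg.Agent.ThCert.Data.EMCheck
import Cfsg.Agent.ThCert.Data.EPCheck
import Cfsg.Agent.ThCert.Data.EWCheck

/-!
The order of the presented group is at most 634023936.
-/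

set_option autoImplicit false
set_option maxRecDepth 100000

namespace Cfsg.Lib.ThCert

/-- The letters of a certificate. -/
def kLet (keep : List ℕ) (l : ℕ) : P := plv (keep.getD l 9)

/-- The subgroup of some letters. -/
def sub (ls : List ℕ) : Subgroup P := Subgroup.closure (plv '' {l | l ∈ ls})

/-- The relators of a certificate are among the words which hold. -/
def relsFine (keep : List ℕ) (extra rels : List (List ℕ)) : Bool :=
  rels.all fun r => (baseWords ++ extra).contains (r.map fun l => keep.getD l 9)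

/-- The inverse map of a certificate agrees with the letters. -/
def keepFine (C : Enum) (keep : List ℕ) : Bool :=
  Nat.beq C.ng keep.length && (List.range C.ng).all fun l =>
    Nat.blt (keep.getD l 9) 9 && Nat.beq (keep.getD (C.inv l) 9) (pinvL (keep.getD l 9))

/-- The subgroup letters of a certificate. -/
def subsFine (C : Enum) (keep ls : List ℕ) : Bool :=
  C.subs.all fun t => ls.contains (keep.getD t.1 9)

theorem plain_sound {C : Enum} {keep ls : List ℕ} {extra : List (List ℕ)} {R : List (List ℕ)}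
    (hiv : C.ivOK = true) (hk : keepFine C keep = true) (hr : relsFine keep extra R = true)
    (hs : subsFine C keep ls = true) (hex : ∀ w ∈ extra, wordVal plv w = 1) :
    C.Sound (kLet keep) (fun _ h => h ∈ sub ls) R := by
  simp only [keepFine, Bool.and_eq_true, List.all_eq_true, List.mem_range, Nat.blt_eq] at hk
  refine ⟨hiv, fun l hl => ?_, (sub ls).one_mem, fun ha hb => (sub ls).mul_mem ha hb,
    fun ha _ => (sub ls).inv_mem ha, fun r hr' => ?_, fun t ht => ?_⟩
  · obtain ⟨h1, h2⟩ := hk.2 l hl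
    rw [kLet, kLet, Nat.eq_of_beq_eq_true h2, plv_inv h1]
  · simp only [relsFine, List.all_eq_true, List.contains_iff_mem, List.mem_append] at hr
    have : wordVal plv (r.map fun l => keep.getD l 9) = 1 := by
      rcases hr r hr' with h | h
      · exact baseWords_one _ h
      · exact hex _ h
    rwa [wordVal, List.map_map] at this
  · simp only [subsFine, List.all_eq_true, List.contains_iff_mem] at hs
    have : kLet keep t.1 ∈ sub ls := Subgroup.subset_closure ⟨_, hs t ht, rfl⟩
    exact ⟨this, (sub ls).inv_mem this⟩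

theorem sub_le_image {C : Enum} {keep : List ℕ} (hk : keepFine C keep = true) :
    sub keep ≤ Subgroup.closure (kLet keep '' Set.Iio C.ng) := by
  simp only [keepFine, Bool.and_eq_true] at hk
  refine Subgroup.closure_mono ?_
  rintro _ ⟨l, hl, rfl⟩
  obtain ⟨i, hi, rfl⟩ := List.getElem_of_mem hl
  exact ⟨i, by rw [Set.mem_Iio, Nat.eq_of_beq_eq_true hk.1]; exact hi, by rw [kLet, List.getD_eq_getElem]⟩

theorem bound_step {C : Enum} {keep ls : List ℕ} {extra R : List (List ℕ)} {spec : List (ℕ × ℕ × Bool)}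
    {n m b : ℕ} {fins tab : Table} (hiv : C.ivOK = true ∧ C.iv.length ≤ C.ng)
    (hfine : keepFine C keep = true ∧ relsFine keep extra R = true ∧ subsFine C keep ls = true)
    (hex : ∀ w ∈ extra, wordVal plv w = 1) (hrot : C.rotsOK R spec = true)
    (hsteps : allRange C.stepOK 0 n = true) (hrules : allRange (C.ruleOK spec.length) 0 n = true)
    (htab : C.tabOK n m fins tab 0 m = true ∧ fins.at' 0 = 0) (hm : 0 < m)
    (hK : Finite (sub ls) ∧ Nat.card (sub ls) ≤ b) : Finite (sub keep) ∧ Nat.card (sub keep) ≤ m * b := by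
  have hS := plain_sound hiv.1 hfine.1 hfine.2.1 hfine.2.2 hex
  have := hK.1
  have h := C.card_le hS hiv.2 hm (C.steps_sound hS hiv.2 hrot hsteps hrules) htab.2 htab.1
    (fun _ _ hh => hh) (sub_le_image hfine.1)
  exact ⟨h.1, h.2.trans (Nat.mul_le_mul_left m hK.2)⟩

theorem sub_nil : Finite (sub []) ∧ Nat.card (sub []) ≤ 1 := by
  have : sub [] = ⊥ := by simp [sub]
  rw [this]
  exact ⟨inferInstance, by simp⟩

theorem sub_s : Finite (sub [5, 6]) ∧ Nat.card (sub [5, 6]) ≤ 7 :=
  bound_step eS_iv (by decide +kernel : keepFine eSC eSKeep = true ∧ relsFine eSKeep [] eSRels = true ∧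
    subsFine eSC eSKeep [] = true) (by simp) eS_rots eS_steps eS_rules eS_tab (by decide +kernel) sub_nil

theorem sub_abc : Finite (sub [0, 1, 2]) ∧ Nat.card (sub [0, 1, 2]) ≤ 24 :=
  bound_step eA_iv (by decide +kernel : keepFine eAC eAKeep = true ∧ relsFine eAKeep [] eARels = true ∧
    subsFine eAC eAKeep [] = true) (by simp) eA_rots eA_steps eA_rules eA_tab (by decide +kernel) sub_nil

theorem sub_abcd : Finite (sub [0, 1, 2, 3]) ∧ Nat.card (sub [0, 1, 2, 3]) ≤ 336 :=
  bound_step eB_iv (by decide +kernel : keepFine eBC eBKeep = true ∧ relsFine eBKeep [] eBRels = true ∧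
    subsFine eBC eBKeep [0, 1, 2] = true) (by simp) eB_rots eB_steps eB_rules eB_tab (by decide +kernel) sub_abc

theorem sub_L_le : Finite (sub [0, 1, 2, 3, 4]) ∧ Nat.card (sub [0, 1, 2, 3, 4]) ≤ 12096 :=
  bound_step eL_iv (by decide +kernel : keepFine eLC eLKeep = true ∧ relsFine eLKeep [] eLRels = true ∧
    subsFine eLC eLKeep [0, 1, 2, 3] = true) (by simp) eL_rots eL_steps eL_rules eL_tab (by decide +kernel) sub_abcd

theorem even_word_mem (w : List ℕ) (hw : ∀ x ∈ w, x < 10) : wordVal (sgn pg) w ∈ sub [0, 1, 2, 3, 4] := by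
  refine list_prod_mem fun a ha => ?_
  obtain ⟨x, hx, rfl⟩ := List.mem_map.1 ha
  have hx' := hw x hx
  rw [← plv_cvL (by omega)]
  refine Subgroup.subset_closure ⟨x / 2, ?_, by rw [cvL, if_pos hx']⟩
  simp only [Set.mem_ofPred_eq, List.mem_cons, List.not_mem_nil, or_false]
  omega

/-- The levels for the group of order 12096, as matrices. -/
def lChain : List (ℕ × List ℕ) := lLevels.map fun L => (L.1, L.2.map mval)

theorem lChain_ok : chainLv lChain = true ∧ chainSz lChain = 12096 ∧
    ∀ L ∈ lLevels, ∀ w ∈ L.2, ∀ x ∈ w, x < 10 := by decide +kernel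

theorem sub_L : (∀ a ∈ sub [0, 1, 2, 3, 4], sigma a = 1 → a = 1) ∧ Nat.card (sub [0, 1, 2, 3, 4]) = 12096 := by
  refine injOn_of_card sub_L_le.1 sub_L_le.2 (lChain_ok.2.1 ▸ chain_le _ lChain lChain_ok.1 fun L hL t ht => ?_)
  simp only [lChain, List.mem_map] at hL
  obtain ⟨L', hL', rfl⟩ := hL
  obtain ⟨w, hw, rfl⟩ := List.mem_map.1 ht
  have hx := lChain_ok.2.2 L' hL' w hw
  exact ⟨_, even_word_mem w hx, El.word fun x h => (hx x h).trans (by norm_num)⟩

/-- The further relator in five of the letters. -/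
def wc : List ℕ := eWW0.map fun l => eWKeep.getD l 9

theorem wc_mem : wordVal plv wc ∈ sub [0, 1, 2, 3, 4] := by
  have hS := plain_sound (C := eWC) (keep := eWKeep) (ls := [0, 1, 2, 3, 4]) (extra := []) (R := eWRels) eW_iv.1
    (by decide +kernel) (by decide +kernel) (by decide +kernel) (by simp)
  obtain ⟨_, h, -⟩ := eWC.trace_sound hS eW_iv.2 (eWC.steps_sound hS eW_iv.2 eW_rots eW_steps eW_rules) eW_trace0
  have e : wordVal plv wc = wordVal (kLet eWKeep) eWW0 := by
    rw [wordVal, wc, List.map_map]; rfl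
  rw [e]
  exact h

/-- The signed word of a letter. -/
def toSigned (l : ℕ) : ℕ := if l < 5 then 2 * l else l + 5

theorem wc_sigma_check : (wc.all fun l => decide (l < 9)) = true ∧ mval (wc.map toSigned) = one26 := by decide +kernel

theorem wc_one : wordVal plv wc = 1 := by
  refine sub_L.1 _ wc_mem ?_
  have hlt : ∀ l ∈ wc, l < 9 := fun l hl => by simpa using List.all_eq_true.1 wc_sigma_check.1 l hl
  have hs : ∀ x ∈ wc.map toSigned, x < 14 := fun x hx => by
    obtain ⟨l, hl, rfl⟩ := List.mem_map.1 hx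
    have := hlt l hl
    unfold toSigned; split_ifs <;> omega
  have e : wordVal (sgn pg) (wc.map toSigned) = wordVal plv wc := by
    simp only [wordVal, List.map_map]
    refine congrArg List.prod (List.map_congr_left fun l hl => ?_)
    have hl' := hlt l hl
    have := plv_cvL (x := toSigned l) (hs _ (List.mem_map_of_mem hl))
    rw [Function.comp_apply, ← this]
    congr 1
    unfold toSigned cvL
    split_ifs <;> omega
  have h := El.word hs
  rw [e, wc_sigma_check.2] at h
  exact (h.same El.one).trans (map_one sigma)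

theorem sub_des : Finite (sub [3, 4, 5, 6]) ∧ Nat.card (sub [3, 4, 5, 6]) ≤ 504 :=
  bound_step eD_iv (by decide +kernel : keepFine eDC eDKeep = true ∧ relsFine eDKeep [] eDRels = true ∧
    subsFine eDC eDKeep [5, 6] = true) (by simp) eD_rots eD_steps eD_rules eD_tab (by decide +kernel) sub_s

theorem sub_cent : Finite (sub [0, 2, 3, 4, 5, 6]) ∧ Nat.card (sub [0, 2, 3, 4, 5, 6]) ≤ 258048 :=
  bound_step (extra := [wc]) eC_iv (by decide +kernel : keepFine eCC eCKeep = true ∧
    relsFine eCKeep [wc] eCRels = true ∧ subsFine eCC eCKeep [3, 4, 5, 6] = true)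
    (by simp [wc_one]) eC_rots eC_steps eC_rules eC_tab (by decide +kernel) sub_des

theorem sub_M : Finite (sub [0, 1, 2, 3, 4, 5, 6]) ∧ Nat.card (sub [0, 1, 2, 3, 4, 5, 6]) ≤ 211341312 :=
  bound_step eM_iv (by decide +kernel : keepFine eMC eMKeep = true ∧ relsFine eMKeep [] eMRels = true ∧
    subsFine eMC eMKeep [0, 2, 3, 4, 5, 6] = true) (by simp) eM_rots eM_steps eM_rules eM_tab (by decide +kernel)
    sub_cent

theorem sub_all : sub [0, 1, 2, 3, 4, 5, 6, 7, 8] = ⊤ := by
  rw [eq_top_iff, ← PresentedGroup.closure_range_of pRels, Subgroup.closure_le]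
  rintro _ ⟨i, rfl⟩
  have e : (PresentedGroup.of i : P) = pg i.val := by
    rw [pg, free7, Fin.ofNat_val_eq_self]; rfl
  rw [e]
  fin_cases i
  · exact Subgroup.subset_closure ⟨0, by simp, rfl⟩
  · exact Subgroup.subset_closure ⟨1, by simp, rfl⟩
  · exact Subgroup.subset_closure ⟨2, by simp, rfl⟩
  · exact Subgroup.subset_closure ⟨3, by simp, rfl⟩
  · exact Subgroup.subset_closure ⟨4, by simp, rfl⟩
  · exact Subgroup.subset_closure ⟨5, by simp, rfl⟩
  · exact Subgroup.subset_closure ⟨7, by simp, rfl⟩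

theorem card_P_le : Finite P ∧ Nat.card P ≤ 634023936 := by
  have h := bound_step eP_iv (by decide +kernel : keepFine ePC ePKeep = true ∧ relsFine ePKeep [] ePRels = true ∧
    subsFine ePC ePKeep [0, 1, 2, 3, 4, 5, 6] = true) (by simp) eP_rots eP_steps eP_rules eP_tab (by decide +kernel)
    sub_M
  rw [show ePKeep = [0, 1, 2, 3, 4, 5, 6, 7, 8] from rfl, sub_all] at h
  exact ⟨@Finite.of_equiv _ _ h.1 Subgroup.topEquiv.toEquiv, Subgroup.card_top (G := P) ▸ h.2⟩

end Cfsg.Lib.ThCert
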