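import Cfsg.Agent.ThCert.Segs
import Cfsg.Agent.ThCert.Data.FactK
import Cfsg.Agent.ThCert.Data.FactK2
import Cfsg.Agent.ThCert.Data.FactS
import Cfsg.Agent.ThCert.Data.FactDefs

/-!
Facts about double cosets, and their check.
-/

set_option autoImplicit false
set_option maxRecDepth 100000

namespace Cfsg.Lib.ThCert

/-- The source coset of a fact. -/
def fI (e : ℕ) : ℕ := Nat.land (fctInfo.at' e) 15
/-- The target coset of a fact. -/
def fJ (e : ℕ) : ℕ := Nat.land (Nat.shiftRight (fctInfo.at' e) 4) 15
/-- One for stabilising elements. -/
def fS (e : ℕ) : ℕ := Nat.shiftRight (fctInfo.at' e) 8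
/-- The first element of a fact. -/
def fK (e : ℕ) : ℕ := fctK.at' e
/-- The second element of a fact. -/
def fK2 (e : ℕ) : ℕ := fctK2.at' e

/-- An element of the intersection by its digits, with the first and second members of the pairs. -/
def digA (h : ℕ) : ℕ :=
  mm (hTabA2.at' (Nat.shiftRight h 11)) (mm (hTabA1.at' (Nat.land (Nat.shiftRight h 7) 15)) (hTabA0.at' (Nat.land h 127)))

/-- The second member. -/
def digB (h : ℕ) : ℕ :=
  mm (hTabB2.at' (Nat.shiftRight h 11)) (mm (hTabB1.at' (Nat.land (Nat.shiftRight h 7) 15)) (hTabB0.at' (Nat.land h 127)))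

/-- The digits are in range. -/
def digOK (h : ℕ) : Bool :=
  Nat.blt (Nat.land h 127) 96 && Nat.blt (Nat.land (Nat.shiftRight h 7) 15) 12 && Nat.blt (Nat.shiftRight h 11) 32

/-- The inverse of the element on the path to a point. -/
def pathInv : ℕ → ℕ → ℕ
  | 0, _ => one26
  | f + 1, x => bif Nat.beq x 0 then one26 else
      mm (gmat (Nat.xor (Nat.shiftRight (parTab.at' x) 16) 1)) (pathInv f (Nat.land (parTab.at' x) 0xffff))

/-- A start element, by point and digits. -/
def startEl (x h : ℕ) : ℕ := mm (pathInv 40 x) (digA h)

/-- The start data are in range. -/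
def startOK (x h : ℕ) : Bool := digOK h && Nat.blt x ptN

/-- A state. -/
structure Cos where
  n : ℕ
  k : ℕ

/-- A citation: a fact, digits, and stabilising facts. -/
structure Cite where
  e : ℕ
  h : ℕ
  gw : List ℕ

/-- The product of stabilising facts at a coset. -/
def gwProd (k n : ℕ) : List ℕ → Option ℕ
  | [] => some one26
  | s :: l => bif Nat.blt s k && Nat.beq (fS s) 1 && Nat.beq (fI s) n then
      match gwProd k n l with
      | some g => some (mm (fK s) g)
      | none => none
    else none

/-- A step along a cited fact. -/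
def cstep (k : ℕ) (c : Cite) (s : Cos) : Option Cos :=
  bif Nat.blt c.e k && Nat.beq (fS c.e) 0 && Nat.beq (fI c.e) s.n && digOK c.h then
    bif Nat.beq s.n 0 then some ⟨fJ c.e, mm (fK2 c.e) (digB c.h)⟩
    else match gwProd k s.n c.gw with
      | some g => bif Nat.beq (mm g (mm (fK c.e) (digA c.h))) s.k then some ⟨fJ c.e, mm (fK2 c.e) (digB c.h)⟩ else none
      | none => none
  else none

/-- Steps, each followed by a segment. -/
def crun (k : ℕ) : List Cite → List ℕ → Cos → Option Cos
  | [], [], s => some s
  | c :: cs, A :: as, s => match cstep k c s with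
    | some t => crun k cs as ⟨t.n, mm t.k A⟩
    | none => none
  | _, _, _ => none

/-- The conclusion of a derivation of `a u = b`. -/
def concl (k : ℕ) (c : Cite) (a b : Cos) : Bool :=
  bif Nat.beq c.e k then
    Nat.beq (fS k) 0 && Nat.beq (fI k) a.n && Nat.beq (fJ k) b.n && digOK c.h && Nat.beq (mm (fK2 k) (digB c.h)) b.k &&
      (match gwProd k a.n c.gw with
        | some g => Nat.beq (mm g (mm (fK k) (digA c.h))) a.k
        | none => false)
  else match cstep k c a with
    | some a' => Nat.beq (fS k) 1 && Nat.beq (fI k) a'.n && Nat.beq a'.n b.n && Nat.beq (mm (fK k) b.k) a'.k &&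
        Nat.beq (mm (fK k) (fK2 k)) one26
    | none => false

/-- The inverses of segments in reverse order. -/
def invM : List ℕ → List ℕ
  | [] => []
  | [a] => [a]
  | a :: b :: l => invM (b :: l) ++ [mm acM a]

/-- The segments of the relators. -/
def relSegs : List (List ℕ) := fctRels.map segsM

/-- The inverses of the segments, as given by words. -/
def invWord (w : List ℕ) : List ℕ := w.reverse.map fun x => Nat.xor x 1

/-- The segments split at the positions of the last generator. -/
def splitU : List ℕ → List (List ℕ)
  | [] => [[]]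
  | x :: w => if x = 14 then [] :: splitU w else if x = 15 then [] :: (match splitU w with
      | [] => [[0, 4]]
      | s :: r => ([0, 4] ++ s) :: r)
    else match splitU w with
      | [] => [[x]]
      | s :: r => (x :: s) :: r

/-- The inverses of the segments of the relators. -/
def relInvs : List (List ℕ) := fctRels.map fun w => (splitU w).map fun s => mval (invWord s)

/-- The products of segments and their inverses. -/
def relInvOK : Bool :=
  Nat.beq relSegs.length relInvs.length && (List.range relSegs.length).all fun r =>
    let A := relSegs.getD r []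
    let I := relInvs.getD r []
    Nat.beq A.length I.length && (List.range A.length).all fun i => Nat.beq (mm (A.getD i 0) (I.getD i 0)) one26

/-- Fields of the stream. -/
def fields (off : ℕ) : ℕ → List ℕ
  | 0 => []
  | n + 1 => fctStream.at' off :: fields (Nat.add off 1) n

/-- Read citations. -/
def readCites : ℕ → List ℕ → Option (List Cite × List ℕ)
  | 0, l => some ([], l)
  | n + 1, e :: h :: g :: l => match readCites n (l.drop g) with
    | some (cs, r) => some (⟨e, h, l.take g⟩ :: cs, r)
    | none => none
  | _ + 1, _ => none

/-- The two walks around a relator, and the conclusion. -/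
def relCase (k r n x h p q : ℕ) (cs : List Cite) : Bool :=
  startOK x h && match relSegs.getD r [], (relInvs.getD r []).drop (p + 1) with
    | A0 :: As, I => match invM I with
      | B0 :: Bs =>
        let k0 := startEl x h
        Nat.beq cs.length (p + q + 1) && Nat.beq Bs.length q &&
          match crun k (cs.take p) (As.take p) ⟨n, mm k0 A0⟩, crun k ((cs.drop p).take q) Bs ⟨n, mm k0 B0⟩, cs.getLast? with
          | some a, some b, some c => concl k c a b
          | _, _, _ => false
      | [] => false
    | [], _ => false

/-- The check of an entry. -/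
def fctOK (k : ℕ) : Bool :=
  let o := fctOff.at' k
  match fields (Nat.land o 0xfffff) (Nat.shiftRight o 20) with
  | [0, x, h] =>
    let j := fJ k
    let d := defTab.at' (j - 1)
    Nat.beq (fS k) 0 && Nat.blt 0 j && Nat.blt j 11 && Nat.beq (fI k) (Nat.land d 15) && Nat.blt (fI k) j &&
      Nat.beq (fK k) (Nat.shiftRight d 4) && Nat.beq (fK2 k) one26 && startOK x h && Nat.beq (fK k) (startEl x h)
  | 1 :: e0 :: l => Nat.blt e0 k && Nat.beq (fS e0) 0 &&
      match readCites 1 l with
      | some ([c], []) => concl k c ⟨fI e0, fK e0⟩ ⟨fJ e0, fK2 e0⟩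
      | _ => false
  | 2 :: r :: n :: x :: h :: p :: q :: l =>
    match readCites (p + q + 1) l with
    | some (cs, []) => relCase k r n x h p q cs
    | _ => false
  | [3, e, h] => Nat.blt e k && Nat.beq (fS e) 0 && Nat.beq (fI e) 0 && digOK h && Nat.beq (fS k) 1 &&
      Nat.beq (fI k) (fJ e) && Nat.beq (mm (fK k) (fK2 e)) (mm (fK2 e) (digB h)) &&
      Nat.beq (mm (fK k) (fK2 k)) one26
  | _ => false

end Cfsg.Lib.ThCert
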