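import Cfsg.Agent.ThCert.Data.Cover1
import Cfsg.Agent.ThCert.Data.Cover2
import Cfsg.Agent.ThCert.Data.Cover3
import Cfsg.Agent.ThCert.Data.Cover4
import Cfsg.Agent.ThCert.Data.Cover5
import Cfsg.Agent.ThCert.Data.Cover6
import Cfsg.Agent.ThCert.Data.Cover7
import Cfsg.Agent.ThCert.Data.Cover8
import Cfsg.Agent.ThCert.Data.Cover9
import Cfsg.Agent.ThCert.Data.Cover10
import Cfsg.Agent.ThCert.Check

/-!
Orbits of the stabilisers of cosets on the points, and lower bounds for their orders.
-/

set_option autoImplicit false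
set_option maxRecDepth 100000

namespace Cfsg.Lib.ThCert

/-- The data of a coset. -/
structure CovData where
  n : ℕ
  ord : ℕ
  tree : Table
  gens : List ℕ
  levels : List (ℕ × List (List ℕ))

/-- A point of an orbit leads to a listed coset. -/
def CovData.pointOK (C : CovData) (x : ℕ) : Bool :=
  let e := C.tree.at' x
  let d := Nat.shiftRight e 18
  bif Nat.beq d 0 then
    Nat.blt e fctN && Nat.beq (fS e) 0 && Nat.beq (fI e) C.n && Nat.blt (fJ e) 11 &&
      into 0 (mm (ptRows x) (fK e))
  else
    let y := Nat.land e 32767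
    let m := Nat.land (Nat.shiftRight e 15) 7
    Nat.blt y ptN && Nat.blt (Nat.shiftRight (C.tree.at' y) 18) d && Nat.blt m C.gens.length &&
      into x (mm (ptRows y) (fK2 (C.gens.getD m 0)))

/-- The matrix of a word in the stabilising facts. -/
def CovData.gval (C : CovData) : List ℕ → ℕ
  | [] => one26
  | i :: w => mm (fK (C.gens.getD i 0)) (C.gval w)

/-- The levels as matrices. -/
def CovData.chain (C : CovData) : List (ℕ × List ℕ) := C.levels.map fun L => (L.1, L.2.map C.gval)

/-- The stabiliser part. -/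
def CovData.stabOK (C : CovData) : Bool :=
  (C.gens.all fun g => Nat.blt g fctN && Nat.beq (fS g) 1 && Nat.beq (fI g) C.n) &&
    (C.levels.all fun L => L.2.all fun w => w.all fun i => Nat.blt i C.gens.length) &&
    chainLv C.chain && Nat.beq (chainSz C.chain) C.ord && Nat.blt 0 C.ord

/-- The data of coset 1. -/
def cov1 : CovData := ⟨1, 36864, cov1Tree, cov1Gens, cov1Levels⟩

/-- The data of coset 2. -/
def cov2 : CovData := ⟨2, 13824, cov2Tree, cov2Gens, cov2Levels⟩

/-- The data of coset 3. -/
def cov3 : CovData := ⟨3, 54, cov3Tree, cov3Gens, cov3Levels⟩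

/-- The data of coset 4. -/
def cov4 : CovData := ⟨4, 288, cov4Tree, cov4Gens, cov4Levels⟩

/-- The data of coset 5. -/
def cov5 : CovData := ⟨5, 6, cov5Tree, cov5Gens, cov5Levels⟩

/-- The data of coset 6. -/
def cov6 : CovData := ⟨6, 486, cov6Tree, cov6Gens, cov6Levels⟩

/-- The data of coset 7. -/
def cov7 : CovData := ⟨7, 126, cov7Tree, cov7Gens, cov7Levels⟩

/-- The data of coset 8. -/
def cov8 : CovData := ⟨8, 78, cov8Tree, cov8Gens, cov8Levels⟩

/-- The data of coset 9. -/
def cov9 : CovData := ⟨9, 72, cov9Tree, cov9Gens, cov9Levels⟩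

/-- The data of coset 10. -/
def cov10 : CovData := ⟨10, 3528, cov10Tree, cov10Gens, cov10Levels⟩

/-- The fact at the first coset. -/
def firstFact : ℕ := 1

end Cfsg.Lib.ThCert
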