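import Cfsg.Agent.ThCert.MChk
import Cfsg.Agent.ThCert.CoverDef
import Cfsg.Agent.ThCert.Data.FixData

/-!
Checks for the members of the class in the stabilisers of cosets.
-/

set_option autoImplicit false
set_option maxRecDepth 100000
set_option exponentiation.threshold 700

namespace Cfsg.Lib.ThCert

/-- The matrix of the inverse of a word in the stabilising facts. -/
def CovData.givl (C : CovData) : List ℕ → ℕ
  | [] => one26
  | i :: w => mm (C.givl w) (fK2 (C.gens.getD i 0))

/-- The levels with inverses. -/
def CovData.ichain (C : CovData) : List (ℕ × List (ℕ × ℕ)) :=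
  C.levels.map fun L => (L.1, L.2.map fun w => (C.gval w, C.givl w))

/-- Whether a matrix is a product of members of the levels. -/
def siftCh : List (ℕ × List (ℕ × ℕ)) → ℕ → Bool
  | [], p => Nat.beq p one26
  | (v, T) :: rest, p => T.any fun t => Nat.beq (mm v t.1) (mm v p) && siftCh rest (mm p t.2)

/-- The data of a coset by number. -/
def covOf : ℕ → CovData
  | 1 => cov1
  | 2 => cov2
  | 3 => cov3
  | 4 => cov4
  | 5 => cov5
  | 6 => cov6
  | 7 => cov7
  | 8 => cov8
  | 9 => cov9
  | _ => cov10

/-- An orbit by number. -/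
def orbOf (k : ℕ) : ℕ × List (ℕ × ℕ × ℕ) := fixOrbs.getD k (0, [])

/-- The members listed at a coset. -/
def fixAt (n : ℕ) : List ℕ := (fixOrbs.filter fun o => Nat.beq o.1 n).flatMap fun o => o.2.map Prod.fst

/-- All other members of the class are outside. -/
def outsideOK (n : ℕ) : Bool :=
  let ch := (covOf n).ichain
  (List.range 819).all fun i => (fixAt n).any (Nat.beq i) || !siftCh ch (clsMats.getD i 0)

/-- An orbit is closed under the generators and connected. -/
def orbitOK (k : ℕ) : Bool :=
  let C := covOf (orbOf k).1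
  let O := (orbOf k).2
  let G := C.gens
  Nat.blt 0 (orbOf k).1 && Nat.blt (orbOf k).1 11 && Nat.blt 0 O.length && (O.all fun e => Nat.blt e.1 819) &&
    distinct (O.map Prod.fst) &&
    ((List.range O.length).all fun p =>
      let e := O.getD p (0, 0, 0)
      Nat.beq p 0 || (Nat.blt e.2.1 p && Nat.blt e.2.2 G.length &&
        Nat.beq (mm (fK2 (G.getD e.2.2 0)) (mm (clsMats.getD (O.getD e.2.1 (0, 0, 0)).1 0) (fK (G.getD e.2.2 0))))
          (clsMats.getD e.1 0))) &&
    (O.all fun e => G.all fun g =>
      (O.any fun f => Nat.beq (mm (fK2 g) (mm (clsMats.getD e.1 0) (fK g))) (clsMats.getD f.1 0)) &&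
        (O.any fun f => Nat.beq (mm (fK g) (mm (clsMats.getD e.1 0) (fK2 g))) (clsMats.getD f.1 0)))

theorem orbit_chk : (List.range 5).all orbitOK = true ∧ fixOrbs.length = 5 := by decide +kernel

theorem outside_chk : ((List.range 10).all fun n => outsideOK (n + 1)) = true := by decide +kernel

end Cfsg.Lib.ThCert
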