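import Cfsg.Agent.ThCert.Tree

/-!
Certificates for enumerations of cosets with labels: each fact says that a named coset times a letter, or times
nothing, is an element of a subgroup times another named coset, and gives a label of this element.
-/

set_option autoImplicit false

namespace Cfsg.Lib.ThCert

/-- A certificate. -/
structure Enum where
  ng : ℕ
  iv : List ℕ
  edges : Table
  pars : Table
  rots : Table
  lab : ℕ → ℕ × ℕ
  subs : List (ℕ × ℕ × ℕ)
  rule : Table
  just : Table
  mul : ℕ → ℕ → ℕ
  one : ℕ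

variable (C : Enum)

/-- Source of a fact. -/
def Enum.eu (i : ℕ) : ℕ := Nat.land (C.edges.at' i) 0xffffff
/-- Target of a fact. -/
def Enum.ev (i : ℕ) : ℕ := Nat.land (Nat.shiftRight (C.edges.at' i) 24) 0xffffff
/-- Letter of a fact; the value `ng` is the empty letter. -/
def Enum.el (i : ℕ) : ℕ := Nat.shiftRight (C.edges.at' i) 48
/-- The inverse of a letter. -/
def Enum.inv (l : ℕ) : ℕ := C.iv.getD l C.ng

/-- The letters as a code in base sixteen with digits shifted by one. -/
def Enum.push (l code : ℕ) : ℕ := bif Nat.blt l C.ng then Nat.add (Nat.mul 16 code) (Nat.add l 1) else code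

/-- The code of a word. -/
def wordCode (w : List ℕ) : ℕ := w.foldl (fun c l => 16 * c + (l + 1)) 0

/-- A position on a path. -/
structure Pos where
  cur : ℕ
  code : ℕ
  acc : ℕ

/-- Follow references to facts below the bound. -/
def Enum.walk (bound : ℕ) : List ℕ → Pos → Option Pos
  | [], s => some s
  | r :: rs, s =>
    let e := Nat.shiftRight r 1
    bif Nat.blt e bound then
      bif Nat.beq (Nat.land r 1) 0 then
        bif Nat.beq (C.eu e) s.cur then
          Enum.walk bound rs ⟨C.ev e, C.push (C.el e) s.code, C.mul s.acc (C.lab e).1⟩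
        else none
      else
        bif Nat.beq (C.ev e) s.cur then
          Enum.walk bound rs ⟨C.eu e, C.push (C.inv (C.el e)) s.code, C.mul s.acc (C.lab e).2⟩
        else none
    else none

/-- References packed in a number. -/
def unpackRefs : ℕ → ℕ → List ℕ
  | 0, _ => []
  | f + 1, n => bif Nat.beq n 0 then [] else Nat.sub (Nat.land n 0xffffff) 1 :: unpackRefs f (Nat.shiftRight n 24)

/-- The check of a fact: rule `0` is a definition, `1` a subgroup fact, the others name rotated relators. -/
def Enum.stepOK (i : ℕ) : Bool :=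
  let r := C.rule.at' i
  let pq := C.lab i
  bif Nat.beq r 0 then
    Nat.blt (C.eu i) (C.ev i) && Nat.blt (C.el i) C.ng && Nat.beq (C.pars.at' (C.ev i)) i && Nat.beq pq.1 C.one &&
      Nat.beq pq.2 C.one
  else bif Nat.beq r 1 then
    Nat.beq (C.eu i) 0 && Nat.beq (C.ev i) 0 && Nat.blt (C.el i) C.ng &&
      C.subs.any (fun t => Nat.beq t.1 (C.el i) && Nat.beq t.2.1 pq.1 && Nat.beq t.2.2 pq.2)
  else
    match C.walk i (unpackRefs 64 (C.just.at' i)) ⟨C.eu i, 0, C.one⟩ with
    | some s => Nat.beq s.cur (C.ev i) && Nat.beq (C.push (C.inv (C.el i)) s.code) (C.rots.at' (Nat.sub r 2)) &&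
        Nat.beq pq.1 s.acc && Nat.beq (C.mul pq.1 pq.2) C.one
    | none => false

/-- The representatives of the names. -/
def Enum.rep {G : Type*} [Group G] (im : ℕ → G) (n : ℕ) : G :=
  if h : C.eu (C.pars.at' n) < n ∧ C.ev (C.pars.at' n) = n then
    Enum.rep im (C.eu (C.pars.at' n)) * im (C.el (C.pars.at' n))
  else 1
  termination_by n
  decreasing_by exact h.1

/-- The value of a word. -/
def wordVal {G : Type*} [Group G] (im : ℕ → G) (w : List ℕ) : G := (w.map im).prod

/-- The inverse of a word. -/
def Enum.wordInv (w : List ℕ) : List ℕ := w.reverse.map C.inv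

/-- The rotation table agrees with rotations of the relators and their inverses. -/
def Enum.rotsOK (R : List (List ℕ)) (spec : List (ℕ × ℕ × Bool)) : Bool :=
  (List.range spec.length).all fun k =>
    match spec[k]? with
    | some (i, s, b) =>
      Nat.beq (C.rots.at' k) (wordCode ((bif b then C.wordInv (R.getD i []) else R.getD i []).rotate s)) &&
        (R.getD i []).all (fun l => Nat.blt l C.ng)
    | none => false

/-- The rules in use are within the table of rotations. -/
def Enum.ruleOK (n i : ℕ) : Bool := Nat.blt (C.rule.at' i) (n + 2)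

/-- The letters and their inverses are in range. -/
def Enum.ivOK : Bool :=
  Nat.ble C.ng 15 && (List.range C.ng).all fun l => Nat.blt (C.inv l) C.ng && Nat.beq (C.inv (C.inv l)) l

theorem wordCode_inj : ∀ {w w' : List ℕ}, (∀ l ∈ w, l < 15) → (∀ l ∈ w', l < 15) → wordCode w = wordCode w' → w = w' := by
  have key : ∀ (w : List ℕ) (l : ℕ), wordCode (w ++ [l]) = 16 * wordCode w + (l + 1) := fun w l => by
    simp [wordCode, List.foldl_append]
  intro w
  induction w using List.reverseRecOn with
  | nil =>
    intro w' _ h' h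
    induction w' using List.reverseRecOn with
    | nil => rfl
    | append_singleton w' l _ => rw [key] at h; simp [wordCode] at h
  | append_singleton w l ih =>
    intro w' h0 h' h
    induction w' using List.reverseRecOn with
    | nil => rw [key] at h; simp [wordCode] at h
    | append_singleton w' l' _ =>
      rw [key, key] at h
      have h1 := h0 l (by simp)
      have h2 := h' l' (by simp)
      obtain rfl : l = l' := by omega
      have e : wordCode w = wordCode w' := by omega
      rw [ih (fun a ha => h0 a (List.mem_append_left [l] ha)) (fun a ha => h' a (List.mem_append_left [l] ha)) e]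

variable {G : Type*} [Group G] (im : ℕ → G) (Q : ℕ → G → Prop)

/-- The value of a letter that may be empty. -/
def Enum.lval (l : ℕ) : G := if l < C.ng then im l else 1

/-- A fact holds. -/
def Enum.Holds (i : ℕ) : Prop :=
  ∃ h : G, Q (C.lab i).1 h ∧ Q (C.lab i).2 h⁻¹ ∧ C.rep im (C.eu i) * C.lval im (C.el i) = h * C.rep im (C.ev i)

/-- The hypotheses on letters and labels. -/
structure Enum.Sound (R : List (List ℕ)) : Prop where
  iv : C.ivOK = true
  inv : ∀ l < C.ng, im (C.inv l) = (im l)⁻¹
  one : Q C.one 1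
  mul : ∀ {p q : ℕ} {g h : G}, Q p g → Q q h → Q (C.mul p q) (g * h)
  cancel : ∀ {p q : ℕ} {g : G}, Q p g → C.mul p q = C.one → Q q g⁻¹
  rel : ∀ r ∈ R, wordVal im r = 1
  sub : ∀ t ∈ C.subs, Q t.2.1 (im t.1) ∧ Q t.2.2 (im t.1)⁻¹

variable {C} {im} {Q} {R : List (List ℕ)}

theorem Enum.Sound.inv_lt (S : C.Sound im Q R) {l : ℕ} (hl : l < C.ng) : C.inv l < C.ng ∧ C.inv (C.inv l) = l := by
  have h := S.iv
  simp only [Enum.ivOK, Bool.and_eq_true, List.all_eq_true, List.mem_range, Nat.blt_eq] at h
  exact ⟨(h.2 l hl).1, Nat.eq_of_beq_eq_true (h.2 l hl).2⟩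

theorem Enum.Sound.ng_le (S : C.Sound im Q R) : C.ng ≤ 15 := by
  have h := S.iv
  simp only [Enum.ivOK, Bool.and_eq_true] at h
  exact Nat.le_of_ble_eq_true h.1

theorem Enum.inv_of_ge {l : ℕ} (S : C.Sound im Q R) (h : ¬l < C.ng) (hl : C.iv.length ≤ C.ng) : ¬C.inv l < C.ng := by
  rw [Enum.inv, List.getD_eq_default _ _ (by omega)]
  exact lt_irrefl _

theorem Enum.lval_inv (S : C.Sound im Q R) (hl : C.iv.length ≤ C.ng) (l : ℕ) :
    C.lval im (C.inv l) = (C.lval im l)⁻¹ := by
  by_cases h : l < C.ng
  · rw [Enum.lval, Enum.lval, if_pos h, if_pos (S.inv_lt h).1, S.inv l h]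
  · rw [Enum.lval, Enum.lval, if_neg h, if_neg (Enum.inv_of_ge S h hl), inv_one]

theorem Enum.push_code (l : ℕ) (w : List ℕ) :
    C.push l (wordCode w) = wordCode (if l < C.ng then w ++ [l] else w) := by
  unfold Enum.push
  by_cases h : l < C.ng
  · rw [show Nat.blt l C.ng = true by simpa using h, if_pos h]
    simp [wordCode, List.foldl_append]
  · rw [show Nat.blt l C.ng = false from Bool.eq_false_iff.2 fun h' => h (Nat.blt_eq ▸ h'), if_neg h]
    rfl

theorem Enum.wordVal_push (l : ℕ) (w : List ℕ) :
    wordVal im (if l < C.ng then w ++ [l] else w) = wordVal im w * C.lval im l := by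
  unfold Enum.lval
  split_ifs <;> simp [wordVal]

theorem Enum.walk_sound (S : C.Sound im Q R) (hl : C.iv.length ≤ C.ng) {bound : ℕ}
    (hold : ∀ i < bound, C.Holds im Q i) : ∀ (rs : List ℕ) (s t : Pos) (start : ℕ) (w : List ℕ) (h : G),
    (∀ l ∈ w, l < 15) → s.code = wordCode w → Q s.acc h → C.rep im start * wordVal im w = h * C.rep im s.cur →
    C.walk bound rs s = some t →
    ∃ (w' : List ℕ) (h' : G), (∀ l ∈ w', l < 15) ∧ t.code = wordCode w' ∧ Q t.acc h' ∧
      C.rep im start * wordVal im w' = h' * C.rep im t.cur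
  | [], s, t, start, w, h, hw, hc, hQ, he, hwk => by
    simp only [Enum.walk, Option.some.injEq] at hwk
    subst hwk
    exact ⟨w, h, hw, hc, hQ, he⟩
  | r :: rs, s, t, start, w, h, hw, hc, hQ, he, hwk => by
    have hng := S.ng_le
    simp only [Enum.walk] at hwk
    cases hb : Nat.blt (Nat.shiftRight r 1) bound
    · simp only [hb, cond_false] at hwk
      exact absurd hwk (by simp)
    simp only [hb, cond_true] at hwk
    generalize Nat.shiftRight r 1 = e at hwk hb
    obtain ⟨g, hp, hq, hg⟩ := hold e (by rwa [Nat.blt_eq] at hb)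
    have hlet : ∀ l x, x ∈ (if l < C.ng then w ++ [l] else w) → x < 15 := by
      intro l x hx
      split_ifs at hx with hlt
      · rcases List.mem_append.1 hx with hx | hx
        · exact hw x hx
        · rw [List.mem_singleton] at hx; omega
      · exact hw x hx
    cases hd : Nat.beq (Nat.land r 1) 0
    all_goals simp only [hd, cond_true, cond_false] at hwk
    · cases hu : Nat.beq (C.ev e) s.cur
      · simp only [hu, cond_false] at hwk
        exact absurd hwk (by simp)
      simp only [hu, cond_true] at hwk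
      refine Enum.walk_sound S hl hold rs _ t start _ (h * g⁻¹) (hlet (C.inv (C.el e))) ?_ (S.mul hQ hq) ?_ hwk
      · rw [← C.push_code, ← hc]
      · show _ = _ * C.rep im (C.eu e)
        rw [Enum.wordVal_push, ← mul_assoc, he, C.lval_inv S hl, ← Nat.eq_of_beq_eq_true hu]
        have : C.rep im (C.eu e) = g * C.rep im (C.ev e) * (C.lval im (C.el e))⁻¹ := by
          rw [← hg, mul_inv_cancel_right]
        rw [this]
        group
    · cases hu : Nat.beq (C.eu e) s.cur
      · simp only [hu, cond_false] at hwk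
        exact absurd hwk (by simp)
      simp only [hu, cond_true] at hwk
      refine Enum.walk_sound S hl hold rs _ t start _ (h * g) (hlet (C.el e)) ?_ (S.mul hQ hp) ?_ hwk
      · rw [← C.push_code, ← hc]
      · show _ = _ * C.rep im (C.ev e)
        rw [Enum.wordVal_push, ← mul_assoc, he, ← Nat.eq_of_beq_eq_true hu, mul_assoc, hg, mul_assoc]

theorem wordVal_rotate {w : List ℕ} (h : wordVal im w = 1) (n : ℕ) : wordVal im (w.rotate n) = 1 := by
  unfold wordVal at h ⊢
  rw [List.rotate_eq_drop_append_take_mod, List.map_append, List.prod_append]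
  rw [← List.take_append_drop (n % w.length) w, List.map_append, List.prod_append] at h
  exact mul_eq_one_comm.1 h

theorem Enum.wordVal_wordInv (S : C.Sound im Q R) : ∀ {w : List ℕ}, (∀ l ∈ w, l < C.ng) →
    wordVal im (C.wordInv w) = (wordVal im w)⁻¹
  | [], _ => by simp [wordVal, Enum.wordInv]
  | a :: w, h => by
    have := Enum.wordVal_wordInv S (w := w) fun l hl => h l (List.mem_cons_of_mem a hl)
    simp only [wordVal, Enum.wordInv, List.map_reverse, List.map_map] at this
    simp only [wordVal, Enum.wordInv, List.reverse_cons, List.map_append, List.map_reverse, List.map_map,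
      List.prod_append, List.map_cons, List.map_nil, List.prod_cons, List.prod_nil, mul_one, mul_inv_rev, this,
      S.inv a (h a List.mem_cons_self)]

theorem Enum.rot_sound (S : C.Sound im Q R) {spec : List (ℕ × ℕ × Bool)} (hrot : C.rotsOK R spec = true) {k : ℕ}
    (hk : k < spec.length) : ∃ w : List ℕ, (∀ l ∈ w, l < 15) ∧ C.rots.at' k = wordCode w ∧ wordVal im w = 1 := by
  have hng := S.ng_le
  have h := List.all_eq_true.1 hrot k (List.mem_range.2 hk)
  rw [List.getElem?_eq_getElem hk] at h
  rcases e : spec[k] with ⟨i, s, b⟩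
  rw [e] at h
  simp only [Bool.and_eq_true, List.all_eq_true, Nat.blt_eq] at h
  refine ⟨_, ?_, Nat.eq_of_beq_eq_true h.1, wordVal_rotate ?_ s⟩
  · intro l hl
    rw [List.mem_rotate] at hl
    cases b
    · exact lt_of_lt_of_le (h.2 l hl) hng
    · simp only [cond_true, Enum.wordInv, List.mem_map, List.mem_reverse] at hl
      obtain ⟨a, ha, rfl⟩ := hl
      exact lt_of_lt_of_le (S.inv_lt (h.2 a ha)).1 hng
  · have hrel : wordVal im (R.getD i []) = 1 := by
      rcases lt_or_ge i R.length with hi | hi
      · rw [List.getD_eq_getElem _ _ hi]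
        exact S.rel _ (List.getElem_mem hi)
      · rw [List.getD_eq_default _ _ hi]
        simp [wordVal]
    cases b
    · exact hrel
    · rw [cond_true, Enum.wordVal_wordInv S h.2, hrel, inv_one]

theorem Enum.step_sound (S : C.Sound im Q R) (hl : C.iv.length ≤ C.ng) {spec : List (ℕ × ℕ × Bool)}
    (hrot : C.rotsOK R spec = true) {i : ℕ} (hs : C.stepOK i = true) (hb : C.ruleOK spec.length i = true)
    (hold : ∀ j < i, C.Holds im Q j) : C.Holds im Q i := by
  simp only [Enum.ruleOK, Nat.blt_eq] at hb
  simp only [Enum.stepOK] at hs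
  cases h0 : Nat.beq (C.rule.at' i) 0 with
  | true =>
    simp only [h0, cond_true, Bool.and_eq_true, Nat.blt_eq] at hs
    obtain ⟨⟨⟨⟨hlt, hll⟩, hp⟩, h1⟩, h2⟩ := hs
    refine ⟨1, by rw [Nat.eq_of_beq_eq_true h1]; exact S.one, by rw [inv_one, Nat.eq_of_beq_eq_true h2]; exact S.one, ?_⟩
    conv_rhs => rw [Enum.rep]
    rw [Nat.eq_of_beq_eq_true hp, dif_pos ⟨hlt, rfl⟩, one_mul, Enum.lval, if_pos hll]
  | false =>
    simp only [h0, cond_false] at hs
    cases h1 : Nat.beq (C.rule.at' i) 1 with
    | true =>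
      simp only [h1, cond_true, Bool.and_eq_true, List.any_eq_true, Nat.blt_eq] at hs
      obtain ⟨⟨⟨hu, hv⟩, hll⟩, t, ht, ⟨ht1, ht2⟩, ht3⟩ := hs
      have e : C.rep im 0 = 1 := by rw [Enum.rep, dif_neg (by omega)]
      obtain ⟨s1, s2⟩ := S.sub t ht
      refine ⟨im t.1, Nat.eq_of_beq_eq_true ht2 ▸ s1, Nat.eq_of_beq_eq_true ht3 ▸ s2, ?_⟩
      rw [Nat.eq_of_beq_eq_true hu, Nat.eq_of_beq_eq_true hv, e, Nat.eq_of_beq_eq_true ht1, Enum.lval, if_pos hll,
        one_mul, mul_one]
    | false =>
      simp only [h1, cond_false] at hs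
      have h2 : 2 ≤ C.rule.at' i := by
        have := Nat.ne_of_beq_eq_false h0
        have := Nat.ne_of_beq_eq_false h1
        omega
      split at hs
      · next s hw =>
        simp only [Bool.and_eq_true] at hs
        obtain ⟨⟨⟨hcur, hcode⟩, hacc⟩, hinv⟩ := hs
        obtain ⟨w, g, hwl, hwc, hQ, he⟩ := Enum.walk_sound S hl hold _ _ s (C.eu i) [] 1 (by simp)
          (show (0 : ℕ) = wordCode [] from rfl) S.one (by simp [wordVal]) hw
        obtain ⟨v, hvl, hvc, hv1⟩ := C.rot_sound S hrot (k := C.rule.at' i - 2) (by omega)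
        have hcode' := Nat.eq_of_beq_eq_true hcode
        rw [show Nat.sub (C.rule.at' i) 2 = C.rule.at' i - 2 from rfl, hvc, hwc, C.push_code] at hcode'
        have hng := S.ng_le
        have hwv := wordCode_inj (fun l hl' => by
          split_ifs at hl' with hlt
          · rcases List.mem_append.1 hl' with hl' | hl'
            · exact hwl l hl'
            · rw [List.mem_singleton] at hl'; omega
          · exact hwl l hl') hvl hcode'
        rw [← hwv, Enum.wordVal_push, C.lval_inv S hl, mul_inv_eq_one] at hv1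
        refine ⟨g, Nat.eq_of_beq_eq_true hacc ▸ hQ, S.cancel (Nat.eq_of_beq_eq_true hacc ▸ hQ)
          (Nat.eq_of_beq_eq_true hinv), ?_⟩
        rw [← hv1, he, Nat.eq_of_beq_eq_true hcur]
      · simp at hs

theorem Enum.steps_sound (S : C.Sound im Q R) (hl : C.iv.length ≤ C.ng) {spec : List (ℕ × ℕ × Bool)}
    (hrot : C.rotsOK R spec = true) {n : ℕ} (hs : allRange C.stepOK 0 n = true)
    (hb : allRange (C.ruleOK spec.length) 0 n = true) : ∀ i < n, C.Holds im Q i := by
  intro i
  induction i using Nat.strong_induction_on with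
  | _ i ih =>
    intro hi
    exact C.step_sound S hl hrot (allRange_sound hs i (Nat.zero_le i) (by omega))
      (allRange_sound hb i (Nat.zero_le i) (by omega)) fun j hj => ih j hj (hj.trans hi)

/-- A closed path at the first coset. -/
def Enum.traceOK (n : ℕ) (refs w : List ℕ) : Bool :=
  (w.all fun l => Nat.blt l 15) &&
    match C.walk n refs ⟨0, 0, C.one⟩ with
    | some s => Nat.beq s.cur 0 && Nat.beq s.code (wordCode w)
    | none => false

theorem Enum.rep_zero : C.rep im 0 = 1 := by rw [Enum.rep, dif_neg (by omega)]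

theorem Enum.trace_sound (S : C.Sound im Q R) (hl : C.iv.length ≤ C.ng) {n : ℕ} (hold : ∀ i < n, C.Holds im Q i)
    {refs w : List ℕ} (ht : C.traceOK n refs w = true) :
    ∃ p, Q p (wordVal im w) ∧ (C.walk n refs ⟨0, 0, C.one⟩).map Pos.acc = some p := by
  simp only [Enum.traceOK, Bool.and_eq_true, List.all_eq_true, Nat.blt_eq] at ht
  obtain ⟨hw, ht⟩ := ht
  split at ht
  · next s hs =>
    simp only [Bool.and_eq_true] at ht
    obtain ⟨w', g, hwl, hwc, hQ, he⟩ := Enum.walk_sound S hl hold refs _ s 0 [] 1 (by simp)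
      (show (0 : ℕ) = wordCode [] from rfl) S.one (by simp [wordVal]) hs
    rw [hwc] at ht
    rw [wordCode_inj hwl hw (Nat.eq_of_beq_eq_true ht.2), Nat.eq_of_beq_eq_true ht.1, C.rep_zero, one_mul,
      mul_one] at he
    exact ⟨s.acc, he ▸ hQ, by rw [hs]; rfl⟩
  · simp at ht

/-- The final table: every listed coset times every letter is a listed coset. -/
def Enum.tabOK (n m : ℕ) (fins tab : Table) (lo len : ℕ) : Bool :=
  allRange (fun k => (List.range C.ng).all fun x =>
    let e := tab.at' (k * C.ng + x)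
    let r := Nat.land e 0xffffff
    let j := Nat.shiftRight e 24
    let f := Nat.shiftRight r 1
    Nat.blt f n && Nat.blt j m &&
      bif Nat.beq (Nat.land r 1) 0 then
        Nat.beq (C.el f) x && Nat.beq (C.eu f) (fins.at' k) && Nat.beq (C.ev f) (fins.at' j)
      else Nat.beq (C.inv (C.el f)) x && Nat.beq (C.ev f) (fins.at' k) && Nat.beq (C.eu f) (fins.at' j)) lo len

theorem Enum.card_le (S : C.Sound im Q R) (hl : C.iv.length ≤ C.ng) {n m : ℕ} (hm : 0 < m)
    (hold : ∀ i < n, C.Holds im Q i) {fins tab : Table} (h0 : fins.at' 0 = 0)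
    (htab : C.tabOK n m fins tab 0 m = true) {K L : Subgroup G} [Finite K] (hQK : ∀ p h, Q p h → h ∈ K)
    (hL : L ≤ Subgroup.closure (im '' Set.Iio C.ng)) : Finite L ∧ Nat.card L ≤ m * Nat.card K := by
  classical
  have step : ∀ k < m, ∀ x < C.ng, ∃ j < m,
      C.rep im (fins.at' k) * im x * (C.rep im (fins.at' j))⁻¹ ∈ K := by
    intro k hk x hx
    have h := List.all_eq_true.1 (allRange_sound htab k (Nat.zero_le k) (by omega)) x (List.mem_range.2 hx)
    simp only [Bool.and_eq_true, Nat.blt_eq] at h
    generalize Nat.land (tab.at' (k * C.ng + x)) 0xffffff = r at h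
    generalize Nat.shiftRight (tab.at' (k * C.ng + x)) 24 = j at h
    obtain ⟨⟨hr, hj⟩, h⟩ := h
    refine ⟨j, hj, ?_⟩
    obtain ⟨g, hp, hq, hg⟩ := hold _ hr
    generalize Nat.shiftRight r 1 = f at h hr hp hq hg
    have elval : ∀ y, y = x → C.lval im y = im x := fun y hy => by rw [hy, Enum.lval, if_pos hx]
    cases hd : Nat.beq (Nat.land r 1) 0
    all_goals simp only [hd, cond_true, cond_false, Bool.and_eq_true] at h
    · obtain ⟨⟨e1, e2⟩, e3⟩ := h
      have e4 := elval _ (Nat.eq_of_beq_eq_true e1)
      rw [C.lval_inv S hl] at e4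
      rw [← Nat.eq_of_beq_eq_true e2, ← Nat.eq_of_beq_eq_true e3, ← e4]
      have : C.rep im (C.ev f) * (C.lval im (C.el f))⁻¹ * (C.rep im (C.eu f))⁻¹ = g⁻¹ := by
        rw [mul_assoc, ← mul_inv_rev, hg]
        group
      rw [this]
      exact hQK _ _ hq
    · obtain ⟨⟨e1, e2⟩, e3⟩ := h
      rw [← Nat.eq_of_beq_eq_true e2, ← Nat.eq_of_beq_eq_true e3, ← elval _ (Nat.eq_of_beq_eq_true e1), hg,
        mul_inv_cancel_right]
      exact hQK _ _ hp
  have hz : C.rep im (fins.at' 0) = 1 := by rw [h0, C.rep_zero]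
  have cover : ∀ g ∈ L, ∃ k < m, g * (C.rep im (fins.at' k))⁻¹ ∈ K := by
    intro g hg
    replace hg := hL hg
    induction hg using Subgroup.closure_induction_right with
    | one => exact ⟨0, hm, by simp [hz, K.one_mem]⟩
    | mul_right a b _ hb ih =>
      obtain ⟨x, hx, rfl⟩ := hb
      obtain ⟨k, hk, hak⟩ := ih
      obtain ⟨j, hj, hh⟩ := step k hk x hx
      refine ⟨j, hj, ?_⟩
      convert K.mul_mem hak hh using 1
      group
    | mul_inv_cancel a b _ hb ih =>
      obtain ⟨x, hx, rfl⟩ := hb
      obtain ⟨k, hk, hak⟩ := ih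
      rw [← S.inv x hx]
      obtain ⟨j, hj, hh⟩ := step k hk _ (S.inv_lt hx).1
      refine ⟨j, hj, ?_⟩
      convert K.mul_mem hak hh using 1
      group
  choose k hk hmem using fun g : L => cover g g.2
  let f : L → Fin m × K := fun g => (⟨k g, hk g⟩, ⟨_, hmem g⟩)
  have hf : Function.Injective f := fun a b h => by
    simp only [f, Prod.mk.injEq, Fin.mk.injEq, Subtype.mk.injEq] at h
    have e := h.2
    rw [h.1] at e
    exact Subtype.ext (mul_right_cancel e)
  refine ⟨Finite.of_injective f hf, (Nat.card_le_card_of_injective f hf).trans ?_⟩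
  rw [Nat.card_prod, Nat.card_eq_fintype_card (α := Fin m), Fintype.card_fin]

end Cfsg.Lib.ThCert
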