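import Cfsg.Agent.ThCert.Check

/-!
The facts from 1700 on are checked.
-/

set_option autoImplicit false
set_option maxRecDepth 100000
set_option Elab.async false

namespace Cfsg.Lib.ThCert

theorem facts1a : allRange fctOK 1700 850 = true := by decide +kernel
theorem facts1b : allRange fctOK 2550 850 = true := by decide +kernel

theorem facts1 : allRange fctOK 1700 1700 = true := allRange_cat (n := 850) (lo := 1700) (m := 850) facts1a facts1b

end Cfsg.Lib.ThCert
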