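import Cfsg.Agent.ThCert.Check

/-!
The facts from 3400 on are checked.
-/

set_option autoImplicit false
set_option maxRecDepth 100000
set_option Elab.async false

namespace Cfsg.Lib.ThCert

theorem facts2a : allRange fctOK 3400 850 = true := by decide +kernel
theorem facts2b : allRange fctOK 4250 717 = true := by decide +kernel

theorem facts2 : allRange fctOK 3400 1567 = true := allRange_cat (n := 850) (lo := 3400) (m := 717) facts2a facts2b

end Cfsg.Lib.ThCert
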