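import Cfsg.Agent.ThCert.Check
import Cfsg.Agent.ThCert.FactChk0
import Cfsg.Agent.ThCert.FactChk1
import Cfsg.Agent.ThCert.FactChk2

/-!
The facts hold in the presented group.
-/

set_option autoImplicit false
set_option maxRecDepth 100000

namespace Cfsg.Lib.ThCert

open Cfsg

/-- The subgroup of the index. -/
def Kth : Subgroup Spor.Th := fTh.range

/-- Two elements in one coset. -/
def Eqc (g h : Spor.Th) : Prop := g * h⁻¹ ∈ Kth

theorem Eqc.refl (g : Spor.Th) : Eqc g g := by
  show g * g⁻¹ ∈ Kth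
  rw [mul_inv_cancel]
  exact Kth.one_mem

theorem Eqc.symm {g h : Spor.Th} (e : Eqc g h) : Eqc h g := by
  have := Kth.inv_mem e
  rwa [mul_inv_rev, inv_inv] at this

theorem Eqc.trans {g h k : Spor.Th} (e : Eqc g h) (e' : Eqc h k) : Eqc g k := by
  have := Kth.mul_mem e e'
  rwa [mul_assoc, inv_mul_cancel_left] at this

theorem Eqc.mul_right {g h : Spor.Th} (e : Eqc g h) (x : Spor.Th) : Eqc (g * x) (h * x) := by
  show g * x * (h * x)⁻¹ ∈ Kth
  rw [mul_inv_rev, mul_assoc, mul_inv_cancel_left]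
  exact e

open Classical in
/-- The element of a matrix. -/
noncomputable def elOf (p : ℕ) : P := if h : ∃ a, El p a then h.choose else 1

theorem elOf_eq {p : ℕ} {a : P} (h : El p a) : elOf p = a := by
  classical
  rw [elOf, dif_pos ⟨a, h⟩]
  exact (Exists.choose_spec (⟨a, h⟩ : ∃ b, El p b)).eq sigma_injective h

/-- The representatives. -/
noncomputable def vv : ℕ → Spor.Th
  | 0 => 1
  | j + 1 => if h : Nat.land (defTab.at' j) 15 < j + 1 then
      vv (Nat.land (defTab.at' j) 15) * fTh (elOf (Nat.shiftRight (defTab.at' j) 4)) * tu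
    else 1
  termination_by j => j
  decreasing_by exact h

/-- A fact holds. -/
def FctHolds (e : ℕ) : Prop :=
  if fS e = 1 then ∃ a : P, El (fK e) a ∧ El (fK2 e) a⁻¹ ∧ Eqc (vv (fI e) * fTh a) (vv (fI e))
  else ∃ a b : P, El (fK e) a ∧ El (fK2 e) b ∧ Eqc (vv (fI e) * fTh a * tu) (vv (fJ e) * fTh b)

/-- A state stands for an element. -/
def AtC (s : Cos) (g : Spor.Th) : Prop := ∃ a : P, El s.k a ∧ Eqc g (vv s.n * fTh a)

theorem hTab_eq : (List.range 96).map (fun i => (hTabA0.at' i, hTabB0.at' i)) = hLev0 ∧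
    (List.range 12).map (fun i => (hTabA1.at' i, hTabB1.at' i)) = hLev1 ∧
    (List.range 32).map (fun i => (hTabA2.at' i, hTabB2.at' i)) = hLev2 := by decide +kernel

theorem lev_twist {W : List (List ℕ)} (hW : ∀ w ∈ W, ∀ i ∈ w, i < 8) {n i : ℕ} {fa fb : ℕ → ℕ}
    (e : (List.range n).map (fun i => (fa i, fb i)) = W.map fun w => (hValA w, hValB w)) (hi : i < n) :
    Twist (fa i) (fb i) := by
  have hm : (fa i, fb i) ∈ (List.range n).map (fun i => (fa i, fb i)) :=
    List.mem_map.2 ⟨i, List.mem_range.2 hi, rfl⟩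
  rw [e] at hm
  obtain ⟨w, hw, e'⟩ := List.mem_map.1 hm
  simp only [Prod.mk.injEq] at e'
  rw [← e'.1, ← e'.2]
  exact twist_val (hW w hw)

theorem dig_twist {h : ℕ} (hd : digOK h = true) : Twist (digA h) (digB h) := by
  simp only [digOK, Bool.and_eq_true, Nat.blt_eq] at hd
  obtain ⟨t0, t1, t2⟩ := hTab_eq
  obtain ⟨l0, l1, l2, hs⟩ := hLevels_ok
  exact (lev_twist (fun w hw => hs w (by simp [hw])) (t2.trans l2) hd.2).mul
    ((lev_twist (fun w hw => hs w (by simp [hw])) (t1.trans l1) hd.1.2).mul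
      (lev_twist (fun w hw => hs w (by simp [hw])) (t0.trans l0) hd.1.1))

theorem pathInv_el : ∀ f x, x < ptN → ∃ a, El (pathInv f x) a
  | 0, _, _ => ⟨1, El.one⟩
  | f + 1, x, hx => by
    rw [pathInv]
    cases hb : Nat.beq x 0
    · have h := allRange_sound edges_ok x (Nat.zero_le x) (by simpa [ptN] using hx)
      simp only [edgeOK, hb, Bool.false_or, Bool.and_eq_true, Nat.blt_eq] at h
      obtain ⟨a, ha⟩ := pathInv_el f _ (h.1.1.trans hx)
      have hl : Nat.xor (Nat.shiftRight (parTab.at' x) 16) 1 < 14 :=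
        (by decide +kernel : ∀ l < 14, Nat.xor l 1 < 14) _ h.1.2
      exact ⟨_, (El.letter hl).mul ha⟩
    · exact ⟨1, El.one⟩

theorem start_el {x h : ℕ} (hs : startOK x h = true) : ∃ a, El (startEl x h) a := by
  simp only [startOK, Bool.and_eq_true, Nat.blt_eq] at hs
  obtain ⟨a, ha⟩ := pathInv_el 40 x hs.2
  obtain ⟨b, _, hb, -, -⟩ := dig_twist hs.1
  exact ⟨a * b, ha.mul hb⟩

theorem vv_zero : vv 0 = 1 := by rw [vv]

theorem gwProd_sound {k : ℕ} (hlt : ∀ e < k, FctHolds e) {n : ℕ} : ∀ {l : List ℕ} {g : ℕ},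
    gwProd k n l = some g → ∃ a, El g a ∧ Eqc (vv n * fTh a) (vv n)
  | [], g, h => by
    simp only [gwProd, Option.some.injEq] at h
    subst h
    exact ⟨1, El.one, by rw [map_one, mul_one]; exact Eqc.refl _⟩
  | s :: l, g, h => by
    simp only [gwProd] at h
    cases hb : Nat.blt s k && Nat.beq (fS s) 1 && Nat.beq (fI s) n
    · rw [hb] at h; simp at h
    rw [hb, cond_true] at h
    simp only [Bool.and_eq_true, Nat.blt_eq] at hb
    cases hg : gwProd k n l with
    | none => rw [hg] at h; simp at h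
    | some g' =>
      rw [hg] at h
      simp only [Option.some.injEq] at h
      subst h
      obtain ⟨b, hb', e'⟩ := gwProd_sound hlt hg
      have hf := hlt s hb.1.1
      rw [FctHolds, if_pos (Nat.eq_of_beq_eq_true hb.1.2), Nat.eq_of_beq_eq_true hb.2] at hf
      obtain ⟨a, ha, -, e⟩ := hf
      exact ⟨a * b, ha.mul hb', by rw [map_mul, ← mul_assoc]; exact (e.mul_right _).trans e'⟩

theorem at_zero_any {s : Cos} {g : Spor.Th} (hn : s.n = 0) (h : AtC s g) (c : P) : Eqc g (vv s.n * fTh c) := by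
  obtain ⟨a, -, e⟩ := h
  refine e.trans ?_
  rw [hn, vv_zero, one_mul, one_mul]
  show fTh a * (fTh c)⁻¹ ∈ Kth
  exact Kth.mul_mem ⟨a, rfl⟩ (Kth.inv_mem ⟨c, rfl⟩)

/-- Crossing the last generator by an element of the intersection. -/
theorem cross {i j : ℕ} {a b c d : P} {g : Spor.Th} (hf : Eqc (vv i * fTh a * tu) (vv j * fTh b))
    (ht : tu⁻¹ * fTh c * tu = fTh d) (hg : Eqc g (vv i * fTh (a * c))) : Eqc (g * tu) (vv j * fTh (b * d)) := by
  have e : vv i * fTh (a * c) * tu = vv i * fTh a * tu * fTh d := by rw [map_mul, ← ht]; group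
  have h1 := hg.mul_right tu
  rw [e] at h1
  rw [map_mul, ← mul_assoc]
  exact h1.trans (hf.mul_right _)

theorem cstep_sound {k : ℕ} (hlt : ∀ e < k, FctHolds e) {c : Cite} {s t : Cos} (h : cstep k c s = some t)
    {g : Spor.Th} (hs : AtC s g) : AtC t (g * tu) := by
  simp only [cstep] at h
  cases hb : Nat.blt c.e k && Nat.beq (fS c.e) 0 && Nat.beq (fI c.e) s.n && digOK c.h
  · rw [hb] at h; simp at h
  rw [hb, cond_true] at h
  simp only [Bool.and_eq_true, Nat.blt_eq] at hb
  obtain ⟨⟨⟨he, hS⟩, hI⟩, hd⟩ := hb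
  have hf := hlt _ he
  rw [FctHolds, if_neg (by rw [Nat.eq_of_beq_eq_true hS]; norm_num), Nat.eq_of_beq_eq_true hI] at hf
  obtain ⟨a, b, ha, hb2, e⟩ := hf
  obtain ⟨p, q, hp, hq, ht⟩ := dig_twist hd
  cases hn : Nat.beq s.n 0
  · rw [hn, cond_false] at h
    cases hg : gwProd k s.n c.gw with
    | none => rw [hg] at h; simp at h
    | some G =>
      rw [hg] at h
      simp only at h
      cases hx : Nat.beq (mm G (mm (fK c.e) (digA c.h))) s.k
      · rw [hx] at h; simp at h
      rw [hx, cond_true, Option.some.injEq] at h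
      subst h
      obtain ⟨γ, hγ, eγ⟩ := gwProd_sound hlt hg
      obtain ⟨x, hx', ex⟩ := hs
      have := (hγ.mul (ha.mul hp))
      rw [Nat.eq_of_beq_eq_true hx] at this
      rw [hx'.eq sigma_injective this] at ex
      refine ⟨b * q, hb2.mul hq, cross e ht (ex.trans ?_)⟩
      rw [map_mul, ← mul_assoc]
      exact eγ.mul_right _
  · rw [hn, cond_true, Option.some.injEq] at h
    subst h
    exact ⟨b * q, hb2.mul hq, cross e ht (at_zero_any (Nat.eq_of_beq_eq_true hn) hs _)⟩

theorem AtC.mul_seg {s : Cos} {g : Spor.Th} (h : AtC s g) {A : ℕ} {a : P} (ha : El A a) :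
    AtC ⟨s.n, mm s.k A⟩ (g * fTh a) := by
  obtain ⟨x, hx, e⟩ := h
  exact ⟨x * a, hx.mul ha, by rw [map_mul, ← mul_assoc]; exact e.mul_right _⟩

theorem crun_sound {k : ℕ} (hlt : ∀ e < k, FctHolds e) : ∀ {cs : List Cite} {As : List ℕ} {s t : Cos} {as : List P},
    crun k cs As s = some t → List.Forall₂ El As as → ∀ {g : Spor.Th} (a0 : P), AtC s (g * fTh a0) →
    AtC t (g * segVal (a0 :: as))
  | [], [], s, t, _, h, .nil, g, a0, hs => by
    simp only [crun, Option.some.injEq] at h
    subst h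
    exact hs
  | [], _ :: _, s, t, _, h, _, g, a0, _ => by simp [crun] at h
  | _ :: _, [], s, t, _, h, _, g, a0, _ => by simp [crun] at h
  | c :: cs, A :: As, s, t, a :: as, h, .cons hA hrest, g, a0, hs => by
    simp only [crun] at h
    cases hc : cstep k c s with
    | none => rw [hc] at h; simp at h
    | some s' =>
      rw [hc] at h
      simp only at h
      have h1 := (cstep_sound hlt hc hs).mul_seg hA
      have := crun_sound hlt h hrest (g := g * fTh a0 * tu) a h1
      rwa [segVal_cons a0 (List.cons_ne_nil a as), ← mul_assoc, ← mul_assoc]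

theorem concl_sound {k : ℕ} (hlt : ∀ e < k, FctHolds e) {c : Cite} {a b : Cos} (h : concl k c a b = true)
    {x : Spor.Th} (hxa : AtC a x) (hxb : AtC b (x * tu)) : FctHolds k := by
  obtain ⟨B, hB, eB⟩ := hxb
  simp only [concl] at h
  cases hk : Nat.beq c.e k
  · rw [hk, cond_false] at h
    cases hc : cstep k c a with
    | none => rw [hc] at h; simp at h
    | some a' =>
      rw [hc] at h
      simp only [Bool.and_eq_true] at h
      obtain ⟨⟨⟨⟨hS, hI⟩, hn⟩, hg⟩, hi⟩ := h
      obtain ⟨A', hA', eA⟩ := cstep_sound hlt hc hxa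
      rw [FctHolds, if_pos (Nat.eq_of_beq_eq_true hS)]
      have hK : El (fK k) (A' * B⁻¹) := by
        have h1 := congrArg toMat (Nat.eq_of_beq_eq_true hg)
        rw [toMat_mm, hA', hB] at h1
        rw [El, map_mul, map_inv, Units.val_mul, ← h1, mul_assoc, Units.mul_inv, mul_one]
      refine ⟨A' * B⁻¹, hK, hK.inv (Nat.eq_of_beq_eq_true hi), ?_⟩
      rw [Nat.eq_of_beq_eq_true hI]
      have h2 := (eA.symm.trans eB).mul_right (fTh B)⁻¹
      rw [mul_inv_cancel_right, ← Nat.eq_of_beq_eq_true hn] at h2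
      rw [map_mul, map_inv, ← mul_assoc]
      exact h2
  · rw [hk, cond_true] at h
    simp only [Bool.and_eq_true] at h
    obtain ⟨⟨⟨⟨⟨hS, hI⟩, hJ⟩, hd⟩, hk2⟩, hg⟩ := h
    obtain ⟨p, q, hp, hq, ht⟩ := dig_twist hd
    obtain ⟨A, hA, eA⟩ := hxa
    cases hgw : gwProd k a.n c.gw with
    | none => rw [hgw] at hg; simp at hg
    | some G =>
      rw [hgw] at hg
      obtain ⟨γ, hγ, eγ⟩ := gwProd_sound hlt hgw
      rw [FctHolds, if_neg (by rw [Nat.eq_of_beq_eq_true hS]; norm_num), Nat.eq_of_beq_eq_true hI,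
        Nat.eq_of_beq_eq_true hJ]
      have hK : El (fK k) (γ⁻¹ * A * p⁻¹) := by
        have h1 := congrArg toMat (Nat.eq_of_beq_eq_true hg)
        rw [toMat_mm, toMat_mm, hγ, hp, hA] at h1
        rw [El, map_mul, map_mul, map_inv, map_inv, Units.val_mul, Units.val_mul, ← h1, ← mul_assoc,
          ← mul_assoc, Units.inv_mul, one_mul, mul_assoc, Units.mul_inv, mul_one]
      have hK2 : El (fK2 k) (B * q⁻¹) := by
        have h1 := congrArg toMat (Nat.eq_of_beq_eq_true hk2)
        rw [toMat_mm, hq, hB] at h1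
        rw [El, map_mul, map_inv, Units.val_mul, ← h1, mul_assoc, Units.mul_inv, mul_one]
      refine ⟨_, _, hK, hK2, ?_⟩
      -- cancel the stabilising element and cross back
      have h1 : Eqc x (vv a.n * fTh (γ⁻¹ * A)) := by
        refine eA.trans ?_
        have h2 := eγ.mul_right (fTh (γ⁻¹ * A))
        rwa [mul_assoc (vv a.n), ← map_mul, mul_inv_cancel_left] at h2
      have h3 : tu⁻¹ * fTh p⁻¹ * tu = fTh q⁻¹ := by
        rw [map_inv, map_inv, ← ht]; group
      have h4 : vv a.n * fTh (γ⁻¹ * A * p⁻¹) * tu = vv a.n * fTh (γ⁻¹ * A) * tu * fTh q⁻¹ := by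
        rw [← h3, map_mul]; group
      rw [h4, map_mul fTh B, ← mul_assoc (vv b.n)]
      exact (((h1.mul_right tu).symm.trans eB)).mul_right _

theorem fctRels_mem : ∀ w ∈ fctRels, w ∈ thWords ∧ ∀ x ∈ w, x < 16 := by decide +kernel

theorem relInv_ok : relInvOK = true := by decide +kernel

theorem invM_el : ∀ {m : List ℕ} {l : List P}, List.Forall₂ (fun p a => El p a⁻¹) m l →
    List.Forall₂ El (invM m) (segInv l)
  | _, _, .nil => .nil
  | _, _, .cons h .nil => .cons h .nil
  | _, _, .cons h (.cons h' hl) => by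
    simp only [invM, segInv]
    exact List.rel_append (invM_el (.cons h' hl)) (.cons (acM_el.mul h) .nil)

theorem invList : ∀ {A : List ℕ} {l : List P} (I : List ℕ), List.Forall₂ El A l → A.length = I.length →
    (∀ i < A.length, mm (A.getD i 0) (I.getD i 0) = one26) → List.Forall₂ (fun p a => El p a⁻¹) I l
  | _, _, [], .nil, _, _ => .nil
  | _, _, _ :: _, .nil, h, _ => by simp at h
  | _, _, [], .cons _ _, h, _ => by simp at h
  | _, _, b :: I, .cons ha hl, h, hm => by
    refine .cons (ha.inv (by simpa using hm 0 (by simp))) (invList I hl (by simpa using h) fun i hi => ?_)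
    simpa using hm (i + 1) (by simpa using hi)

theorem segVal_split {A : List P} (h : segVal A = 1) {p : ℕ} (hp : p + 1 < A.length) :
    segVal (A.take (p + 1)) * tu = segVal (segInv (A.drop (p + 1))) := by
  have h1 : A.take (p + 1) ≠ [] := by
    intro e
    have := congrArg List.length e
    rw [List.length_take, List.length_nil] at this
    omega
  have h2 : A.drop (p + 1) ≠ [] := by
    intro e
    have := congrArg List.length e
    rw [List.length_drop, List.length_nil] at this
    omega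
  rw [← List.take_append_drop (p + 1) A, segVal_append h1 h2] at h
  rw [segVal_segInv h2]
  exact eq_inv_of_mul_eq_one_left h

theorem rel_sound {k : ℕ} (hlt : ∀ e < k, FctHolds e) {r n x h p q : ℕ} {cs : List Cite}
    (hc : relCase k r n x h p q cs = true) : FctHolds k := by
  simp only [relCase, Bool.and_eq_true] at hc
  obtain ⟨hs, hc⟩ := hc
  obtain ⟨κ, hκ⟩ := start_el hs
  rcases lt_or_ge r fctRels.length with hr | hr
  swap
  · rw [relSegs, List.getD_eq_default _ _ (by simpa using hr)] at hc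
    simp at hc
  have hmem := fctRels_mem _ (List.getElem_mem hr)
  have hA := segsM_el hmem.2
  have hV := segVal_segs hmem.2
  rw [thWord_one hmem.1] at hV
  rw [show relSegs.getD r [] = segsM fctRels[r] by
    rw [relSegs, List.getD_eq_getElem _ _ (by simpa using hr), List.getElem_map]] at hc
  have hI0 := relInv_ok
  simp only [relInvOK, Bool.and_eq_true, List.all_eq_true, List.mem_range] at hI0
  obtain ⟨hlen, hInv⟩ := hI0.2 r (by simpa [relSegs] using hr)
  rw [show relSegs.getD r [] = segsM fctRels[r] by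
    rw [relSegs, List.getD_eq_getElem _ _ (by simpa using hr), List.getElem_map]] at hlen hInv
  have hI := invList _ hA (Nat.eq_of_beq_eq_true hlen) fun i hi => Nat.eq_of_beq_eq_true (hInv i hi)
  generalize segsM fctRels[r] = AM at hA hc hI
  generalize segs fctRels[r] = AP at hA hV hI
  generalize relInvs.getD r [] = IM at hI hc
  cases hA with
  | nil => simp at hc
  | @cons A0 α0 As αs h0 hrest =>
    simp only at hc
    have hBB := invM_el (List.forall₂_drop (p + 1) hI)
    cases hB : invM (IM.drop (p + 1)) with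
    | nil => rw [hB] at hc; simp at hc
    | cons B0 Bs =>
      rw [hB] at hc hBB
      simp only [Bool.and_eq_true] at hc
      obtain ⟨⟨-, -⟩, hc⟩ := hc
      have hp : p + 1 < (α0 :: αs).length := by
        by_contra hcon
        rw [List.drop_eq_nil_of_le (by omega)] at hBB
        simp [segInv] at hBB
      generalize hbs : segInv ((α0 :: αs).drop (p + 1)) = BP at hBB
      cases hBB with
      | @cons _ β0 _ βs hb0 hbrest =>
        split at hc
        · next a b c ea eb _ =>
          have hst : ∀ (A : ℕ) (α : P), El A α → AtC ⟨n, mm (startEl x h) A⟩ (vv n * fTh κ * fTh α) :=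
            fun A α hα => ⟨κ * α, hκ.mul hα, by rw [map_mul, ← mul_assoc]; exact Eqc.refl _⟩
          have ha := crun_sound hlt ea (List.forall₂_take p hrest) (g := vv n * fTh κ) α0 (hst A0 α0 h0)
          have hb := crun_sound hlt eb hbrest (g := vv n * fTh κ) β0 (hst B0 β0 hb0)
          refine concl_sound hlt hc ha ?_
          rw [← hbs, ← segVal_split hV hp, List.take_succ_cons, ← mul_assoc] at hb
          exact hb
        · simp at hc

theorem fct_sound : ∀ k < fctN, FctHolds k := by
  intro k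
  induction k using Nat.strong_induction_on with
  | _ k ih =>
    intro hk
    have hlt : ∀ e < k, FctHolds e := fun e he => ih e he (he.trans hk)
    have hk' : k < 4967 := hk
    have h : fctOK k = true := by
      rcases lt_or_ge k 1700 with h1 | h1
      · exact allRange_sound facts0 k (Nat.zero_le k) (by omega)
      rcases lt_or_ge k 3400 with h2 | h2
      · exact allRange_sound facts1 k h1 (by omega)
      · exact allRange_sound facts2 k h2 (by omega)
    simp only [fctOK] at h
    generalize fields (Nat.land (fctOff.at' k) 0xfffff) (Nat.shiftRight (fctOff.at' k) 20) = F at h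
    split at h
    · next x d =>
      simp only [Bool.and_eq_true, Nat.blt_eq] at h
      obtain ⟨⟨⟨⟨⟨⟨⟨⟨hS, hj⟩, -⟩, hI⟩, hIj⟩, hK⟩, hK2⟩, hs⟩, hKs⟩ := h
      obtain ⟨a, ha⟩ := start_el hs
      rw [← Nat.eq_of_beq_eq_true hKs] at ha
      rw [FctHolds, if_neg (by rw [Nat.eq_of_beq_eq_true hS]; norm_num)]
      refine ⟨a, 1, ha, by rw [Nat.eq_of_beq_eq_true hK2]; exact El.one, ?_⟩
      obtain ⟨j, hj'⟩ : ∃ j, fJ k = j + 1 := ⟨fJ k - 1, by omega⟩
      rw [hj', Nat.add_sub_cancel] at hI hK
      rw [hj', map_one, mul_one]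
      conv => arg 2; rw [vv]
      rw [dif_pos (by rw [← Nat.eq_of_beq_eq_true hI]; omega), ← Nat.eq_of_beq_eq_true hI,
        ← Nat.eq_of_beq_eq_true hK, elOf_eq ha]
      exact Eqc.refl _
    · next e0 l =>
      simp only [Bool.and_eq_true, Nat.blt_eq] at h
      obtain ⟨⟨he, hS⟩, h⟩ := h
      have hf := hlt e0 he
      rw [FctHolds, if_neg (by rw [Nat.eq_of_beq_eq_true hS]; norm_num)] at hf
      obtain ⟨a, b, ha, hb, e⟩ := hf
      split at h
      · exact concl_sound hlt h (x := vv (fI e0) * fTh a) ⟨a, ha, Eqc.refl _⟩ ⟨b, hb, e⟩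
      · simp at h
    · next r n x d p q l =>
      split at h
      · exact rel_sound hlt h
      · simp at h
    · next e d =>
      simp only [Bool.and_eq_true, Nat.blt_eq] at h
      obtain ⟨⟨⟨⟨⟨⟨⟨he, hS⟩, hI⟩, hd⟩, hkS⟩, hkI⟩, hg⟩, hgi⟩ := h
      have hf := hlt e he
      rw [FctHolds, if_neg (by rw [Nat.eq_of_beq_eq_true hS]; norm_num), Nat.eq_of_beq_eq_true hI] at hf
      obtain ⟨a, b, -, hb, e1⟩ := hf
      obtain ⟨p, q, -, hq, ht⟩ := dig_twist hd
      have hgK : El (fK k) (b * q * b⁻¹) := by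
        have h1 := congrArg toMat (Nat.eq_of_beq_eq_true hg)
        rw [toMat_mm, toMat_mm, hb, hq] at h1
        rw [El, map_mul, map_mul, map_inv, Units.val_mul, Units.val_mul, ← h1, mul_assoc, Units.mul_inv, mul_one]
      rw [FctHolds, if_pos (Nat.eq_of_beq_eq_true hkS), Nat.eq_of_beq_eq_true hkI]
      refine ⟨_, hgK, hgK.inv (Nat.eq_of_beq_eq_true hgi), ?_⟩
      have h0 : Eqc (vv 0 * fTh a) (vv 0 * fTh (a * p)) := by
        rw [vv_zero, one_mul, one_mul]
        exact Kth.mul_mem ⟨a, rfl⟩ (Kth.inv_mem ⟨a * p, rfl⟩)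
      have h2 := ((cross e1 ht h0).symm.trans e1).mul_right (fTh b)⁻¹
      rw [mul_inv_cancel_right, mul_assoc, ← map_inv, ← map_mul] at h2
      exact h2
    · simp at h

end Cfsg.Lib.ThCert
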