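import Cfsg.Agent.ThCert.Enum

/-!
Reduction of words in letters with inverses.
-/

set_option autoImplicit false

namespace Cfsg.Lib.ThCert

/-- Free cancellation with respect to an inverse map. -/
def cancelBy (iv : List ℕ) : List ℕ → List ℕ
  | [] => []
  | l :: w => match cancelBy iv w with
    | [] => [l]
    | m :: v => if iv.getD l iv.length == m then v else l :: m :: v

/-- Removal of inverse letters at the two ends. -/
def stripBy (iv : List ℕ) : ℕ → List ℕ → List ℕ
  | 0, w => w
  | f + 1, l :: w => if w.getLast? == some (iv.getD l iv.length) then stripBy iv f w.dropLast else l :: w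
  | _ + 1, [] => []

variable {G : Type*} [Group G] {iv : List ℕ} {v : ℕ → G}

theorem cancelBy_sound (hv : ∀ l < iv.length, v (iv.getD l iv.length) = (v l)⁻¹) : ∀ {w : List ℕ},
    (∀ l ∈ w, l < iv.length) → (∀ l ∈ cancelBy iv w, l < iv.length) ∧ wordVal v (cancelBy iv w) = wordVal v w
  | [], _ => by simp [cancelBy]
  | l :: w, h => by
    obtain ⟨h1, h2⟩ := cancelBy_sound hv (w := w) fun m hm => h m (List.mem_cons_of_mem l hm)
    have hl := h l List.mem_cons_self
    have e : wordVal v (l :: w) = v l * wordVal v w := by simp [wordVal]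
    rw [cancelBy, e, ← h2]
    cases hc : cancelBy iv w with
    | nil => simp [wordVal, hl]
    | cons m t =>
      rw [hc] at h1
      simp only
      split_ifs with hm
      · refine ⟨fun x hx => h1 x (List.mem_cons_of_mem m hx), ?_⟩
        rw [show wordVal v (m :: t) = v m * wordVal v t by simp [wordVal], ← (beq_iff_eq.1 hm), hv l hl,
          mul_inv_cancel_left]
      · exact ⟨fun x hx => by rcases List.mem_cons.1 hx with rfl | hx; exacts [hl, h1 x hx], by simp [wordVal]⟩

theorem stripBy_sound (hv : ∀ l < iv.length, v (iv.getD l iv.length) = (v l)⁻¹) : ∀ (f : ℕ) {w : List ℕ},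
    (∀ l ∈ w, l < iv.length) → wordVal v w = 1 → wordVal v (stripBy iv f w) = 1
  | 0, _, _, h => h
  | _ + 1, [], _, h => h
  | f + 1, l :: w, hl, h => by
    rw [stripBy]
    split_ifs with hg
    · obtain ⟨t, rfl⟩ : ∃ t, w = t ++ [iv.getD l iv.length] :=
        ⟨w.dropLast, (List.dropLast_append_getLast? _ (beq_iff_eq.1 hg)).symm⟩
      rw [List.dropLast_concat]
      refine stripBy_sound hv f (fun x hx => hl x (by simp [hx])) ?_
      simp only [wordVal, List.map_cons, List.map_append, List.map_nil, List.prod_cons, List.prod_append,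
        List.prod_nil, mul_one, hv l (hl l List.mem_cons_self)] at h
      have h' := congrArg (fun z => (v l)⁻¹ * z * v l) h
      simpa [wordVal, mul_assoc] using h'
    · exact h

end Cfsg.Lib.ThCert
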