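import Cfsg.Agent.ThCert.PCard
import Cfsg.Agent.ThCert.Reduce
import Cfsg.Agent.ThCert.Data.EJCheck

/-!
The map to the presented Thompson group and the conjugation by its last generator.
-/

set_option autoImplicit false
set_option maxRecDepth 100000

namespace Cfsg.Lib.ThCert

open Cfsg

/-- The relators of the large group. -/
abbrev thRels : Set (FreeGroup Spor.Th.Gen) := Spor.coxRelators Spor.Th.edges ∪ {r | r ∈ Spor.Th.extra}

/-- A generator of the large group by name. -/
def tgen (g : Spor.Th.Gen) : Spor.Th := PresentedGroup.mk thRels (FreeGroup.of g)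

theorem signed_map {G H : Type*} [Group G] [Group H] (f : G →* H) (v : Spor.Th.Gen → G) (x : ℕ) :
    f (signed v x) = signed (fun g => f (v g)) x := by
  unfold signed
  split_ifs <;> simp

theorem thWord_one {w : List ℕ} (hw : w ∈ thWords) : wordVal (signed tgen) w = 1 := by
  have h : PresentedGroup.mk thRels (wordVal (signed FreeGroup.of) w) = 1 :=
    PresentedGroup.one_of_mem (Or.inr (by
      show _ ∈ Spor.Th.extra
      rw [extra_eq]
      exact List.mem_map_of_mem hw))
  rw [wordVal_map, funext (fun x => signed_map (PresentedGroup.mk thRels) FreeGroup.of x)] at h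
  exact h

/-- The generators in order. -/
def tg (i : ℕ) : Spor.Th := tgen (genList.getD i .a)

theorem signed_tgen (x : ℕ) : signed tgen x = sgn tg x := rfl

theorem fGen_ok : ∀ r ∈ pRels, FreeGroup.lift (fun i : Fin 7 => tg i.val) r = 1 := by
  refine lift_ok _ fun w hw => ?_
  rw [← thWord_one (List.mem_of_mem_take hw), wordVal, wordVal]
  refine congrArg List.prod (List.map_congr_left fun x hx => ?_)
  have := pWords_small w hw x hx
  rw [signed_tgen]
  unfold sgn
  beta_reduce
  rw [show (Fin.ofNat 7 (x / 2) : Fin 7).val = x / 2 from Nat.mod_eq_of_lt (by omega)]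

/-- The map to the large group. -/
def fTh : P →* Spor.Th := PresentedGroup.toGroup fGen_ok

theorem fTh_pg {i : ℕ} (hi : i < 7) : fTh (pg i) = tg i := by
  have h : fTh (pg i) = tg (Fin.ofNat 7 i).val := PresentedGroup.toGroup.of fGen_ok
  rwa [show (Fin.ofNat 7 i : Fin 7).val = i from Nat.mod_eq_of_lt hi] at h

theorem fTh_sgn {x : ℕ} (hx : x < 14) : fTh (sgn pg x) = signed tgen x := by
  rw [sgn_map, signed_tgen]
  unfold sgn
  beta_reduce
  rw [fTh_pg (by omega)]

theorem fTh_word {w : List ℕ} (hw : ∀ x ∈ w, x < 14) : fTh (wordVal (sgn pg) w) = wordVal (signed tgen) w := by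
  rw [wordVal_map]
  exact congrArg List.prod (List.map_congr_left fun x hx => fTh_sgn (hw x hx))

/-- The last generator. -/
def tu : Spor.Th := tgen .u

theorem u_words : [14, 14, 5, 1] ∈ thWords ∧ [15, 12, 14, 12] ∈ thWords ∧
    [9, 11, 11, 15, 10, 10, 8, 11, 11, 14, 10, 10] ∈ thWords := by decide +kernel

theorem tu_sq : tu * tu = fTh (pg 0 * pg 2) := by
  have h := thWord_one u_words.1
  simp [wordVal, signed, genList] at h
  have h' : tu * tu * ((tgen .c)⁻¹ * (tgen .a)⁻¹) = 1 := by rw [← mul_assoc]; simpa [tu, mul_assoc] using h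
  rw [map_mul, fTh_pg (by norm_num), fTh_pg (by norm_num), eq_inv_of_mul_eq_one_left h', mul_inv_rev, inv_inv, inv_inv]
  rfl

/-- Two matrices of elements, the second being the conjugate of the first by the last generator. -/
def Twist (p q : ℕ) : Prop := ∃ a b : P, El p a ∧ El q b ∧ tu⁻¹ * fTh a * tu = fTh b

theorem Twist.one : Twist one26 one26 := ⟨1, 1, El.one, El.one, by simp⟩

theorem Twist.mul {p q p' q' : ℕ} (h : Twist p q) (h' : Twist p' q') : Twist (mm p p') (mm q q') := by
  obtain ⟨a, b, ha, hb, e⟩ := h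
  obtain ⟨a', b', ha', hb', e'⟩ := h'
  refine ⟨a * a', b * b', ha.mul ha', hb.mul hb', ?_⟩
  rw [map_mul, map_mul, ← e, ← e']
  group

/-- The inverse map of the letters in five involutions and the last generator. -/
def jIv : List ℕ := [0, 1, 2, 3, 4, 6, 5]

/-- The letters of the small enumeration. -/
def jLet : ℕ → Spor.Th
  | 0 => fTh (pg 0)
  | 1 => fTh (pg 1)
  | 2 => fTh (pg 2)
  | 3 => fTh (pg 3)
  | 4 => fTh (pg 4)
  | 5 => tu
  | 6 => tu⁻¹
  | _ => 1

/-- The letter of a signed letter. -/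
def jCv (x : ℕ) : ℕ := if x < 10 then x / 2 else x - 9

theorem jLet_inv : ∀ l < jIv.length, jLet (jIv.getD l jIv.length) = (jLet l)⁻¹ := by
  intro l hl
  have h := fun {i : ℕ} (hi : i < 5) => congrArg fTh (pg_invol hi)
  simp only [map_inv] at h
  simp only [jIv, List.length_cons, List.length_nil] at hl ⊢
  interval_cases l <;> simp only [List.getD_cons_zero, List.getD_cons_succ, jLet, inv_inv] <;>
    exact (h (by norm_num)).symm

theorem jLet_cv {x : ℕ} (h : x < 10 ∨ x = 14 ∨ x = 15) : jLet (jCv x) = signed tgen x := by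
  have hp := @fTh_pg
  have hi := fun {i : ℕ} (hi : i < 5) => congrArg fTh (pg_invol hi)
  simp only [map_inv] at hi
  rcases h with h | rfl | rfl
  · interval_cases x <;> simp [jCv, jLet, signed, genList] <;>
      first
        | exact hp (by norm_num)
        | (rw [← hi (by norm_num), hp (by norm_num)]; rfl)
  · rfl
  · rfl

/-- The relators in the letters of the small enumeration. -/
def jWords : List (List ℕ) :=
  (thWords.filter fun w => w.all fun x => decide (x < 10) || x == 14 || x == 15).map fun w =>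
    stripBy jIv w.length (cancelBy jIv (w.map jCv))

theorem jWords_one : ∀ w ∈ jWords, wordVal jLet w = 1 := by
  intro w hw
  simp only [jWords, List.mem_map, List.mem_filter, List.all_eq_true, Bool.or_eq_true, decide_eq_true_eq,
    beq_iff_eq, or_assoc] at hw
  obtain ⟨v, ⟨hv, hx⟩, rfl⟩ := hw
  have hlt : ∀ l ∈ v.map jCv, l < jIv.length := fun l hl => by
    obtain ⟨x, hx', rfl⟩ := List.mem_map.1 hl
    have := hx x hx'
    unfold jCv
    simp only [jIv, List.length_cons, List.length_nil]
    split_ifs <;> omega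
  obtain ⟨h1, h2⟩ := cancelBy_sound jLet_inv hlt
  refine stripBy_sound jLet_inv _ h1 ?_
  rw [h2, ← thWord_one hv, wordVal, List.map_map]
  exact congrArg List.prod (List.map_congr_left fun x hx' => jLet_cv (hx x hx'))

/-- A label and the element it stands for. -/
def JQ (p : ℕ) (h : Spor.Th) : Prop := ∃ a : P, El p a ∧ h = fTh a

theorem jRels_fine : (eJRels.all fun r =>
      (jWords ++ [[0, 2, 0, 2]] ++ (List.range 7).map (fun l => [l, jIv.getD l 7])).contains r) = true ∧
    eJC.iv = jIv ∧ eJC.ng = 7 := by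
  decide +kernel

theorem jSubs_fine : ∀ t ∈ eJC.subs, t.1 < 5 ∧ t.2.1 = gmat (2 * t.1) ∧ mm t.2.1 t.2.2 = one26 := by decide +kernel

theorem j_sound : eJC.Sound jLet JQ eJRels := by
  obtain ⟨hr, hiv, hng⟩ := jRels_fine
  refine ⟨eJ_iv.1, fun l hl => ?_, ⟨1, El.one, (map_one fTh).symm⟩, ?_, ?_, fun r hr' => ?_, fun t ht => ?_⟩
  · rw [Enum.inv, hiv, hng]
    exact jLet_inv l (lt_of_lt_of_eq hl hng)
  · rintro p q g h ⟨a, ha, rfl⟩ ⟨b, hb, rfl⟩
    exact ⟨a * b, ha.mul hb, (map_mul fTh a b).symm⟩
  · rintro p q g ⟨a, ha, rfl⟩ h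
    exact ⟨a⁻¹, ha.inv h, (map_inv fTh a).symm⟩
  · simp only [List.all_eq_true, List.contains_iff_mem, List.mem_append, List.mem_map, List.mem_range,
      List.mem_singleton] at hr
    rcases hr r hr' with (h | rfl) | ⟨l, hl, rfl⟩
    · exact jWords_one r h
    · have h := congrArg fTh ac_sq
      rw [map_one] at h
      rw [← h, wordVal_map]
      rfl
    · have := jLet_inv l hl
      simp only [wordVal, List.map_cons, List.map_nil, List.prod_cons, List.prod_nil, mul_one]
      rw [show jIv.getD l 7 = jIv.getD l jIv.length from rfl, this, mul_inv_cancel]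
  · obtain ⟨h1, h2, h3⟩ := jSubs_fine t ht
    have e : jLet t.1 = fTh (pg t.1) := by
      obtain ⟨l, p, q⟩ := t
      simp only at h1 ⊢
      interval_cases l <;> rfl
    have hg : El t.2.1 (pg t.1) := by
      rw [h2, El, sigma_pg, show genGL (Fin.ofNat 7 t.1) = genGL ⟨t.1, by omega⟩ from
        congrArg genGL (Fin.ext (Nat.mod_eq_of_lt (by omega)))]
      rfl
    exact ⟨⟨_, hg, e⟩, ⟨_, hg.inv h3, by rw [e, map_inv]⟩⟩

/-- A word in the involutions, as signed letters and as letters. -/
def jSplit (W : List ℕ) (i : ℕ) : Bool :=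
  let A := hWordsA.getD i []
  let B := hWordsB.getD i []
  (A ++ B).all (fun x => decide (x < 10)) && W == [6] ++ A.map jCv ++ [5] ++ B.reverse.map jCv

theorem jTrace_data : jSplit eJW0 0 = true ∧ jSplit eJW1 1 = true ∧ jSplit eJW2 2 = true ∧ jSplit eJW3 3 = true ∧
    jSplit eJW4 4 = true ∧ jSplit eJW5 5 = true := by decide +kernel

theorem jLet_rev : ∀ {w : List ℕ}, (∀ x ∈ w, x < 10) →
    wordVal jLet (w.reverse.map jCv) = (wordVal (signed tgen) w)⁻¹
  | [], _ => by simp [wordVal]
  | x :: w, h => by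
    have hx := h x List.mem_cons_self
    have := jLet_rev (w := w) fun y hy => h y (List.mem_cons_of_mem x hy)
    simp only [wordVal] at this
    simp only [wordVal, List.reverse_cons, List.map_append, List.prod_append, this, List.map_cons, List.map_nil,
      List.prod_cons, List.prod_nil, mul_one, mul_inv_rev, ← jLet_cv (Or.inl hx)]
    congr 1
    have hl : jCv x < 5 := by unfold jCv; rw [if_pos hx]; omega
    have := jLet_inv (jCv x) (by simp only [jIv, List.length_cons, List.length_nil]; omega)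
    rw [← this]
    congr 1
    generalize jCv x = l at hl
    interval_cases l <;> rfl

theorem twist_of_trace {W T : List ℕ} {i : ℕ} (hi : i < 8) (ht : eJC.traceOK eJLen T W = true)
    (hl : (eJC.walk eJLen T ⟨0, 0, one26⟩).map Pos.acc = some one26) (hs : jSplit W i = true) :
    Twist (hMatsA.getD i one26) (hMatsB.getD i one26) := by
  simp only [jSplit, Bool.and_eq_true, List.all_eq_true, decide_eq_true_eq, beq_iff_eq] at hs
  obtain ⟨hx, hW⟩ := hs
  have hJ := j_sound
  obtain ⟨p, ⟨a, ha, hv⟩, hp⟩ := eJC.trace_sound hJ eJ_iv.2 (eJC.steps_sound hJ eJ_iv.2 eJ_rots eJ_steps eJ_rules) ht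
  have h1 : p = one26 := Option.some.inj (hp.symm.trans hl)
  rw [ha.eq sigma_injective (h1 ▸ El.one), map_one] at hv
  obtain ⟨e1, e2⟩ := hMat_el hi
  refine ⟨_, _, e1, e2, ?_⟩
  rw [hElA, hElB, fTh_word (fun x h => (hx x (List.mem_append_left _ h)).trans (by norm_num)),
    fTh_word (fun x h => (hx x (List.mem_append_right _ h)).trans (by norm_num))]
  have hA : wordVal jLet ((hWordsA.getD i []).map jCv) = wordVal (signed tgen) (hWordsA.getD i []) := by
    rw [wordVal, List.map_map]
    exact congrArg List.prod (List.map_congr_left fun x h => jLet_cv (Or.inl (hx x (List.mem_append_left _ h))))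
  have hB := jLet_rev (w := hWordsB.getD i []) fun x h => hx x (List.mem_append_right _ h)
  rw [hW] at hv
  simp only [wordVal, List.map_append, List.prod_append, List.map_cons, List.map_nil, List.prod_cons,
    List.prod_nil, mul_one] at hv hA hB
  rw [hA, hB] at hv
  exact mul_inv_eq_one.1 hv

theorem twist_words : hWordsA.getD 6 [] = [10, 10, 8, 11, 11] ∧ hWordsB.getD 6 [] = [10, 10, 8, 11, 11] ∧
    hWordsA.getD 7 [] = [12] ∧ hWordsB.getD 7 [] = [13] := by decide +kernel

theorem twist_gen {i : ℕ} (hi : i < 8) : Twist (hMatsA.getD i one26) (hMatsB.getD i one26) := by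
  obtain ⟨s0, s1, s2, s3, s4, s5⟩ := jTrace_data
  obtain ⟨w6, w6', w7, w7'⟩ := twist_words
  interval_cases i
  · exact twist_of_trace (by norm_num) eJ_trace0 eJ_label0 s0
  · exact twist_of_trace (by norm_num) eJ_trace1 eJ_label1 s1
  · exact twist_of_trace (by norm_num) eJ_trace2 eJ_label2 s2
  · exact twist_of_trace (by norm_num) eJ_trace3 eJ_label3 s3
  · exact twist_of_trace (by norm_num) eJ_trace4 eJ_label4 s4
  · exact twist_of_trace (by norm_num) eJ_trace5 eJ_label5 s5
  · refine ⟨_, _, (hMat_el (by norm_num : (6 : ℕ) < 8)).1, (hMat_el (by norm_num : (6 : ℕ) < 8)).2, ?_⟩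
    rw [hElA, hElB, w6, w6', fTh_word (by simp)]
    have h := thWord_one u_words.2.2
    simp [wordVal, signed, genList] at h ⊢
    show tu⁻¹ * _ * tu = _
    simp only [← mul_assoc] at h ⊢
    generalize tgen .e = e at h ⊢
    generalize tgen .s = s at h ⊢
    change e⁻¹ * s⁻¹ * s⁻¹ * tu⁻¹ * s * s * e * s⁻¹ * s⁻¹ * tu * s * s = 1 at h
    calc tu⁻¹ * s * s * e * s⁻¹ * s⁻¹ * tu
        = s * s * e * (e⁻¹ * s⁻¹ * s⁻¹ * tu⁻¹ * s * s * e * s⁻¹ * s⁻¹ * tu * s * s) * s⁻¹ * s⁻¹ := by group
      _ = s * s * e * s⁻¹ * s⁻¹ := by rw [h, mul_one]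
  · refine ⟨_, _, (hMat_el (by norm_num : (7 : ℕ) < 8)).1, (hMat_el (by norm_num : (7 : ℕ) < 8)).2, ?_⟩
    rw [hElA, hElB, w7, w7', fTh_word (by simp), fTh_word (by simp)]
    have h := thWord_one u_words.2.1
    simp [wordVal, signed, genList] at h ⊢
    refine eq_inv_of_mul_eq_one_left ?_
    simpa [tu, mul_assoc] using h

theorem twist_val : ∀ {w : List ℕ}, (∀ i ∈ w, i < 8) → Twist (hValA w) (hValB w)
  | [], _ => Twist.one
  | i :: w, h => (twist_gen (h i List.mem_cons_self)).mul (twist_val fun j hj => h j (List.mem_cons_of_mem i hj))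

theorem twist_all {a : P} (ha : a ∈ hSub) : ∃ b : P, tu⁻¹ * fTh a * tu = fTh b := by
  rw [hSub] at ha
  induction ha using Subgroup.closure_induction with
  | mem x hx =>
    obtain ⟨i, hi, rfl⟩ := hx
    have hi' : i < 8 := hi
    obtain ⟨a, b, hA, -, e⟩ := twist_gen hi'
    rw [hA.eq sigma_injective (hMat_el hi').1] at e
    exact ⟨b, e⟩
  | one => exact ⟨1, by simp⟩
  | mul x y _ _ hx hy =>
    obtain ⟨b, hb⟩ := hx
    obtain ⟨c, hc⟩ := hy
    exact ⟨b * c, by rw [map_mul, map_mul, ← hb, ← hc]; group⟩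
  | inv x _ hx =>
    obtain ⟨b, hb⟩ := hx
    exact ⟨b⁻¹, by rw [map_inv, map_inv, ← hb]; group⟩

end Cfsg.Lib.ThCert
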