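import Cfsg.Agent.ThCert.Pres

/-!
The letters of the presented group with their inverses, and reduced forms of the relators.
-/

set_option autoImplicit false
set_option maxRecDepth 100000

namespace Cfsg.Lib.ThCert

/-- The letters: five involutions, the other two generators and their inverses. -/
def plv : ℕ → P
  | 0 => pg 0
  | 1 => pg 1
  | 2 => pg 2
  | 3 => pg 3
  | 4 => pg 4
  | 5 => pg 5
  | 6 => (pg 5)⁻¹
  | 7 => pg 6
  | 8 => (pg 6)⁻¹
  | _ => 1

/-- The inverse letters. -/
def pinvL (l : ℕ) : ℕ := [0, 1, 2, 3, 4, 6, 5, 8, 7].getD l 9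

/-- The letter of a signed letter. -/
def cvL (x : ℕ) : ℕ := if x < 10 then x / 2 else x - 5

theorem invol_words : ∀ i < 5, [2 * i, 2 * i] ∈ pWords := by decide +kernel

theorem pg_invol {i : ℕ} (hi : i < 5) : (pg i)⁻¹ = pg i := by
  have h := pWord_one (invol_words i hi)
  simp only [wordVal, List.map_cons, List.map_nil, List.prod_cons, List.prod_nil, mul_one, sgn,
    show 2 * i % 2 = 0 by omega, if_true, show 2 * i / 2 = i by omega] at h
  exact inv_eq_of_mul_eq_one_left h

theorem plv_inv {l : ℕ} (hl : l < 9) : plv (pinvL l) = (plv l)⁻¹ := by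
  have h := @pg_invol
  interval_cases l <;> simp only [pinvL, plv, List.getD_cons_zero, List.getD_cons_succ, inv_inv] <;>
    exact (h (by norm_num)).symm

theorem plv_cvL {x : ℕ} (hx : x < 14) : plv (cvL x) = sgn pg x := by
  have h := @pg_invol
  interval_cases x <;> simp [cvL, plv, sgn] <;> exact (h (by norm_num)).symm

/-- Free cancellation. -/
def cancelW : List ℕ → List ℕ
  | [] => []
  | l :: w => match cancelW w with
    | [] => [l]
    | m :: v => if pinvL l == m then v else l :: m :: v

/-- Removal of inverse letters at the two ends. -/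
def stripW : ℕ → List ℕ → List ℕ
  | 0, w => w
  | f + 1, l :: w => if w.getLast? == some (pinvL l) then stripW f w.dropLast else l :: w
  | _ + 1, [] => []

/-- The reduced form of a relator. -/
def redW (w : List ℕ) : List ℕ := stripW w.length (cancelW (w.map cvL))

theorem cancelW_sound : ∀ {w : List ℕ}, (∀ l ∈ w, l < 9) →
    (∀ l ∈ cancelW w, l < 9) ∧ wordVal plv (cancelW w) = wordVal plv w
  | [], _ => by simp [cancelW]
  | l :: w, h => by
    obtain ⟨h1, h2⟩ := cancelW_sound (w := w) fun m hm => h m (List.mem_cons_of_mem l hm)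
    have hl := h l List.mem_cons_self
    have e : wordVal plv (l :: w) = plv l * wordVal plv w := by simp [wordVal]
    rw [cancelW, e, ← h2]
    cases hc : cancelW w with
    | nil => simp [wordVal, hl]
    | cons m v =>
      rw [hc] at h1
      simp only
      split_ifs with hm
      · refine ⟨fun x hx => h1 x (List.mem_cons_of_mem m hx), ?_⟩
        rw [show wordVal plv (m :: v) = plv m * wordVal plv v by simp [wordVal], ← (beq_iff_eq.1 hm), plv_inv hl,
          mul_inv_cancel_left]
      · exact ⟨fun x hx => by rcases List.mem_cons.1 hx with rfl | hx; exacts [hl, h1 x hx], by simp [wordVal]⟩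

theorem stripW_sound : ∀ (f : ℕ) {w : List ℕ}, (∀ l ∈ w, l < 9) → wordVal plv w = 1 →
    wordVal plv (stripW f w) = 1
  | 0, _, _, h => h
  | _ + 1, [], _, h => h
  | f + 1, l :: w, hl, h => by
    rw [stripW]
    split_ifs with hg
    · obtain ⟨v, rfl⟩ : ∃ v, w = v ++ [pinvL l] := by
        have := beq_iff_eq.1 hg
        exact ⟨w.dropLast, (List.dropLast_append_getLast? _ this).symm⟩
      rw [List.dropLast_concat]
      refine stripW_sound f (fun x hx => hl x (by simp [hx])) ?_
      simp only [wordVal, List.map_cons, List.map_append, List.map_nil, List.prod_cons, List.prod_append,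
        List.prod_nil, mul_one, plv_inv (hl l List.mem_cons_self)] at h
      have h' := congrArg (fun z => (plv l)⁻¹ * z * plv l) h
      simpa [wordVal, mul_assoc] using h'
    · exact h

theorem cvL_lt {x : ℕ} (hx : x < 14) : cvL x < 9 := by unfold cvL; split_ifs <;> omega

theorem redW_one {w : List ℕ} (hw : w ∈ pWords) : wordVal plv (redW w) = 1 := by
  have hs := pWords_small w hw
  have hlt : ∀ l ∈ w.map cvL, l < 9 := fun l hl => by
    obtain ⟨x, hx, rfl⟩ := List.mem_map.1 hl
    exact cvL_lt (hs x hx)
  obtain ⟨h1, h2⟩ := cancelW_sound hlt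
  refine stripW_sound _ h1 ?_
  rw [h2, ← pWord_one hw]
  simp only [wordVal, List.map_map]
  exact congrArg List.prod (List.map_congr_left fun x hx => plv_cvL (hs x hx))

theorem cd4_word : [0, 7, 5, 7, 5, 7, 5, 7, 5] ∈ pWords := by decide +kernel

theorem ac_sq : wordVal plv [0, 2, 0, 2] = 1 := by
  have h := pWord_one cd4_word
  simp [wordVal, sgn] at h
  have hc := pg_invol (i := 2) (by norm_num)
  have hd := pg_invol (i := 3) (by norm_num)
  have ha := pg_invol (i := 0) (by norm_num)
  rw [hc, hd] at h
  have e : pg 0 = (pg 2 * pg 3) ^ 4 := by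
    rw [← ha]
    refine inv_eq_of_mul_eq_one_left ?_
    have h' := congrArg (fun z => z⁻¹) h
    simp only [mul_inv_rev, hc, hd, ha, inv_one] at h'
    rw [← h']
    simp only [pow_succ, pow_zero, one_mul, mul_assoc]
  have key : pg 2 * pg 0 * pg 2 = (pg 0)⁻¹ := by
    rw [e, ← inv_pow, mul_inv_rev, hc, hd]
    have c2 : ∀ z, pg 2 * (pg 2 * z) = z := fun z => by
      rw [← mul_assoc]
      nth_rw 1 [← hc]
      rw [inv_mul_cancel, one_mul]
    have c2' : pg 2 * pg 2 = 1 := by nth_rw 1 [← hc]; rw [inv_mul_cancel]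
    simp only [pow_succ, pow_zero, one_mul, mul_assoc, c2, c2', mul_one]
  show plv 0 * (plv 2 * (plv 0 * (plv 2 * 1))) = 1
  show pg 0 * (pg 2 * (pg 0 * (pg 2 * 1))) = 1
  rw [mul_one, ← mul_assoc (pg 2), key, mul_inv_cancel]

/-- The words which hold in the presented group. -/
def baseWords : List (List ℕ) :=
  pWords.map redW ++ [[0, 2, 0, 2]] ++ (List.range 9).map (fun l => [l, pinvL l]) ++ [[]]

theorem baseWords_one : ∀ w ∈ baseWords, wordVal plv w = 1 := by
  intro w hw
  simp only [baseWords, List.mem_append, List.mem_map, List.mem_range, List.mem_singleton] at hw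
  rcases hw with ((⟨v, hv, rfl⟩ | rfl) | ⟨l, hl, rfl⟩) | rfl
  · exact redW_one hv
  · exact ac_sq
  · simp [wordVal, plv_inv hl]
  · rfl

end Cfsg.Lib.ThCert
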