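import Cfsg.Agent.ThCert.PCard
import Cfsg.Agent.ThCert.Data.MData

/-!
Checks of the certificates for the group in the first six generators.
-/

set_option autoImplicit false
set_option maxRecDepth 100000
set_option exponentiation.threshold 700

namespace Cfsg.Lib.ThCert

/-- The letters of the stabiliser of the first generator. -/
def cLetters : List ℕ := [0, 1, 4, 5, 6, 7, 8, 9, 10, 11]

/-- The parent of a member of the class. -/
def clsPar (i : ℕ) : ℕ := Nat.land (clsLinks.getD i 0) 1023
/-- The letter to a member from its parent. -/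
def clsLet (i : ℕ) : ℕ := Nat.land (Nat.shiftRight (clsLinks.getD i 0) 10) 15
/-- The orbit of a member. -/
def clsOrb (i : ℕ) : ℕ := Nat.shiftRight (clsLinks.getD i 0) 15
/-- Whether a member is the first of its orbit. -/
def clsRoot (i : ℕ) : Bool := Nat.beq (Nat.land (Nat.shiftRight (clsLinks.getD i 0) 14) 1) 1
/-- The word of the first member of an orbit. -/
def repWord (i : ℕ) : List ℕ := clsReps.getD (clsOrb i) []

/-- The check of a member. -/
def clsOK (i : ℕ) : Bool :=
  Nat.blt (clsOrb i) 4 && bif clsRoot i then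
    (repWord i).all (fun x => Nat.blt x 12) &&
      Nat.beq (mm (mval (invWord' (repWord i))) (mm (gmat 0) (mval (repWord i)))) (clsMats.getD i 0)
  else
    Nat.blt (clsPar i) i && Nat.beq (clsOrb (clsPar i)) (clsOrb i) && cLetters.contains (clsLet i) &&
      Nat.beq (mm (gmat (Nat.xor (clsLet i) 1)) (mm (clsMats.getD (clsPar i) 0) (gmat (clsLet i)))) (clsMats.getD i 0)
where
  /-- The inverse word. -/
  invWord' (w : List ℕ) : List ℕ := w.reverse.map fun x => Nat.xor x 1

theorem cls_chk : (List.range 819).all clsOK = true := by decide +kernel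

theorem cls_distinct : distinct clsMats = true ∧ clsMats.length = 819 := by decide +kernel

theorem cls_first : ∀ i < 819, clsOrb i = 0 → i = 0 := by decide +kernel

theorem cls_zero : clsOrb 0 = 0 ∧ clsMats.getD 0 0 = gmat 0 := by decide +kernel

theorem cls_sums : ∀ b1 b2 b3 : Bool,
    (((List.range 819).filter fun i => [true, b1, b2, b3].getD (clsOrb i) false).length ∣ 819) →
      (b1 = false ∧ b2 = false ∧ b3 = false) ∨ (b1 = true ∧ b2 = true ∧ b3 = true) := by decide +kernel

theorem cf_fix_chk : (cfWords.all fun w => w.all (fun x => Nat.blt x 12) && Nat.beq (mm cfVec (mval w)) cfVec) = true ∧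
    cfWords.length = 2 ∧ cfSolve.length = 2 ∧
    Nat.xor (mm (Nat.xor (mval (cfWords.getD 0 [])) one26) (cfSolve.getD 0 0))
        (mm (Nat.xor (mval (cfWords.getD 1 [])) one26) (cfSolve.getD 1 0)) =
      Nat.xor one26 (mm cfCol cfVec) ∧
    cfVec < 2 ^ 26 ∧ cfVec ≠ 0 := by decide +kernel

/-- The sum of the basis vectors with coefficients. -/
def cfSum : List ℕ → List (List ℕ) → ℕ
  | c :: cs, w :: ws => Nat.xor (mm c (mm cfVec (mval w))) (cfSum cs ws)
  | _, _ => 0

theorem cf_span_chk : cfSum cfCoef cfSpan = one26 ∧ (cfSpan.all fun w => w.all fun x => Nat.blt x 12) = true := by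
  decide +kernel

theorem mconj_chk : (cLetters.all fun x => Nat.beq (mm (gmat x) (gmat 0)) (mm (gmat 0) (gmat x))) = true ∧
    mval [1, 2, 0] = mval [2, 0, 3] ∧ mval [3, 4, 2] = mval [4, 2, 5] := by decide +kernel

theorem mrel_chk : ([[4, 4], [6, 6], [8, 8], [6, 8, 6, 8, 6, 8], [10, 10, 10, 10, 10, 10, 10], [10, 6, 10, 6],
      [9, 11, 8, 10, 11, 11, 11, 9, 10, 10, 10], [0, 7, 5, 7, 5, 7, 5, 7, 5],
      [2, 4, 6, 8, 2, 4, 6, 8, 2, 4, 6, 8, 2, 4, 6, 8, 2, 4, 6, 8, 2, 4, 6, 8, 2, 4, 6, 8, 2, 4, 6, 8],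
      [0, 2, 0, 2, 0, 2], [2, 4, 2, 4, 2, 4], [0, 0], [2, 2]].all fun w => Nat.beq (mval w) one26) = true := by
  decide +kernel

theorem mnormal_chk : ([([13, 1, 12], [1]), ([13, 3, 12], [3]), ([13, 5, 12], [5]), ([13, 7, 12], [7]),
      ([13, 9, 12], [9]), ([13, 10, 12], [10, 10])].all fun p => Nat.beq (mval p.1) (mval p.2)) = true := by
  decide +kernel

end Cfsg.Lib.ThCert
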