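import Cfsg.Agent.ThCert.MChk

/-!
The group in the first six generators: its order, simplicity and trivial centraliser.
-/

set_option autoImplicit false
set_option maxRecDepth 100000
set_option exponentiation.threshold 700

namespace Cfsg.Lib.ThCert

/-- The group in the first six generators. -/
abbrev mSub : Subgroup P := sub [0, 1, 2, 3, 4, 5, 6]

/-- The centraliser of the first generator in it. -/
abbrev cSub : Subgroup P := sub [0, 2, 3, 4, 5, 6]

theorem El.letterM {x : ℕ} (hx : x < 14) : El (gmat x) (sgn pg x) := by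
  rw [El, sgn_map sigma pg x]
  simp only [sigma_pg]
  exact (sgn_genGL hx).symm

theorem word_eq {w w' : List ℕ} (hw : ∀ x ∈ w, x < 14) (hw' : ∀ x ∈ w', x < 14) (h : mval w = mval w') :
    wordVal (sgn pg) w = wordVal (sgn pg) w' :=
  El.eq sigma_injective (El.word hw) (h ▸ El.word hw')

theorem toMat_xor (A B : ℕ) : toMat (Nat.xor A B) = toMat A + toMat B := by
  funext j i
  rw [Matrix.add_apply, toMat_apply, toMat_apply, toMat_apply, show Nat.xor A B = A ^^^ B from rfl, Nat.testBit_xor]
  cases A.testBit (26 * j.val + i.val) <;> cases B.testBit (26 * j.val + i.val) <;> decide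

theorem sgn_mem_m {x : ℕ} (hx : x < 12) : sgn pg x ∈ mSub := by
  rw [← plv_cvL (by omega)]
  refine Subgroup.subset_closure ⟨cvL x, ?_, rfl⟩
  show cvL x ∈ _
  unfold cvL
  interval_cases x <;> simp

theorem pg_mem_m {i : ℕ} (hi : i < 6) : pg i ∈ mSub := by
  have := sgn_mem_m (x := 2 * i) (by omega)
  rwa [sgn, if_pos (Nat.mul_mod_right 2 i), show 2 * i / 2 = i by omega] at this

theorem word_mem_m {w : List ℕ} (hw : ∀ x ∈ w, x < 12) : wordVal (sgn pg) w ∈ mSub := by
  refine list_prod_mem fun a ha => ?_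
  obtain ⟨x, hx, rfl⟩ := List.mem_map.1 ha
  exact sgn_mem_m (hw x hx)

theorem cLetters_lt {x : ℕ} (hx : x ∈ cLetters) : x < 12 := by
  simp [cLetters] at hx
  omega

theorem sgn_mem_c {x : ℕ} (hx : x ∈ cLetters) : sgn pg x ∈ cSub := by
  rw [← plv_cvL (by have := cLetters_lt hx; omega)]
  refine Subgroup.subset_closure ⟨cvL x, ?_, rfl⟩
  show cvL x ∈ _
  simp [cLetters] at hx
  rcases hx with rfl | rfl | rfl | rfl | rfl | rfl | rfl | rfl | rfl | rfl <;> simp [cvL]

theorem cSub_le_mSub : cSub ≤ mSub := by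
  refine Subgroup.closure_mono (Set.image_mono ?_)
  intro l hl
  simp only [Set.mem_ofPred_eq, List.mem_cons, List.not_mem_nil, or_false] at hl ⊢
  omega

theorem cSub_comm {g : P} (hg : g ∈ cSub) : g * pg 0 = pg 0 * g := by
  suffices cSub ≤ Subgroup.centralizer {pg 0} from (Subgroup.mem_centralizer_iff.1 (this hg) (pg 0) rfl).symm
  refine (Subgroup.closure_le _).2 ?_
  rintro _ ⟨l, hl, rfl⟩
  obtain ⟨x, hx, rfl⟩ : ∃ x ∈ cLetters, cvL x = l := by
    simp only [Set.mem_ofPred_eq, List.mem_cons, List.not_mem_nil, or_false] at hl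
    rcases hl with rfl | rfl | rfl | rfl | rfl | rfl
    exacts [⟨0, by simp [cLetters], rfl⟩, ⟨4, by simp [cLetters], rfl⟩, ⟨6, by simp [cLetters], rfl⟩,
      ⟨8, by simp [cLetters], rfl⟩, ⟨10, by simp [cLetters], rfl⟩, ⟨11, by simp [cLetters], rfl⟩]
  have hx' : x < 14 := by have := cLetters_lt hx; omega
  rw [plv_cvL hx', SetLike.mem_coe, Subgroup.mem_centralizer_iff]
  rintro _ rfl
  have h0 : El (gmat 0) (pg 0) := El.letterM (x := 0) (by norm_num)
  refine (El.eq sigma_injective ((El.letterM hx').mul h0) ?_).symm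
  rw [Nat.eq_of_beq_eq_true (List.all_eq_true.1 mconj_chk.1 x hx)]
  exact h0.mul (El.letterM hx')

theorem card_mSub_ge : 211341312 ≤ Nat.card mSub := by
  have h := bound_step eP_iv (by decide +kernel : keepFine ePC ePKeep = true ∧ relsFine ePKeep [] ePRels = true ∧
    subsFine ePC ePKeep [0, 1, 2, 3, 4, 5, 6] = true) (by simp) eP_rots eP_steps eP_rules eP_tab (by decide +kernel)
    (b := Nat.card mSub) ⟨sub_M.1, le_rfl⟩
  rw [show ePKeep = [0, 1, 2, 3, 4, 5, 6, 7, 8] from rfl, sub_all, Subgroup.card_top, card_P,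
    show ePM = 3 from rfl] at h
  omega

theorem card_mSub : Nat.card mSub = 211341312 := le_antisymm sub_M.2 card_mSub_ge

theorem card_cSub : Nat.card cSub = 258048 := by
  refine le_antisymm sub_cent.2 ?_
  have h := bound_step eM_iv (by decide +kernel : keepFine eMC eMKeep = true ∧ relsFine eMKeep [] eMRels = true ∧
    subsFine eMC eMKeep [0, 2, 3, 4, 5, 6] = true) (by simp) eM_rots eM_steps eM_rules eM_tab (by decide +kernel)
    (b := Nat.card cSub) ⟨sub_cent.1, le_rfl⟩
  rw [show eMKeep = [0, 1, 2, 3, 4, 5, 6] from rfl, card_mSub, show eMM = 819 from rfl] at h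
  omega

theorem relIndex_cm : cSub.relIndex mSub = 819 := by
  have h := Subgroup.card_mul_index (cSub.subgroupOf mSub)
  rw [Nat.card_congr (Subgroup.subgroupOfEquivOfLe cSub_le_mSub).toEquiv, card_cSub, card_mSub] at h
  show (cSub.subgroupOf mSub).index = 819
  omega

/-- A conjugate of the first generator. -/
def cj (h : P) : P := h * pg 0 * h⁻¹

/-- The conjugates as a map of cosets. -/
def cjQ (H : Subgroup P) : H ⧸ cSub.subgroupOf H → P :=
  Quotient.lift (fun h => cj (h : P)) fun a b hab => by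
    have hab' : (a⁻¹ * b : H) ∈ cSub.subgroupOf H := QuotientGroup.leftRel_apply.1 hab
    have hc := cSub_comm (Subgroup.mem_subgroupOf.1 hab')
    simp only [Subgroup.coe_mul, Subgroup.coe_inv] at hc
    show cj (a : P) = cj (b : P)
    unfold cj
    calc (a : P) * pg 0 * (a : P)⁻¹ = a * (pg 0 * ((a : P)⁻¹ * b)) * (b : P)⁻¹ := by group
      _ = a * (((a : P)⁻¹ * b) * pg 0) * (b : P)⁻¹ := by rw [hc]
      _ = b * pg 0 * (b : P)⁻¹ := by group

theorem cjQ_mk (H : Subgroup P) (h : H) : cjQ H (h : H ⧸ cSub.subgroupOf H) = cj (h : P) := rfl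

theorem range_cjQ (H : Subgroup P) : Set.range (cjQ H) = cj '' (H : Set P) := by
  ext q
  constructor
  · rintro ⟨z, rfl⟩
    refine Quotient.inductionOn' z fun h => ⟨h.1, h.2, rfl⟩
  · rintro ⟨h, hh, rfl⟩
    exact ⟨((⟨h, hh⟩ : H) : H ⧸ cSub.subgroupOf H), rfl⟩

theorem cj_mul (g h : P) : cj (g * h) = g * cj h * g⁻¹ := by
  unfold cj
  group

open Classical in
/-- A member of the class as an element. -/
noncomputable def clsEl (i : ℕ) : P := if h : ∃ a, El (clsMats.getD i 0) a then h.choose else 1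

theorem clsEl_eq {i : ℕ} {a : P} (ha : El (clsMats.getD i 0) a) : clsEl i = a := by
  have h : ∃ a, El (clsMats.getD i 0) a := ⟨a, ha⟩
  rw [clsEl, dif_pos h]
  exact El.eq sigma_injective h.choose_spec ha

theorem el_inv_letter {x : ℕ} (hx : x < 14) : El (gmat (Nat.xor x 1)) (sgn pg x)⁻¹ := by
  have e : (sgn pg x)⁻¹ = sgn pg (Nat.xor x 1) := by
    interval_cases x <;> simp [sgn, show ∀ a b : ℕ, Nat.xor a b = a ^^^ b from fun _ _ => rfl]
  rw [e]
  exact El.letterM (by interval_cases x <;> decide)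

theorem wordVal_inv (w : List ℕ) (hw : ∀ x ∈ w, x < 14) :
    wordVal (sgn pg) (clsOK.invWord' w) = (wordVal (sgn pg) w)⁻¹ := by
  induction w with
  | nil => simp [clsOK.invWord', wordVal]
  | cons x w ih =>
    have e : (sgn pg x)⁻¹ = sgn pg (Nat.xor x 1) := El.eq sigma_injective (el_inv_letter (hw x List.mem_cons_self))
      (El.letterM (by have := hw x List.mem_cons_self; interval_cases x <;> decide))
    have ih' := ih fun y hy => hw y (List.mem_cons_of_mem x hy)
    rw [show clsOK.invWord' (x :: w) = clsOK.invWord' w ++ [Nat.xor x 1] by simp [clsOK.invWord']]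
    simp only [wordVal, List.map_append, List.prod_append, List.map_cons, List.map_nil, List.prod_cons,
      List.prod_nil, mul_one, mul_inv_rev] at ih' ⊢
    rw [ih', e]

theorem cls_mem : ∀ i < 819, El (clsMats.getD i 0) (clsEl i) ∧ ∃ h ∈ mSub, clsEl i = cj h ∧
    ∀ H : Subgroup P, cSub ≤ H → ∀ j < 819, clsOrb j = clsOrb i →
      (clsEl j ∈ cj '' (H : Set P) ↔ clsEl i ∈ cj '' (H : Set P)) := by
  have key : ∀ i < 819, ∃ r < 819, clsRoot r = true ∧ clsOrb r = clsOrb i ∧ ∃ h ∈ mSub,
      El (clsMats.getD i 0) (cj h) ∧ clsEl i = cj h ∧ ∀ H : Subgroup P, cSub ≤ H →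
        (clsEl i ∈ cj '' (H : Set P) ↔ clsEl r ∈ cj '' (H : Set P)) := by
    intro i
    induction i using Nat.strong_induction_on with
    | _ i ih =>
      intro hi
      have h := List.all_eq_true.1 cls_chk i (List.mem_range.2 hi)
      cases hr : clsRoot i
      · simp only [clsOK, hr, cond_false, Bool.and_eq_true, Nat.blt_eq, List.contains_iff_mem] at h
        obtain ⟨-, ⟨⟨hp, ho⟩, hl⟩, he⟩ := h
        obtain ⟨r, hr1, hr2, hr3, g, hg, hgE, hge, hH⟩ := ih _ hp (by omega)
        have hl' : clsLet i < 14 := by have := cLetters_lt hl; omega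
        have hc : (sgn pg (clsLet i))⁻¹ ∈ cSub := cSub.inv_mem (sgn_mem_c hl)
        have hE : El (clsMats.getD i 0) (cj ((sgn pg (clsLet i))⁻¹ * g)) := by
          rw [cj_mul, inv_inv, mul_assoc, ← Nat.eq_of_beq_eq_true he]
          exact (el_inv_letter hl').mul (hgE.mul (El.letterM hl'))
        refine ⟨r, hr1, hr2, hr3.trans (Nat.eq_of_beq_eq_true ho), _,
          mSub.mul_mem (cSub_le_mSub hc) hg, hE, clsEl_eq hE, fun H hH' => (Iff.trans ?_ (hH H hH'))⟩
        rw [clsEl_eq hE, hge, cj_mul]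
        constructor
        · rintro ⟨k, hk, e⟩
          refine ⟨sgn pg (clsLet i) * k, H.mul_mem (hH' (sgn_mem_c hl)) hk, ?_⟩
          rw [cj_mul, e]
          group
        · rintro ⟨k, hk, e⟩
          exact ⟨(sgn pg (clsLet i))⁻¹ * k, H.mul_mem (hH' hc) hk, by rw [cj_mul, e]⟩
      · simp only [clsOK, hr, cond_true, Bool.and_eq_true, List.all_eq_true, Nat.blt_eq] at h
        obtain ⟨-, hw, he⟩ := h
        have hw14 : ∀ x ∈ repWord i, x < 14 := fun x hx => by have := hw x hx; omega
        have hE : El (clsMats.getD i 0) (cj (wordVal (sgn pg) (repWord i))⁻¹) := by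
          unfold cj
          rw [inv_inv, mul_assoc, ← wordVal_inv _ hw14, ← Nat.eq_of_beq_eq_true he]
          refine (El.word fun x hx => ?_).mul ((El.letterM (x := 0) (by norm_num)).mul (El.word hw14))
          simp only [clsOK.invWord', List.mem_map, List.mem_reverse] at hx
          obtain ⟨y, hy, rfl⟩ := hx
          have := hw y hy
          interval_cases y <;> decide
        exact ⟨i, hi, hr, rfl, _, mSub.inv_mem (word_mem_m hw), hE, clsEl_eq hE, fun H _ => Iff.rfl⟩
  intro i hi
  obtain ⟨r, hr1, hr2, hr3, h, hh, hE, he, hH⟩ := key i hi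
  refine ⟨he ▸ hE, h, hh, he, fun H hH' j hj hji => ?_⟩
  obtain ⟨r', hr1', hr2', hr3', -, -, -, -, hH''⟩ := key j hj
  rw [hH H hH', hH'' H hH']
  have : r' = r := by
    have u : ∀ a < 819, clsRoot a = true → ∀ b < 819, clsRoot b = true → clsOrb a = clsOrb b → a = b := by
      intro a ha hra b hb hrb hab
      exact roots_unique a (List.mem_filter.2 ⟨List.mem_range.2 ha, hra⟩) b
        (List.mem_filter.2 ⟨List.mem_range.2 hb, hrb⟩) hab
    exact u r' hr1' hr2' r hr1 hr2 (by rw [hr3', hr3, hji])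
  rw [this]
where
  roots_unique : ∀ a ∈ (List.range 819).filter clsRoot, ∀ b ∈ (List.range 819).filter clsRoot,
      clsOrb a = clsOrb b → a = b := by decide +kernel

theorem clsEl_inj {i j : ℕ} (hi : i < 819) (hj : j < 819) (h : clsEl i = clsEl j) : i = j := by
  obtain ⟨hd, hlen⟩ := cls_distinct
  have e1 := (cls_mem i hi).1
  have e2 := (cls_mem j hj).1
  rw [h] at e1
  have hlt : ∀ k < 819, clsMats.getD k 0 < 2 ^ 676 := by
    intro k hk
    have h := List.all_eq_true.1 cls_chk k (List.mem_range.2 hk)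
    cases hr : clsRoot k <;>
      simp only [clsOK, hr, cond_false, cond_true, Bool.and_eq_true, Nat.blt_eq] at h <;>
      exact (Nat.eq_of_beq_eq_true h.2.2) ▸ mm_lt _ _
  have e : clsMats.getD i 0 = clsMats.getD j 0 := toMat_inj (hlt i hi) (hlt j hj) (e1.trans e2.symm)
  rw [List.getD_eq_getElem _ _ (hlen ▸ hi), List.getD_eq_getElem _ _ (hlen ▸ hj)] at e
  exact (List.Nodup.getElem_inj_iff (distinct_nodup hd)).1 e

open Classical in
theorem class_all : cj '' (mSub : Set P) = clsEl '' Set.Iio 819 ∧ Function.Injective (cjQ mSub) := by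
  have := sub_M.1
  have hsub : clsEl '' Set.Iio 819 ⊆ cj '' (mSub : Set P) := by
    rintro _ ⟨i, hi, rfl⟩
    obtain ⟨-, h, hh, e, -⟩ := cls_mem i hi
    exact ⟨h, hh, e.symm⟩
  have hcard : Nat.card (clsEl '' Set.Iio 819) = 819 := by
    rw [Nat.card_image_of_injOn (s := Set.Iio 819) (f := clsEl) (fun i hi j hj => clsEl_inj hi hj)]
    simp
  have hq : Nat.card (mSub ⧸ cSub.subgroupOf mSub) = 819 := relIndex_cm
  have : Finite (mSub ⧸ cSub.subgroupOf mSub) := Nat.finite_of_card_ne_zero (by omega)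
  have hr : Set.range (cjQ mSub) = cj '' (mSub : Set P) := range_cjQ _
  have hfin : (cj '' (mSub : Set P)).Finite := hr ▸ Set.finite_range _
  have h1 : Nat.card (cj '' (mSub : Set P)) ≤ 819 := by
    rw [← hr, ← hq]
    exact Finite.card_range_le _
  have h2 : Nat.card (clsEl '' Set.Iio 819) ≤ Nat.card (cj '' (mSub : Set P)) := Nat.card_mono hfin hsub
  refine ⟨(Set.eq_of_subset_of_ncard_le hsub ?_ hfin).symm, ?_⟩
  · rw [← Nat.card_coe_set_eq, ← Nat.card_coe_set_eq]; omega
  · have hs : Function.Surjective (Set.rangeFactorization (cjQ mSub)) := Set.rangeFactorization_surjective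
    have hb := (Nat.bijective_iff_surjective_and_card (Set.rangeFactorization (cjQ mSub))).2
      ⟨hs, by rw [hr, hq]; omega⟩
    exact fun a b e => hb.1 (Subtype.ext e)

open Classical in
theorem maximal_cSub {H : Subgroup P} (h1 : cSub ≤ H) (h2 : H ≤ mSub) : H = cSub ∨ H = mSub := by
  have := sub_M.1
  have : Finite H := Finite.of_injective _ (Subgroup.inclusion_injective h2)
  obtain ⟨hall, hinj⟩ := class_all
  have hinjH : Function.Injective (cjQ H) := by
    intro a b
    refine Quotient.inductionOn₂' a b fun x y e => ?_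
    have e' : cjQ mSub ((⟨x.1, h2 x.2⟩ : mSub) : mSub ⧸ cSub.subgroupOf mSub) =
        cjQ mSub ((⟨y.1, h2 y.2⟩ : mSub) : mSub ⧸ cSub.subgroupOf mSub) := e
    have := QuotientGroup.eq.1 (hinj e')
    exact QuotientGroup.eq.2 (by simpa [Subgroup.mem_subgroupOf] using this)
  have hsub : cj '' (H : Set P) ⊆ clsEl '' Set.Iio 819 := hall ▸ Set.image_mono h2
  let S : Set ℕ := {i | i < 819 ∧ clsEl i ∈ cj '' (H : Set P)}
  have hS : clsEl '' S = cj '' (H : Set P) := by
    ext q
    refine ⟨fun ⟨i, hi, e⟩ => e ▸ hi.2, fun hq => ?_⟩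
    obtain ⟨i, hi, rfl⟩ := hsub hq
    exact ⟨i, ⟨hi, hq⟩, rfl⟩
  have hcardH : Nat.card S = cSub.relIndex H := by
    rw [← Nat.card_image_of_injOn (s := S) (f := clsEl) (fun i hi j hj => clsEl_inj hi.1 hj.1), hS, ← range_cjQ,
      Nat.card_range_of_injective hinjH]
    rfl
  obtain ⟨b, hbd⟩ : ∃ b : ℕ → Bool,
      ∀ o, b o = true ↔ ∃ i < 819, clsOrb i = o ∧ clsEl i ∈ cj '' (H : Set P) :=
    ⟨fun o => @decide _ (Classical.propDecidable (∃ i < 819, clsOrb i = o ∧ clsEl i ∈ cj '' (H : Set P))),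
      fun o => @decide_eq_true_iff _ (Classical.propDecidable _)⟩
  have hb : ∀ i < 819, (clsEl i ∈ cj '' (H : Set P) ↔ b (clsOrb i) = true) := fun i hi => by
    refine ⟨fun h => (hbd _).2 ⟨i, hi, rfl, h⟩, fun h => ?_⟩
    obtain ⟨j, hj, ho, hj'⟩ := (hbd _).1 h
    exact ((cls_mem i hi).2.choose_spec.2.2 H h1 j hj ho).1 hj'
  have h0 : b 0 = true := (hbd 0).2 ⟨0, by norm_num, cls_zero.1, 1, H.one_mem, by
    rw [clsEl_eq (a := pg 0) (cls_zero.2 ▸ El.letterM (x := 0) (by norm_num)), cj]
    group⟩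
  have horb : ∀ i < 819, clsOrb i < 4 := fun i hi => by
    have h := List.all_eq_true.1 cls_chk i (List.mem_range.2 hi)
    simp only [clsOK, Bool.and_eq_true, Nat.blt_eq] at h
    exact h.1
  have hlist : Nat.card S =
      ((List.range 819).filter fun i => [true, b 1, b 2, b 3].getD (clsOrb i) false).length := by
    rw [← List.toFinset_card_of_nodup (List.nodup_range.filter _), ← Nat.card_eq_finsetCard]
    refine Nat.card_congr (Equiv.subtypeEquivRight fun i => ?_)
    simp only [List.mem_toFinset, List.mem_filter, List.mem_range, S, Set.mem_ofPred_eq]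
    refine and_congr_right fun hi => (hb i hi).trans ?_
    have := horb i hi
    interval_cases h : clsOrb i <;> simp [h0]
  have hdvd : cSub.relIndex H ∣ 819 := by
    rw [← relIndex_cm, ← Subgroup.relIndex_mul_relIndex _ _ _ h1 h2]
    exact dvd_mul_right _ _
  rw [← hcardH, hlist] at hdvd
  rcases cls_sums _ _ _ hdvd with ⟨e1, e2, e3⟩ | ⟨e1, e2, e3⟩
  · refine Or.inl (le_antisymm (fun h hh => ?_) h1)
    obtain ⟨i, hi, e⟩ := hsub ⟨h, hh, rfl⟩
    have hbi := (hb i hi).1 (e ▸ ⟨h, hh, rfl⟩)
    have hi0 : i = 0 := cls_first i hi (by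
      have := horb i hi
      interval_cases h' : clsOrb i <;> simp_all)
    subst hi0
    have hq : cjQ mSub ((⟨h, h2 hh⟩ : mSub) : mSub ⧸ cSub.subgroupOf mSub) =
        cjQ mSub ((1 : mSub) : mSub ⧸ cSub.subgroupOf mSub) := by
      show cj h = cj (1 : P)
      rw [← e, clsEl_eq (a := pg 0) (cls_zero.2 ▸ El.letterM (x := 0) (by norm_num)), cj]
      group
    simpa [Subgroup.mem_subgroupOf] using QuotientGroup.eq.1 (hinj hq).symm
  · refine Or.inr (Subgroup.eq_of_le_of_card_ge h2 ?_)
    have hall' : clsEl '' S = cj '' (mSub : Set P) := by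
      rw [hall]
      refine Set.image_congr' (fun _ => rfl) |>.trans ?_
      congr 1
      ext i
      refine ⟨fun h => h.1, fun hi => ⟨hi, (hb i hi).2 ?_⟩⟩
      have := horb i hi
      interval_cases h' : clsOrb i <;> simp_all
    have hS819 : Nat.card S = 819 := by
      rw [← Nat.card_image_of_injOn (s := S) (f := clsEl) (fun i hi j hj => clsEl_inj hi.1 hj.1), hall', hall,
        Nat.card_image_of_injOn (s := Set.Iio 819) (f := clsEl) (fun i hi j hj => clsEl_inj hi hj)]
      simp
    have e := Subgroup.card_mul_index (cSub.subgroupOf H)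
    rw [Nat.card_congr (Subgroup.subgroupOfEquivOfLe h1).toEquiv, card_cSub, ← Subgroup.relIndex, ← hcardH, hS819] at e
    rw [card_mSub]
    omega

attribute [local irreducible] cfVec cfCol cfSolve cfWords cfSpan cfCoef mm mval one26

theorem centralizer_mSub {z : P} (hz : ∀ g ∈ mSub, g * z = z * g) : z = 1 := by
  obtain ⟨hfix, hl1, hl2, hsolve, hv, hv0⟩ := cf_fix_chk
  simp only [List.all_eq_true, Bool.and_eq_true, Nat.blt_eq] at hfix
  obtain ⟨hspan, hspan'⟩ := cf_span_chk
  simp only [List.all_eq_true, Nat.blt_eq] at hspan'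
  set Z : Matrix (Fin 26) (Fin 26) (ZMod 2) := (sigma z : Matrix (Fin 26) (Fin 26) (ZMod 2)) with hZ
  have hcomm : ∀ w : List ℕ, (∀ x ∈ w, x < 12) → toMat (mval w) * Z = Z * toMat (mval w) := fun w hw => by
    have e := congrArg (fun g => (sigma g : Matrix (Fin 26) (Fin 26) (ZMod 2))) (hz _ (word_mem_m hw))
    simp only [map_mul, Units.val_mul] at e
    rw [El.word fun x hx => by have := hw x hx; omega]
    exact e
  set V := toMat cfVec with hV
  set X := V * Z with hX
  have hfixX : ∀ k, k < 2 → X * (toMat (mval (cfWords.getD k [])) + 1) = 0 := by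
    intro k hk
    have hm : cfWords.getD k [] ∈ cfWords := by
      rw [List.getD_eq_getElem _ _ (hl1 ▸ hk)]; exact List.getElem_mem _
    obtain ⟨h12, hf⟩ := hfix _ hm
    have hf' := congrArg toMat (Nat.eq_of_beq_eq_true hf)
    rw [toMat_mm] at hf'
    rw [mul_add, mul_one, hX, mul_assoc, ← hcomm _ h12, ← mul_assoc, hf']
    ext i j
    rw [Matrix.add_apply, Matrix.zero_apply]
    exact CharTwo.add_self_eq_zero _
  have hsolve' := congrArg toMat hsolve
  simp only [toMat_xor, toMat_mm, toMat_one26] at hsolve'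
  have hXE : X = X * toMat cfCol * V := by
    have e := congrArg (X * ·) hsolve'
    simp only [mul_add, mul_one, ← mul_assoc, hfixX 0 (by norm_num), hfixX 1 (by norm_num), zero_mul, add_zero] at e
    ext i j
    have e' := congrFun (congrFun e i) j
    simp only [Matrix.add_apply, Matrix.zero_apply] at e'
    exact CharTwo.add_eq_zero.1 e'.symm
  have hVrow : ∀ i : Fin 26, i ≠ 0 → V i = 0 := fun i hi => by
    funext j
    have : 0 < i.val := Fin.pos_iff_ne_zero.2 hi
    rw [hV, toMat_apply, Nat.testBit_lt_two_pow (lt_of_lt_of_le hv (Nat.pow_le_pow_right (by norm_num) (by omega)))]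
    rfl
  have hVeq : X = (X * toMat cfCol) 0 0 • V := by
    ext i j
    by_cases hi : i = 0
    · subst hi
      conv_lhs => rw [hXE]
      rw [Matrix.mul_apply, Finset.sum_eq_single 0, Matrix.smul_apply, smul_eq_mul]
      · intro k _ hk
        rw [hVrow k hk]; simp
      · simp
    · rw [Matrix.smul_apply, hVrow i hi, hX, Matrix.mul_apply]
      simp [hVrow i hi]
  have hXV : X = V := by
    rcases (by decide : ∀ c : ZMod 2, c = 0 ∨ c = 1) ((X * toMat cfCol) 0 0) with h | h
    · exfalso
      rw [h, zero_smul, hX, hZ] at hVeq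
      have e : toMat cfVec = toMat 0 := by
        rw [← hV, show V = V * (sigma z : Matrix (Fin 26) (Fin 26) (ZMod 2)) * ((sigma z)⁻¹ : GL (Fin 26) (ZMod 2)).val by
          rw [mul_assoc, Units.mul_inv, mul_one], hVeq, zero_mul]
        ext i j
        simp [toMat_apply]
      exact hv0 (toMat_inj (hv.trans_le (Nat.pow_le_pow_right (by norm_num) (by norm_num))) (by norm_num) e)
    · rwa [h, one_smul] at hVeq
  have hsum : ∀ (cs : List ℕ) (ws : List (List ℕ)), (∀ w ∈ ws, ∀ x ∈ w, x < 12) →
      toMat (cfSum cs ws) * Z = toMat (cfSum cs ws) := by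
    intro cs
    induction cs with
    | nil =>
      intro ws _
      rw [show toMat (cfSum [] ws) = 0 by ext i j; simp [cfSum, toMat_apply], zero_mul]
    | cons c cs ih =>
      intro ws hws
      cases ws with
      | nil => rw [show toMat (cfSum (c :: cs) []) = 0 by ext i j; simp [cfSum, toMat_apply], zero_mul]
      | cons w ws =>
        rw [cfSum, toMat_xor, toMat_mm, toMat_mm, add_mul, ih ws fun u hu => hws u (List.mem_cons_of_mem w hu)]
        simp only [mul_assoc]
        rw [hcomm w (hws w List.mem_cons_self), ← mul_assoc (toMat cfVec) Z, ← hV, ← hX, hXV]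
  have hZ1 : Z = 1 := by
    have e := hsum cfCoef cfSpan hspan'
    rwa [hspan, toMat_one26, one_mul] at e
  exact sigma_injective (by rw [map_one]; exact Units.ext hZ1)

end Cfsg.Lib.ThCert
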