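import Mathlib

/-!
Square matrices of size 26 over the field with two elements, packed into one natural number, row after row.
-/

set_option autoImplicit false
set_option exponentiation.threshold 700

namespace Cfsg.Lib.ThCert

/-- One bit at the foot of each of the first rows. -/
def colN : ℕ → ℕ
  | 0 => 0
  | n + 1 => 1 + 2 ^ 26 * colN n

/-- One bit at the foot of each row. -/
def col26 : ℕ :=
  0x4000001000000400000100000040000010000004000001000000400000100000040000010000004000001000000400000100000040000010000004000001000000400000100000040000010000004000001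

/-- A product by one column of the left factor. -/
def term (A B i : ℕ) : ℕ :=
  Nat.mul (Nat.land (Nat.shiftRight A i) col26) (Nat.land (Nat.shiftRight B (Nat.mul 26 i)) 0x3ffffff)

/-- The sum of the first products by columns. -/
def mulN (A B : ℕ) : ℕ → ℕ
  | 0 => 0
  | n + 1 => Nat.xor (mulN A B n) (term A B n)

/-- The product. -/
def mm (A B : ℕ) : ℕ :=
  let r0 := (Nat.mul (Nat.land (Nat.shiftRight A 0) col26) (Nat.land (Nat.shiftRight B 0) 0x3ffffff))
  let r1 := Nat.xor r0 (Nat.mul (Nat.land (Nat.shiftRight A 1) col26) (Nat.land (Nat.shiftRight B 26) 0x3ffffff))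
  let r2 := Nat.xor r1 (Nat.mul (Nat.land (Nat.shiftRight A 2) col26) (Nat.land (Nat.shiftRight B 52) 0x3ffffff))
  let r3 := Nat.xor r2 (Nat.mul (Nat.land (Nat.shiftRight A 3) col26) (Nat.land (Nat.shiftRight B 78) 0x3ffffff))
  let r4 := Nat.xor r3 (Nat.mul (Nat.land (Nat.shiftRight A 4) col26) (Nat.land (Nat.shiftRight B 104) 0x3ffffff))
  let r5 := Nat.xor r4 (Nat.mul (Nat.land (Nat.shiftRight A 5) col26) (Nat.land (Nat.shiftRight B 130) 0x3ffffff))
  let r6 := Nat.xor r5 (Nat.mul (Nat.land (Nat.shiftRight A 6) col26) (Nat.land (Nat.shiftRight B 156) 0x3ffffff))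
  let r7 := Nat.xor r6 (Nat.mul (Nat.land (Nat.shiftRight A 7) col26) (Nat.land (Nat.shiftRight B 182) 0x3ffffff))
  let r8 := Nat.xor r7 (Nat.mul (Nat.land (Nat.shiftRight A 8) col26) (Nat.land (Nat.shiftRight B 208) 0x3ffffff))
  let r9 := Nat.xor r8 (Nat.mul (Nat.land (Nat.shiftRight A 9) col26) (Nat.land (Nat.shiftRight B 234) 0x3ffffff))
  let r10 := Nat.xor r9 (Nat.mul (Nat.land (Nat.shiftRight A 10) col26) (Nat.land (Nat.shiftRight B 260) 0x3ffffff))
  let r11 := Nat.xor r10 (Nat.mul (Nat.land (Nat.shiftRight A 11) col26) (Nat.land (Nat.shiftRight B 286) 0x3ffffff))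
  let r12 := Nat.xor r11 (Nat.mul (Nat.land (Nat.shiftRight A 12) col26) (Nat.land (Nat.shiftRight B 312) 0x3ffffff))
  let r13 := Nat.xor r12 (Nat.mul (Nat.land (Nat.shiftRight A 13) col26) (Nat.land (Nat.shiftRight B 338) 0x3ffffff))
  let r14 := Nat.xor r13 (Nat.mul (Nat.land (Nat.shiftRight A 14) col26) (Nat.land (Nat.shiftRight B 364) 0x3ffffff))
  let r15 := Nat.xor r14 (Nat.mul (Nat.land (Nat.shiftRight A 15) col26) (Nat.land (Nat.shiftRight B 390) 0x3ffffff))
  let r16 := Nat.xor r15 (Nat.mul (Nat.land (Nat.shiftRight A 16) col26) (Nat.land (Nat.shiftRight B 416) 0x3ffffff))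
  let r17 := Nat.xor r16 (Nat.mul (Nat.land (Nat.shiftRight A 17) col26) (Nat.land (Nat.shiftRight B 442) 0x3ffffff))
  let r18 := Nat.xor r17 (Nat.mul (Nat.land (Nat.shiftRight A 18) col26) (Nat.land (Nat.shiftRight B 468) 0x3ffffff))
  let r19 := Nat.xor r18 (Nat.mul (Nat.land (Nat.shiftRight A 19) col26) (Nat.land (Nat.shiftRight B 494) 0x3ffffff))
  let r20 := Nat.xor r19 (Nat.mul (Nat.land (Nat.shiftRight A 20) col26) (Nat.land (Nat.shiftRight B 520) 0x3ffffff))
  let r21 := Nat.xor r20 (Nat.mul (Nat.land (Nat.shiftRight A 21) col26) (Nat.land (Nat.shiftRight B 546) 0x3ffffff))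
  let r22 := Nat.xor r21 (Nat.mul (Nat.land (Nat.shiftRight A 22) col26) (Nat.land (Nat.shiftRight B 572) 0x3ffffff))
  let r23 := Nat.xor r22 (Nat.mul (Nat.land (Nat.shiftRight A 23) col26) (Nat.land (Nat.shiftRight B 598) 0x3ffffff))
  let r24 := Nat.xor r23 (Nat.mul (Nat.land (Nat.shiftRight A 24) col26) (Nat.land (Nat.shiftRight B 624) 0x3ffffff))
  let r25 := Nat.xor r24 (Nat.mul (Nat.land (Nat.shiftRight A 25) col26) (Nat.land (Nat.shiftRight B 650) 0x3ffffff))
  r25

theorem mm_eq (A B : ℕ) : mm A B = mulN A B 26 := by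
  simp only [mm, mulN, term, show ∀ x : ℕ, Nat.xor 0 x = x from Nat.zero_xor]

/-- The matrix of a packed number. -/
def toMat (A : ℕ) : Matrix (Fin 26) (Fin 26) (ZMod 2) :=
  Matrix.of fun j i => if A.testBit (26 * j.val + i.val) then 1 else 0

theorem toMat_apply (A : ℕ) (j i : Fin 26) : toMat A j i = if A.testBit (26 * j.val + i.val) then 1 else 0 := rfl

/-- The packed identity. -/
def one26 : ℕ :=
  0x8000001000000200000040000008000001000000200000040000008000001000000200000040000008000001000000200000040000008000001000000200000040000008000001000000200000040000008000001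

theorem col26_eq : col26 = colN 26 := by decide +kernel

theorem spread_testBit : ∀ (n A r j k : ℕ), r < 2 ^ 26 → k < 26 →
    ((A &&& colN n) * r).testBit (26 * j + k) = (decide (j < n) && A.testBit (26 * j) && r.testBit k)
  | 0, A, r, j, k, _, _ => by simp [colN]
  | n + 1, A, r, j, k, hr, hk => by
    have hdec : A &&& colN (n + 1) = A % 2 + 2 ^ 26 * ((A / 2 ^ 26) &&& colN n) := by
      refine Nat.eq_of_testBit_eq fun q => ?_
      have h1 : A % 2 < 2 ^ 26 := lt_of_lt_of_le (Nat.mod_lt _ (by norm_num)) (by norm_num)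
      rw [Nat.testBit_and, colN, add_comm (A % 2) _, add_comm 1 _,
        Nat.testBit_two_pow_mul_add _ (by norm_num : 1 < 2 ^ 26), Nat.testBit_two_pow_mul_add _ h1]
      split_ifs with hq
      · rcases q with _ | q
        · simp [Nat.testBit_zero]
        · have e : A % 2 / 2 = 0 := by omega
          simp [Nat.testBit_succ, e]
      · rw [Nat.testBit_and, Nat.testBit_div_two_pow, Nat.sub_add_cancel (Nat.le_of_not_lt hq)]
    have hlow : A % 2 * r < 2 ^ 26 := by
      rcases Nat.mod_two_eq_zero_or_one A with h | h <;> rw [h] <;> simp only [Nat.zero_mul, Nat.one_mul] <;> omega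
    rw [hdec, add_mul, mul_assoc, add_comm, Nat.testBit_two_pow_mul_add _ hlow]
    rcases j with _ | j
    · rw [if_pos (by omega)]
      rcases Nat.mod_two_eq_zero_or_one A with h | h <;> simp [h, Nat.testBit_zero]
    · rw [if_neg (by omega), show 26 * (j + 1) + k - 26 = 26 * j + k by omega, spread_testBit n _ r j k hr hk,
        Nat.testBit_div_two_pow, show 26 * (j + 1) = 26 * j + 26 by omega]
      simp

theorem term_testBit (A B i : ℕ) (j k : Fin 26) :
    (term A B i).testBit (26 * j.val + k.val) =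
      (A.testBit (26 * j.val + i) && B.testBit (26 * i + k.val)) := by
  show ((A >>> i &&& col26) * (B >>> (26 * i) &&& 0x3ffffff)).testBit _ = _
  rw [show (0x3ffffff : ℕ) = 2 ^ 26 - 1 by norm_num, Nat.and_two_pow_sub_one_eq_mod, col26_eq,
    spread_testBit 26 _ _ j k (Nat.mod_lt _ (by norm_num)) k.2, Nat.testBit_shiftRight, Nat.testBit_mod_two_pow,
    Nat.testBit_shiftRight]
  simp [Nat.add_comm i]

theorem mulN_entry (A B : ℕ) (j k : Fin 26) : ∀ n : ℕ,
    (if (mulN A B n).testBit (26 * j.val + k.val) then (1 : ZMod 2) else 0) =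
      ∑ i ∈ Finset.range n, (if A.testBit (26 * j.val + i) then 1 else 0) * (if B.testBit (26 * i + k.val) then 1 else 0)
  | 0 => by simp [mulN]
  | n + 1 => by
    rw [Finset.sum_range_succ, ← mulN_entry A B j k n, mulN, show Nat.xor _ _ = mulN A B n ^^^ term A B n from rfl,
      Nat.testBit_xor, term_testBit]
    cases (mulN A B n).testBit (26 * j.val + k.val) <;> cases A.testBit (26 * j.val + n) <;>
      cases B.testBit (26 * n + k.val) <;> decide

theorem toMat_mm (A B : ℕ) : toMat (mm A B) = toMat A * toMat B := by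
  ext j k
  rw [Matrix.mul_apply, toMat_apply, mm_eq, mulN_entry, Finset.sum_range]
  simp only [toMat_apply]

theorem toMat_one26 : toMat one26 = 1 := by
  have h : ∀ j i : Fin 26, one26.testBit (26 * j.val + i.val) = decide (j = i) := by decide +kernel
  ext j i
  rw [toMat_apply, h j i, Matrix.one_apply]
  simp

theorem toMat_inj {A B : ℕ} (hA : A < 2 ^ 676) (hB : B < 2 ^ 676) (h : toMat A = toMat B) : A = B := by
  refine Nat.eq_of_testBit_eq fun q => ?_
  rcases lt_or_ge q 676 with hq | hq
  · have h1 := congrFun (congrFun h ⟨q / 26, by omega⟩) ⟨q % 26, Nat.mod_lt _ (by norm_num)⟩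
    simp only [toMat_apply, Nat.div_add_mod] at h1
    revert h1
    cases A.testBit q <;> cases B.testBit q <;> simp
  · rw [Nat.testBit_lt_two_pow (hA.trans_le (Nat.pow_le_pow_right (by norm_num) hq)),
      Nat.testBit_lt_two_pow (hB.trans_le (Nat.pow_le_pow_right (by norm_num) hq))]

end Cfsg.Lib.ThCert
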