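import Cfsg.Agent.ThCert.OrbitDef

/-!
The table of the orbit is checked.
-/

set_option autoImplicit false
set_option maxRecDepth 100000
set_option Elab.async false

namespace Cfsg.Lib.ThCert

theorem edge0 : allRange edgeOK 0 6000 = true := by decide +kernel
theorem edge1 : allRange edgeOK 6000 6000 = true := by decide +kernel
theorem edge2 : allRange edgeOK 12000 5199 = true := by decide +kernel
theorem ord0 : allRange ordOK 0 6000 = true := by decide +kernel
theorem ord1 : allRange ordOK 6000 6000 = true := by decide +kernel
theorem ord2 : allRange ordOK 12000 5198 = true := by decide +kernel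

theorem edges_ok : allRange edgeOK 0 17199 = true :=
  allRange_cat (n := 12000) (lo := 0) (m := 5199) (allRange_cat (n := 6000) (lo := 0) (m := 6000) edge0 edge1) edge2

theorem ords_ok : allRange ordOK 0 17198 = true :=
  allRange_cat (n := 12000) (lo := 0) (m := 5198) (allRange_cat (n := 6000) (lo := 0) (m := 6000) ord0 ord1) ord2

end Cfsg.Lib.ThCert
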