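import Mathlib

/-!
Tables of natural numbers packed in the leaves of binary trees.
-/

set_option autoImplicit false

namespace Cfsg.Lib.ThCert

/-- A binary tree of packed natural numbers. -/
inductive Bin
  | leaf (v : ℕ)
  | node (l r : Bin)

/-- The leaf with the given index, highest digit first. -/
def Bin.get : Bin → ℕ → ℕ → ℕ
  | .leaf v, _, _ => v
  | .node l r, d, i => match d with
    | 0 => 0
    | d + 1 => bif Nat.beq (Nat.land (Nat.shiftRight i d) 1) 0 then l.get d i else r.get d i

/-- A table: a tree of given depth, with fields of given width, 32 fields a leaf. -/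
structure Table where
  depth : ℕ
  width : ℕ
  tree : Bin

/-- The mask of a width. -/
def wmask (w : ℕ) : ℕ := Nat.sub (Nat.shiftLeft 1 w) 1

/-- An entry of a table. -/
def Table.at' (T : Table) (i : ℕ) : ℕ :=
  Nat.land (Nat.shiftRight (T.tree.get T.depth (Nat.shiftRight i 5)) (Nat.mul T.width (Nat.land i 31))) (wmask T.width)

theorem Table.at'_lt (T : Table) (i : ℕ) : T.at' i < 2 ^ T.width := by
  have h : wmask T.width = 2 ^ T.width - 1 := by
    show (1 <<< T.width) - 1 = _
    rw [Nat.one_shiftLeft]
  show _ &&& wmask T.width < _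
  rw [h, Nat.and_two_pow_sub_one_eq_mod]
  exact Nat.mod_lt _ (Nat.two_pow_pos _)

/-- A check on a range of indices. -/
def allRange (f : ℕ → Bool) : ℕ → ℕ → Bool
  | _, 0 => true
  | lo, n + 1 => f lo && allRange f (lo + 1) n

theorem allRange_sound {f : ℕ → Bool} : ∀ {n lo : ℕ}, allRange f lo n = true → ∀ k, lo ≤ k → k < lo + n → f k = true
  | 0, lo, _, k, h1, h2 => absurd h2 (by omega)
  | n + 1, lo, h, k, h1, h2 => by
    simp only [allRange, Bool.and_eq_true] at h
    rcases Nat.eq_or_lt_of_le h1 with rfl | hlt
    · exact h.1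
    · exact allRange_sound h.2 k hlt (by omega)

theorem allRange_cat {f : ℕ → Bool} : ∀ {n lo m : ℕ}, allRange f lo n = true → allRange f (lo + n) m = true →
    allRange f lo (n + m) = true
  | 0, lo, m, _, h => by rw [Nat.zero_add]; simpa using h
  | n + 1, lo, m, h, h' => by
    simp only [allRange, Bool.and_eq_true] at h
    rw [show n + 1 + m = n + m + 1 by omega, allRange, Bool.and_eq_true]
    exact ⟨h.1, allRange_cat h.2 (by rwa [show lo + 1 + n = lo + (n + 1) by omega])⟩

end Cfsg.Lib.ThCert
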