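import Cfsg.Agent.ThCert.Span
import Cfsg.Agent.ThCert.Tree
import Cfsg.Agent.ThCert.Data.OrbitData

/-!
The table of the orbit of a subspace of dimension four and its checks.
-/

set_option autoImplicit false

namespace Cfsg.Lib.ThCert

/-- The number of points. -/
def ptN : ℕ := 17199

/-- The rows of a point. -/
def ptRows (x : ℕ) : ℕ := Nat.land (ptTab.at' x) 0xffffffffffffffffffffffffff

/-- A pivot of a point. -/
def ptPiv (x j : ℕ) : ℕ := Nat.land (Nat.shiftRight (ptTab.at' x) (Nat.add 104 (Nat.mul 5 j))) 31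

/-- The coefficients of four rows in the basis of a point, read at the pivots. -/
def gather (e W : ℕ) : ℕ :=
  let g := fun j => Nat.shiftLeft
    (Nat.land (Nat.shiftRight W (Nat.land (Nat.shiftRight e (Nat.add 104 (Nat.mul 5 j))) 31)) col26) j
  Nat.land (Nat.xor (Nat.xor (g 0) (g 1)) (Nat.xor (g 2) (g 3))) mask4

/-- Four rows lie in the span of a point. -/
def into (x W : ℕ) : Bool :=
  let e := ptTab.at' x
  Nat.beq (mm4 (gather e W) (Nat.land e 0xffffffffffffffffffffffffff)) W

/-- A point follows from its parent. -/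
def edgeOK (x : ℕ) : Bool :=
  let e := parTab.at' x
  let y := Nat.land e 0xffff
  let l := Nat.shiftRight e 16
  Nat.beq x 0 || (Nat.blt y x && Nat.blt l 14 && into x (mm (ptRows y) (gmat l)))

/-- The sum of the squares of the elements of a span. -/
def sqSum (S : ℕ) : ℕ → ℕ
  | 0 => 0
  | c + 1 => Nat.add (sqSum S c) (let v := mm4 c S; Nat.mul v v)

/-- Two neighbours in the order are different. -/
def ordOK (i : ℕ) : Bool :=
  Nat.blt (sqSum (ptRows (ordTab.at' i)) 16) (sqSum (ptRows (ordTab.at' (Nat.add i 1))) 16) &&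
    Nat.blt (ordTab.at' i) ptN && Nat.blt (ordTab.at' (Nat.add i 1)) ptN

theorem into_sound {x W : ℕ} (h : into x W = true) : spanKey W ⊆ spanKey (ptRows x) := by
  have e := Nat.eq_of_beq_eq_true h
  rw [← e]
  refine spanKey_sub ?_
  show (Nat.land _ mask4 : ℕ) &&& mask4 = _
  show (_ &&& mask4) &&& mask4 = _
  rw [Nat.and_assoc, Nat.and_self]
  rfl

theorem sqSum_eq (S : ℕ) : ∀ n, n ≤ 16 → sqSum S n = ∑ c ∈ Finset.range n, mm c S * mm c S
  | 0, _ => by simp [sqSum]
  | n + 1, hn => by
    rw [Finset.sum_range_succ, ← sqSum_eq S n (by omega), mm4_eq S (small_land (by omega))]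
    rfl

theorem sqSum_of_card {S : ℕ} (h : (spanKey S).card = 16) : sqSum S 16 = ∑ v ∈ spanKey S, v * v := by
  rw [sqSum_eq S 16 le_rfl, spanKey, Finset.sum_image]
  exact Finset.card_image_iff.1 (h.trans (Finset.card_range 16).symm)

end Cfsg.Lib.ThCert
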