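import Cfsg.Agent.ThCert.Bound
import Cfsg.Agent.ThCert.OrbitCheck
import Cfsg.Agent.ThCert.Data.H0Data

/-!
The order of the presented group is 634023936, the representation is faithful, and the stabiliser of the first point
is generated by eight elements.
-/

set_option autoImplicit false
set_option maxRecDepth 100000
set_option exponentiation.threshold 700

namespace Cfsg.Lib.ThCert

/-- An element of the first members. -/
def hElA (i : ℕ) : P := wordVal (sgn pg) (hWordsA.getD i [])
/-- An element of the second members. -/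
def hElB (i : ℕ) : P := wordVal (sgn pg) (hWordsB.getD i [])

/-- The matrix of a word in the first members. -/
def hValA : List ℕ → ℕ
  | [] => one26
  | i :: w => mm (hMatsA.getD i one26) (hValA w)

/-- The matrix of a word in the second members. -/
def hValB : List ℕ → ℕ
  | [] => one26
  | i :: w => mm (hMatsB.getD i one26) (hValB w)

theorem hWords_ok : hWordsA.map mval = hMatsA ∧ hWordsB.map mval = hMatsB ∧
    (∀ w ∈ hWordsA ++ hWordsB, ∀ x ∈ w, x < 14) ∧ hWordsA.length = 8 ∧ hWordsB.length = 8 := by decide +kernel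

theorem hLevels_ok :
    hLev0 = hLevW0.map (fun w => (hValA w, hValB w)) ∧ hLev1 = hLevW1.map (fun w => (hValA w, hValB w)) ∧
      hLev2 = hLevW2.map (fun w => (hValA w, hValB w)) ∧ (∀ w ∈ hLevW0 ++ hLevW1 ++ hLevW2, ∀ i ∈ w, i < 8) := by
  decide +kernel

/-- The levels of the stabiliser. -/
def hChain : List (ℕ × List ℕ) :=
  [(hVec0, hLev0.map Prod.fst), (hVec1, hLev1.map Prod.fst), (hVec2, hLev2.map Prod.fst)]

theorem hChain_ok : chainLv hChain = true ∧ chainSz hChain = 36864 := by decide +kernel

theorem hMat_el {i : ℕ} (hi : i < 8) : El (hMatsA.getD i one26) (hElA i) ∧ El (hMatsB.getD i one26) (hElB i) := by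
  obtain ⟨h1, h2, h3, h4, h5⟩ := hWords_ok
  rw [← h1, ← h2, List.getD_eq_getElem _ _ (by simpa using h4 ▸ hi), List.getD_eq_getElem _ _ (by simpa using h5 ▸ hi),
    List.getElem_map, List.getElem_map, hElA, hElB, List.getD_eq_getElem _ _ (h4 ▸ hi),
    List.getD_eq_getElem _ _ (h5 ▸ hi)]
  exact ⟨El.word (h3 _ (List.mem_append_left _ (List.getElem_mem _))),
    El.word (h3 _ (List.mem_append_right _ (List.getElem_mem _)))⟩

theorem hVal_el : ∀ {w : List ℕ}, (∀ i ∈ w, i < 8) →
    El (hValA w) (wordVal hElA w) ∧ El (hValB w) (wordVal hElB w)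
  | [], _ => by simpa [hValA, hValB, wordVal] using El.one
  | i :: w, h => by
    obtain ⟨h1, h2⟩ := hVal_el fun j hj => h j (List.mem_cons_of_mem i hj)
    obtain ⟨g1, g2⟩ := hMat_el (h i List.mem_cons_self)
    rw [show wordVal hElA (i :: w) = hElA i * wordVal hElA w by simp [wordVal],
      show wordVal hElB (i :: w) = hElB i * wordVal hElB w by simp [wordVal]]
    exact ⟨g1.mul h1, g2.mul h2⟩

/-- The subgroup of the first members. -/
def hSub : Subgroup P := Subgroup.closure (hElA '' Set.Iio 8)

theorem hWord_mem {w : List ℕ} (h : ∀ i ∈ w, i < 8) : wordVal hElA w ∈ hSub := by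
  refine list_prod_mem fun a ha => ?_
  obtain ⟨i, hi, rfl⟩ := List.mem_map.1 ha
  exact Subgroup.subset_closure ⟨i, h i hi, rfl⟩

theorem hChain_mem : ∀ L ∈ hChain, ∀ t ∈ L.2, ∃ a ∈ hSub, El t a := by
  obtain ⟨h0, h1, h2, hs⟩ := hLevels_ok
  have key : ∀ W : List (List ℕ), (∀ w ∈ W, ∀ i ∈ w, i < 8) →
      ∀ t ∈ (W.map fun w => (hValA w, hValB w)).map Prod.fst, ∃ a ∈ hSub, El t a := by
    intro W hW t ht
    simp only [List.map_map, List.mem_map, Function.comp_apply] at ht
    obtain ⟨w, hw, rfl⟩ := ht
    exact ⟨_, hWord_mem (hW w hw), (hVal_el (hW w hw)).1⟩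
  intro L hL
  simp only [hChain, List.mem_cons, List.not_mem_nil, or_false] at hL
  rcases hL with rfl | rfl | rfl
  · rw [h0]; exact key _ fun w hw => hs w (by simp [hw])
  · rw [h1]; exact key _ fun w hw => hs w (by simp [hw])
  · rw [h2]; exact key _ fun w hw => hs w (by simp [hw])

theorem hSub_big : 36864 ≤ Nat.card (hSub.map sigma) := hChain_ok.2 ▸ chain_le _ hChain hChain_ok.1 hChain_mem

/-- A point. -/
def ptSet (x : ℕ) : Finset ℕ := spanKey (ptRows x)

theorem ptSet0_card : (ptSet 0).card = 16 := by decide +kernel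

theorem gens_fix_check : (List.range 8).all (fun i => into 0 (mm (ptRows 0) (hMatsA.getD i one26))) = true := by
  decide +kernel

/-- The stabiliser of the first point. -/
def ptStab : Subgroup P where
  carrier := {a | moveSet a (ptSet 0) = ptSet 0}
  one_mem' := by
    show moveSet 1 _ = _
    ext v
    simp only [moveSet, Finset.mem_image, ← mm_matOf El.one]
    exact ⟨fun ⟨w, hw, e⟩ => by rwa [← e, mm_one26 (spanKey_lt _ w hw)],
      fun hv => ⟨v, hv, mm_one26 (spanKey_lt _ v hv)⟩⟩
  mul_mem' := fun {a b} (ha : moveSet a _ = _) (hb : moveSet b _ = _) => by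
    show moveSet (a * b) _ = _
    rw [moveSet_mul, ha, hb]
  inv_mem' := fun {a} (ha : moveSet a _ = _) => by
    show moveSet a⁻¹ _ = _
    conv_lhs => rw [← ha]
    exact moveSet_inv a _ (spanKey_lt _)

theorem hSub_le_stab : hSub ≤ ptStab := by
  rw [hSub, Subgroup.closure_le]
  rintro _ ⟨i, hi, rfl⟩
  have hi' : i < 8 := hi
  show moveSet (hElA i) (ptSet 0) = ptSet 0
  have h1 := moveSet_spanKey (hMat_el hi').1 (ptRows 0)
  have h2 := into_sound (List.all_eq_true.1 gens_fix_check i (List.mem_range.2 hi'))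
  rw [← h1] at h2
  exact Finset.eq_of_subset_of_card_le h2 (le_of_eq (moveSet_card _ _ (spanKey_lt _)).symm)

theorem pt_reach : ∀ x < ptN, ∃ a, moveSet a (ptSet 0) = ptSet x := by
  intro x
  induction x using Nat.strong_induction_on with
  | _ x ih =>
    intro hx
    have h := allRange_sound edges_ok x (Nat.zero_le x) (by simpa [ptN] using hx)
    simp only [edgeOK, Bool.or_eq_true, Bool.and_eq_true, Nat.blt_eq] at h
    generalize Nat.land (parTab.at' x) 0xffff = y at h
    generalize Nat.shiftRight (parTab.at' x) 16 = l at h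
    rcases h with h0 | ⟨⟨hy, hl⟩, hi⟩
    · rw [Nat.eq_of_beq_eq_true h0]
      exact ⟨1, ptStab.one_mem⟩
    · obtain ⟨a, ha⟩ := ih y hy (hy.trans hx)
      have hg : El (gmat l) (sgn pg l) := by
        have := El.word (w := [l]) (by simpa using hl)
        simp only [mval, wordVal, List.map_cons, List.map_nil, List.prod_cons, List.prod_nil, mul_one] at this
        rwa [mm_one26 ((by decide +kernel : ∀ j < 14, gmat j < 2 ^ 676) l hl)] at this
      have hs := into_sound hi
      rw [← moveSet_spanKey hg, show spanKey (ptRows y) = ptSet y from rfl, ← ha, ← moveSet_mul] at hs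
      refine ⟨a * sgn pg l, Finset.eq_of_subset_of_card_le hs (Finset.card_image_le.trans ?_)⟩
      rw [moveSet_card _ (ptSet 0) (spanKey_lt _), ptSet0_card, Finset.card_range]

theorem ptSet_card {x : ℕ} (hx : x < ptN) : (ptSet x).card = 16 := by
  obtain ⟨a, ha⟩ := pt_reach x hx
  rw [← ha, moveSet_card _ (ptSet 0) (spanKey_lt _), ptSet0_card]

theorem ordTab_lt {i : ℕ} (hi : i < ptN) : ordTab.at' i < ptN := by
  have hi' : i < 17199 := hi
  rcases Nat.lt_or_ge i 17198 with h | h
  · have := allRange_sound ords_ok i (Nat.zero_le i) (by omega)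
    simp only [ordOK, Bool.and_eq_true, Nat.blt_eq] at this
    exact this.1.2
  · have := allRange_sound ords_ok 17197 (Nat.zero_le _) (by omega)
    simp only [ordOK, Bool.and_eq_true, Nat.blt_eq] at this
    obtain rfl : i = 17198 := by omega
    exact this.2

theorem ptOrd_inj : Function.Injective fun i : Fin ptN => ptSet (ordTab.at' i) := by
  let F : ℕ → ℕ := fun i => sqSum (ptRows (ordTab.at' i)) 16
  have step : ∀ i, i + 1 < ptN → F i < F (i + 1) := fun i hi => by
    have hi' : i + 1 < 17199 := hi
    have := allRange_sound ords_ok i (Nat.zero_le i) (by omega)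
    simp only [ordOK, Bool.and_eq_true, Nat.blt_eq] at this
    exact this.1.1
  have mono : ∀ d i, i + d + 1 < ptN → F i < F (i + d + 1) := by
    intro d
    induction d with
    | zero => intro i hi; exact step i hi
    | succ d ih => intro i hi; exact (ih i (by omega)).trans (step _ (by omega))
  intro i j e
  have eF : F i = F j := by
    simp only [F]
    rw [sqSum_of_card (ptSet_card (ordTab_lt i.2)), sqSum_of_card (ptSet_card (ordTab_lt j.2))]
    exact congrArg (fun X : Finset ℕ => ∑ v ∈ X, v * v) e
  refine Fin.ext (Decidable.byContradiction fun hne => ?_)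
  rcases Nat.lt_or_gt_of_ne hne with h | h
  · have := mono (j - i - 1) i (by omega)
    rw [show i.val + (j - i - 1) + 1 = j by omega] at this
    omega
  · have := mono (i - j - 1) j (by omega)
    rw [show j.val + (i - j - 1) + 1 = i by omega] at this
    omega

/-- The coset of a chosen element which takes the first point to a listed one. -/
noncomputable def ptCoset (i : Fin ptN) : P ⧸ ptStab :=
  (((pt_reach _ (ordTab_lt i.2)).choose⁻¹ : P) : P ⧸ ptStab)

theorem moveSet_of_coset {a b : P} (e : ((a⁻¹ : P) : P ⧸ ptStab) = ((b⁻¹ : P) : P ⧸ ptStab)) :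
    moveSet a (ptSet 0) = moveSet b (ptSet 0) := by
  have h : moveSet (a⁻¹⁻¹ * b⁻¹) (ptSet 0) = ptSet 0 := QuotientGroup.eq.1 e
  rw [inv_inv] at h
  have h' := congrArg (moveSet b) h
  rwa [← moveSet_mul, mul_assoc, inv_mul_cancel, mul_one] at h'

theorem ptCoset_inj : Function.Injective ptCoset := fun i j e => ptOrd_inj <| by
  have h := moveSet_of_coset e
  rwa [(pt_reach _ (ordTab_lt i.2)).choose_spec, (pt_reach _ (ordTab_lt j.2)).choose_spec] at h

theorem stab_index_le : ptN * Nat.card ptStab ≤ Nat.card P := by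
  have := card_P_le.1
  rw [← Subgroup.index_mul_card ptStab]
  refine Nat.mul_le_mul_right _ ?_
  rw [Subgroup.index, ← Nat.card_fin ptN]
  exact Nat.card_le_card_of_injective _ ptCoset_inj

theorem stab_facts : (∀ a ∈ ptStab, sigma a = 1 → a = 1) ∧ Nat.card ptStab = 36864 := by
  have := card_P_le.1
  refine injOn_of_card inferInstance ?_ (hSub_big.trans ?_)
  · have := stab_index_le.trans card_P_le.2
    rw [ptN] at this
    omega
  · have : Finite (ptStab.map sigma) := Finite.of_surjective (fun a : ptStab => (⟨sigma a, a.1, a.2, rfl⟩ :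
      ptStab.map sigma)) fun ⟨x, a, ha, e⟩ => ⟨⟨a, ha⟩, Subtype.ext e⟩
    exact Subgroup.card_le_of_le (Subgroup.map_mono hSub_le_stab)

theorem card_P : Nat.card P = 634023936 := by
  refine le_antisymm card_P_le.2 ?_
  have := stab_index_le
  rw [ptN, stab_facts.2] at this
  omega

theorem sigma_injective : Function.Injective sigma := by
  rw [← MonoidHom.ker_eq_bot_iff, eq_bot_iff]
  intro a ha
  rw [MonoidHom.mem_ker] at ha
  have : a ∈ ptStab := by
    show moveSet a (ptSet 0) = ptSet 0
    have hel : El one26 a := by rw [El, toMat_one26, ha]; rfl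
    ext v
    simp only [moveSet, Finset.mem_image, ← mm_matOf hel]
    exact ⟨fun ⟨w, hw, e⟩ => by rwa [← e, mm_one26 (spanKey_lt _ w hw)],
      fun hv => ⟨v, hv, mm_one26 (spanKey_lt _ v hv)⟩⟩
  exact Subgroup.mem_bot.2 (stab_facts.1 a this ha)

theorem hSub_eq_stab : hSub = ptStab := by
  have := card_P_le.1
  refine Subgroup.eq_of_le_of_card_ge hSub_le_stab ?_
  rw [stab_facts.2]
  refine hSub_big.trans ?_
  rw [Subgroup.card_map_of_injective sigma_injective]

theorem orbit_total (a : P) : ∃ x < ptN, moveSet a (ptSet 0) = ptSet x := by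
  have := card_P_le.1
  have hq : Function.Bijective ptCoset := by
    refine ptCoset_inj.bijective_of_nat_card_le ?_
    have h := Subgroup.index_mul_card ptStab
    rw [stab_facts.2, card_P] at h
    rw [Nat.card_fin, ← Subgroup.index, ptN]
    omega
  obtain ⟨i, hi⟩ := hq.2 ((a⁻¹ : P) : P ⧸ ptStab)
  have h := moveSet_of_coset hi
  rw [(pt_reach _ (ordTab_lt i.2)).choose_spec] at h
  exact ⟨_, ordTab_lt i.2, h.symm⟩

end Cfsg.Lib.ThCert
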