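import Cfsg.Agent.ThCert.Words
import Cfsg.Agent.ThCert.Data.Gens

/-!
The group presented by the relators in the first seven generators, and its representation by matrices of size 26 over
the field with two elements.
-/

set_option autoImplicit false
set_option exponentiation.threshold 700
set_option maxRecDepth 100000

namespace Cfsg.Lib.ThCert

open Cfsg

/-- The relators in the first seven generators. -/
def pWords : List (List ℕ) := thWords.take 27

/-- The value of a signed letter. -/
def sgn {G : Type*} [Group G] (v : ℕ → G) (x : ℕ) : G := if x % 2 = 0 then v (x / 2) else (v (x / 2))⁻¹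

/-- The free generators. -/
def free7 (i : ℕ) : FreeGroup (Fin 7) := FreeGroup.of (Fin.ofNat 7 i)

/-- The relators. -/
def pRels : Set (FreeGroup (Fin 7)) := {r | ∃ w ∈ pWords, r = wordVal (sgn free7) w}

/-- The presented group. -/
abbrev P : Type := PresentedGroup pRels

/-- A generator. -/
def pg (i : ℕ) : P := PresentedGroup.mk pRels (free7 i)

theorem sgn_map {G H : Type*} [Group G] [Group H] (f : G →* H) (v : ℕ → G) (x : ℕ) :
    f (sgn v x) = sgn (fun i => f (v i)) x := by
  unfold sgn
  split_ifs <;> simp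

theorem wordVal_map {G H : Type*} [Group G] [Group H] (f : G →* H) (v : ℕ → G) (w : List ℕ) :
    f (wordVal v w) = wordVal (fun l => f (v l)) w := by
  simp only [wordVal, map_list_prod, List.map_map]
  rfl

theorem pWord_one {w : List ℕ} (hw : w ∈ pWords) : wordVal (sgn pg) w = 1 := by
  have h : PresentedGroup.mk pRels (wordVal (sgn free7) w) = 1 := PresentedGroup.one_of_mem ⟨w, hw, rfl⟩
  rw [wordVal_map, funext (fun x => sgn_map (PresentedGroup.mk pRels) free7 x)] at h
  exact h

theorem pWords_small : ∀ w ∈ pWords, ∀ x ∈ w, x < 14 := by decide +kernel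

/-- Data of a map out of the presented group. -/
theorem lift_ok {G : Type*} [Group G] (v : Fin 7 → G)
    (h : ∀ w ∈ pWords, wordVal (sgn fun i => v (Fin.ofNat 7 i)) w = 1) : ∀ r ∈ pRels, FreeGroup.lift v r = 1 := by
  rintro r ⟨w, hw, rfl⟩
  rw [wordVal_map, funext (fun x => sgn_map (FreeGroup.lift v) free7 x)]
  simp only [free7, FreeGroup.lift_apply_of]
  exact h w hw

/-- The packed matrix of a signed letter. -/
def gmat (x : ℕ) : ℕ := genMats.getD x one26

theorem genMats_inv : ∀ i < 7, mm (gmat (2 * i)) (gmat (2 * i + 1)) = one26 ∧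
    mm (gmat (2 * i + 1)) (gmat (2 * i)) = one26 := by decide +kernel

/-- The matrix of a generator. -/
def genGL (i : Fin 7) : GL (Fin 26) (ZMod 2) where
  val := toMat (gmat (2 * i.val))
  inv := toMat (gmat (2 * i.val + 1))
  val_inv := by rw [← toMat_mm, (genMats_inv i i.2).1, toMat_one26]
  inv_val := by rw [← toMat_mm, (genMats_inv i i.2).2, toMat_one26]

/-- The packed matrix of a word. -/
def mval : List ℕ → ℕ
  | [] => one26
  | x :: w => mm (gmat x) (mval w)

theorem sgn_genGL {x : ℕ} (hx : x < 14) :
    ((sgn (fun i => genGL (Fin.ofNat 7 i)) x : GL (Fin 26) (ZMod 2)) : Matrix (Fin 26) (Fin 26) (ZMod 2)) =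
      toMat (gmat x) := by
  have e : (Fin.ofNat 7 (x / 2) : Fin 7).val = x / 2 := Nat.mod_eq_of_lt (by omega)
  unfold sgn
  rcases Nat.mod_two_eq_zero_or_one x with h | h <;> simp only [h, if_true, one_ne_zero, if_false]
  · show toMat (gmat (2 * _)) = _
    rw [e, show 2 * (x / 2) = x by omega]
  · show toMat (gmat (2 * _ + 1)) = _
    rw [e, show 2 * (x / 2) + 1 = x by omega]

theorem toMat_mval : ∀ {w : List ℕ}, (∀ x ∈ w, x < 14) →
    ((wordVal (sgn fun i => genGL (Fin.ofNat 7 i)) w : GL (Fin 26) (ZMod 2)) : Matrix (Fin 26) (Fin 26) (ZMod 2)) =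
      toMat (mval w)
  | [], _ => by rw [mval, toMat_one26]; rfl
  | x :: w, h => by
    rw [mval, toMat_mm, ← toMat_mval fun y hy => h y (List.mem_cons_of_mem x hy),
      ← sgn_genGL (h x List.mem_cons_self)]
    simp [wordVal]

theorem mval_rels : (pWords.all fun w => Nat.beq (mval w) one26) = true := by decide +kernel

theorem genGL_ok : ∀ r ∈ pRels, FreeGroup.lift genGL r = 1 := by
  refine lift_ok genGL fun w hw => Units.ext ?_
  rw [toMat_mval (pWords_small w hw), Nat.eq_of_beq_eq_true (List.all_eq_true.1 mval_rels w hw), toMat_one26]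
  rfl

/-- The representation. -/
def sigma : P →* GL (Fin 26) (ZMod 2) := PresentedGroup.toGroup genGL_ok

theorem sigma_pg (i : ℕ) : sigma (pg i) = genGL (Fin.ofNat 7 i) := PresentedGroup.toGroup.of genGL_ok

/-- A packed matrix stands for an element. -/
def El (p : ℕ) (a : P) : Prop := toMat p = (sigma a : Matrix (Fin 26) (Fin 26) (ZMod 2))

theorem El.one : El one26 1 := by rw [El, toMat_one26, map_one]; rfl

theorem El.mul {p q : ℕ} {a b : P} (ha : El p a) (hb : El q b) : El (mm p q) (a * b) := by
  unfold El at *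
  rw [toMat_mm, map_mul, Units.val_mul, ha, hb]

theorem El.inv {p q : ℕ} {a : P} (ha : El p a) (h : mm p q = one26) : El q a⁻¹ := by
  have h' := congrArg toMat h
  rw [toMat_mm, toMat_one26, ha] at h'
  rw [El, map_inv]
  exact (Units.inv_eq_of_mul_eq_one_right h').symm

theorem El.word {w : List ℕ} (hw : ∀ x ∈ w, x < 14) : El (mval w) (wordVal (sgn pg) w) := by
  rw [El, wordVal_map, funext (fun x => sgn_map sigma pg x)]
  simp only [sigma_pg]
  exact (toMat_mval hw).symm

theorem El.same {p : ℕ} {a b : P} (ha : El p a) (hb : El p b) : sigma a = sigma b := Units.ext (ha.symm.trans hb)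

theorem El.eq {p : ℕ} {a b : P} (inj : Function.Injective sigma) (ha : El p a) (hb : El p b) : a = b :=
  inj (ha.same hb)

theorem mm_lt (A B : ℕ) : mm A B < 2 ^ 676 := by
  have ht : ∀ i, term A B i < 2 ^ 676 := fun i => by
    have h1 : Nat.land (Nat.shiftRight A i) col26 ≤ col26 := Nat.and_le_right
    have h2 : Nat.land (Nat.shiftRight B (Nat.mul 26 i)) 0x3ffffff ≤ 0x3ffffff := Nat.and_le_right
    exact lt_of_le_of_lt (Nat.mul_le_mul h1 h2) (by decide +kernel)
  rw [mm_eq]
  generalize 26 = n
  induction n with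
  | zero => exact Nat.two_pow_pos _
  | succ n ih => exact Nat.xor_lt_two_pow ih (ht n)

end Cfsg.Lib.ThCert
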