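import Cfsg.Agent.ThCert.Group

/-!
Products with the last generator between elements of the small group, and the relators in this form.
-/

set_option autoImplicit false
set_option maxRecDepth 100000

namespace Cfsg.Lib.ThCert

open Cfsg

/-- The element `a c` of order two. -/
def acEl : P := pg 0 * pg 2

/-- The matrix of `a c`. -/
def acM : ℕ := mm (gmat 0) (gmat 4)

theorem acM_el : El acM acEl := by
  have h := El.word (w := [0, 4]) (by decide)
  have e : mval [0, 4] = acM := by decide +kernel
  rw [e] at h
  simpa [wordVal, sgn, acEl] using h

theorem acEl_inv : acEl⁻¹ = acEl := by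
  have h := ac_sq
  simp only [wordVal, List.map_cons, List.map_nil, List.prod_cons, List.prod_nil, mul_one, plv] at h
  exact inv_eq_of_mul_eq_one_left (by rw [acEl, mul_assoc]; exact h)

theorem tu_inv : tu⁻¹ = tu * fTh acEl := by
  refine inv_eq_of_mul_eq_one_left ?_
  rw [mul_assoc]
  have h := congrArg (fun g => g * tu * tu) (map_inv fTh acEl)
  rw [acEl_inv] at h
  have hs : tu * tu = fTh acEl := tu_sq
  have hc : fTh acEl * tu = tu * fTh acEl := by rw [← hs]; group
  rw [hc, ← mul_assoc, hs, ← map_mul]
  nth_rw 1 [← acEl_inv]
  rw [inv_mul_cancel, map_one]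

/-- The product of elements with the last generator between them. -/
def segVal : List P → Spor.Th
  | [] => 1
  | [a] => fTh a
  | a :: b :: l => fTh a * tu * segVal (b :: l)

theorem segVal_cons (a : P) {l : List P} (h : l ≠ []) : segVal (a :: l) = fTh a * tu * segVal l := by
  cases l with
  | nil => exact absurd rfl h
  | cons b l => rfl

theorem segVal_append : ∀ {l l' : List P}, l ≠ [] → l' ≠ [] → segVal (l ++ l') = segVal l * tu * segVal l'
  | [], _, h, _ => absurd rfl h
  | [a], l', _, h' => by rw [List.singleton_append, segVal_cons a h']; rfl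
  | a :: b :: l, l', _, h' => by
    rw [List.cons_append, segVal_cons a (by simp), segVal_append (by simp) h', segVal_cons a (by simp)]
    simp only [mul_assoc]

/-- The inverse of such a product in the same form. -/
def segInv : List P → List P
  | [] => []
  | [a] => [a⁻¹]
  | a :: b :: l => segInv (b :: l) ++ [acEl * a⁻¹]

theorem segInv_ne : ∀ {l : List P}, l ≠ [] → segInv l ≠ []
  | [], h => absurd rfl h
  | [_], _ => by simp [segInv]
  | _ :: _ :: _, _ => by simp [segInv]

theorem segVal_segInv : ∀ {l : List P}, l ≠ [] → segVal (segInv l) = (segVal l)⁻¹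
  | [], h => absurd rfl h
  | [a], _ => by simp [segVal, segInv]
  | a :: b :: l, _ => by
    rw [segInv, segVal_append (segInv_ne (by simp)) (by simp), segVal_segInv (by simp), segVal_cons a (by simp),
      show segVal [acEl * a⁻¹] = fTh (acEl * a⁻¹) from rfl, map_mul, map_inv, mul_inv_rev, mul_inv_rev, tu_inv]
    simp only [mul_assoc]

/-- Multiplication of the first element. -/
def segPush (a : P) : List P → List P
  | [] => [a]
  | b :: l => a * b :: l

theorem segVal_push (a : P) : ∀ {l : List P}, segVal (segPush a l) = fTh a * segVal l
  | [] => by simp [segPush, segVal]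
  | [b] => by simp [segPush, segVal]
  | b :: c :: l => by simp [segPush, segVal, mul_assoc]

/-- The segments of a word in signed letters. -/
def segs : List ℕ → List P
  | [] => [1]
  | x :: w => if x = 14 then 1 :: segs w else if x = 15 then 1 :: segPush acEl (segs w) else segPush (sgn pg x) (segs w)

theorem segPush_ne (a : P) (l : List P) : segPush a l ≠ [] := by cases l <;> simp [segPush]

theorem segs_ne : ∀ w : List ℕ, segs w ≠ []
  | [] => by simp [segs]
  | x :: w => by
    rw [segs]
    split_ifs
    · simp
    · simp
    · exact segPush_ne _ _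

theorem segVal_segs : ∀ {w : List ℕ}, (∀ x ∈ w, x < 16) → segVal (segs w) = wordVal (signed tgen) w
  | [], _ => by simp [segs, segVal, wordVal]
  | x :: w, h => by
    have ih := segVal_segs (w := w) fun y hy => h y (List.mem_cons_of_mem x hy)
    rw [segs, show wordVal (signed tgen) (x :: w) = signed tgen x * wordVal (signed tgen) w by simp [wordVal], ← ih]
    split_ifs with h1 h2
    · subst h1
      rw [segVal_cons _ (segs_ne w), map_one, one_mul]
      rfl
    · subst h2
      rw [segVal_cons _ (segPush_ne _ _), segVal_push, map_one, one_mul, ← mul_assoc, ← tu_inv]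
      rfl
    · have := h x List.mem_cons_self
      rw [segVal_push, fTh_sgn (by omega)]

/-- Multiplication of the first matrix. -/
def segPushM (a : ℕ) : List ℕ → List ℕ
  | [] => [a]
  | b :: l => mm a b :: l

/-- The segments as matrices. -/
def segsM : List ℕ → List ℕ
  | [] => [one26]
  | x :: w => if x = 14 then one26 :: segsM w else if x = 15 then one26 :: segPushM acM (segsM w)
      else segPushM (gmat x) (segsM w)

theorem El.segPush {a : P} {p : ℕ} (ha : El p a) : ∀ {m : List ℕ} {l : List P}, List.Forall₂ El m l →
    List.Forall₂ El (segPushM p m) (ThCert.segPush a l)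
  | _, _, .nil => .cons ha .nil
  | _, _, .cons hb hl => .cons (ha.mul hb) hl

theorem El.letter {x : ℕ} (hx : x < 14) : El (gmat x) (sgn pg x) := by
  have := El.word (w := [x]) (by simpa using hx)
  simp only [mval, wordVal, List.map_cons, List.map_nil, List.prod_cons, List.prod_nil, mul_one] at this
  rwa [mm_one26 ((by decide +kernel : ∀ j < 14, gmat j < 2 ^ 676) x hx)] at this

theorem segsM_el : ∀ {w : List ℕ}, (∀ x ∈ w, x < 16) → List.Forall₂ El (segsM w) (segs w)
  | [], _ => .cons El.one .nil
  | x :: w, h => by
    have ih := segsM_el (w := w) fun y hy => h y (List.mem_cons_of_mem x hy)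
    rw [segs, segsM]
    split_ifs with h1 h2
    · exact .cons El.one ih
    · exact .cons El.one (acM_el.segPush ih)
    · have := h x List.mem_cons_self
      exact (El.letter (by omega)).segPush ih

end Cfsg.Lib.ThCert
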