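import Cfsg.Agent.ThCert.Pres

/-!
Subspaces of dimension four given by bases, and the action of the presented group on their sets of elements.
-/

set_option autoImplicit false
set_option exponentiation.threshold 700

namespace Cfsg.Lib.ThCert

/-- The low four bits in each of the first four rows. -/
def mask4 : ℕ := 0xf + 0xf * 2 ^ 26 + 0xf * 2 ^ 52 + 0xf * 2 ^ 78

/-- The product by a matrix of four rows and four columns. -/
def mm4 (A B : ℕ) : ℕ :=
  Nat.xor (Nat.xor (Nat.xor
    (Nat.mul (Nat.land A col26) (Nat.land B 0x3ffffff))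
    (Nat.mul (Nat.land (Nat.shiftRight A 1) col26) (Nat.land (Nat.shiftRight B 26) 0x3ffffff)))
    (Nat.mul (Nat.land (Nat.shiftRight A 2) col26) (Nat.land (Nat.shiftRight B 52) 0x3ffffff)))
    (Nat.mul (Nat.land (Nat.shiftRight A 3) col26) (Nat.land (Nat.shiftRight B 78) 0x3ffffff))

theorem mask4_high : ∀ i < 26, 4 ≤ i → Nat.land (Nat.shiftRight mask4 i) col26 = 0 := by decide +kernel

theorem mm4_eq {A : ℕ} (B : ℕ) (hA : A &&& mask4 = A) : mm A B = mm4 A B := by
  have h0 : ∀ i, i < 26 → 4 ≤ i → term A B i = 0 := fun i h1 h2 => by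
    show (A >>> i &&& col26) * _ = 0
    rw [← hA, Nat.shiftRight_and_distrib, Nat.and_assoc,
      show mask4 >>> i &&& col26 = 0 from mask4_high i h1 h2, Nat.and_zero, Nat.zero_mul]
  have hs : ∀ n, n ≤ 22 → mulN A B (4 + n) = mulN A B 4 := by
    intro n
    induction n with
    | zero => simp
    | succ n ih =>
      intro hn
      show Nat.xor (mulN A B (4 + n)) (term A B (4 + n)) = _
      rw [h0 _ (by omega) (by omega), ih (by omega)]
      exact Nat.xor_zero _
  rw [mm_eq, show (26 : ℕ) = 4 + 22 from rfl, hs 22 le_rfl]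
  have z : ∀ x : ℕ, Nat.xor 0 x = x := Nat.zero_xor
  simp only [mm4, mulN, term, z, Nat.mul_eq]
  rfl

theorem mm_assoc (A B C : ℕ) : mm (mm A B) C = mm A (mm B C) :=
  toMat_inj (mm_lt _ _) (mm_lt _ _) (by rw [toMat_mm, toMat_mm, toMat_mm, toMat_mm, mul_assoc])

/-- The elements of the span of four rows. -/
def spanKey (S : ℕ) : Finset ℕ := (Finset.range 16).image fun c => mm c S

theorem small_land {c : ℕ} (hc : c < 16) : c &&& mask4 = c := by
  revert hc c
  decide +kernel

theorem mm_small {c N : ℕ} (hc : c < 16) (hN : N &&& mask4 = N) : mm c N < 16 := by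
  have hm : ∀ i < 4, Nat.land (Nat.shiftRight mask4 (26 * i)) 0x3ffffff = 15 := by decide +kernel
  have hrow : ∀ i < 4, Nat.land (Nat.shiftRight N (26 * i)) 0x3ffffff < 16 := fun i hi => by
    show N >>> (26 * i) &&& 0x3ffffff < 16
    rw [← hN, Nat.shiftRight_and_distrib, Nat.and_assoc, show mask4 >>> (26 * i) &&& 0x3ffffff = 15 from hm i hi]
    exact Nat.lt_succ_of_le Nat.and_le_right
  have hbit : ∀ i, Nat.land (Nat.shiftRight c i) col26 ≤ 1 := by
    intro i
    have hs : ∀ d < 16, Nat.land d col26 ≤ 1 := by decide +kernel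
    exact hs _ (lt_of_le_of_lt (Nat.shiftRight_le c i) hc)
  rw [mm4_eq N (small_land hc)]
  have key : ∀ i < 4, Nat.mul (Nat.land (Nat.shiftRight c i) col26) (Nat.land (Nat.shiftRight N (26 * i)) 0x3ffffff)
      < 2 ^ 4 := fun i hi => lt_of_le_of_lt (Nat.mul_le_mul_right _ (hbit i)) (by simpa using hrow i hi)
  exact Nat.xor_lt_two_pow (n := 4) (Nat.xor_lt_two_pow (Nat.xor_lt_two_pow (key 0 (by norm_num))
    (key 1 (by norm_num))) (key 2 (by norm_num))) (key 3 (by norm_num))

theorem spanKey_sub {N S : ℕ} (hN : N &&& mask4 = N) : spanKey (mm4 N S) ⊆ spanKey S := by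
  intro v hv
  obtain ⟨c, hc, rfl⟩ := Finset.mem_image.1 hv
  rw [← mm4_eq S hN, ← mm_assoc]
  exact Finset.mem_image_of_mem _ (Finset.mem_range.2 (mm_small (Finset.mem_range.1 hc) hN))

theorem mm_one26 {p : ℕ} (h : p < 2 ^ 676) : mm p one26 = p :=
  toMat_inj (mm_lt _ _) h (by rw [toMat_mm, toMat_one26, mul_one])

theorem pg_closure : Subgroup.closure (Set.range fun i : Fin 7 => pg i.val) = ⊤ := by
  rw [eq_top_iff, ← PresentedGroup.closure_range_of pRels]
  refine Subgroup.closure_mono ?_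
  rintro _ ⟨i, rfl⟩
  exact ⟨i, by show pg i.val = _; rw [pg, free7, Fin.ofNat_val_eq_self]; rfl⟩

theorem exists_el (a : P) : ∃ p, p < 2 ^ 676 ∧ El p a ∧ ∃ q, q < 2 ^ 676 ∧ El q a⁻¹ := by
  have ha : a ∈ Subgroup.closure (Set.range fun i : Fin 7 => pg i.val) := pg_closure ▸ Subgroup.mem_top a
  induction ha using Subgroup.closure_induction with
  | mem x hx =>
    obtain ⟨i, rfl⟩ := hx
    have hb : ∀ j < 14, gmat j < 2 ^ 676 := by decide +kernel
    have h1 : El (gmat (2 * i.val)) (pg i.val) := by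
      rw [El, sigma_pg, Fin.ofNat_val_eq_self]; rfl
    exact ⟨_, hb _ (by omega), h1, _, hb _ (by omega), h1.inv (genMats_inv i i.2).1⟩
  | one =>
    have : one26 < 2 ^ 676 := by decide +kernel
    exact ⟨_, this, El.one, _, this, by rw [inv_one]; exact El.one⟩
  | mul x y _ _ hx hy =>
    obtain ⟨p, -, hp, q, -, hq⟩ := hx
    obtain ⟨p', -, hp', q', -, hq'⟩ := hy
    exact ⟨_, mm_lt p p', hp.mul hp', _, mm_lt q' q, by rw [mul_inv_rev]; exact hq'.mul hq⟩
  | inv x _ hx =>
    obtain ⟨p, hp0, hp, q, hq0, hq⟩ := hx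
    exact ⟨q, hq0, hq, p, hp0, by rw [inv_inv]; exact hp⟩

/-- The matrix of an element. -/
noncomputable def matOf (a : P) : ℕ := (exists_el a).choose

theorem matOf_el (a : P) : El (matOf a) a := (exists_el a).choose_spec.2.1

theorem matOf_lt (a : P) : matOf a < 2 ^ 676 := (exists_el a).choose_spec.1

theorem matOf_eq {a : P} {p : ℕ} (hp : El p a) (hlt : p < 2 ^ 676) : matOf a = p :=
  toMat_inj (matOf_lt a) hlt ((matOf_el a).trans hp.symm)

theorem mm_matOf {a : P} {p v : ℕ} (hp : El p a) : mm v p = mm v (matOf a) :=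
  toMat_inj (mm_lt _ _) (mm_lt _ _) (by rw [toMat_mm, toMat_mm, matOf_el a, hp])

/-- The image of a set of vectors. -/
noncomputable def moveSet (a : P) (X : Finset ℕ) : Finset ℕ := X.image fun v => mm v (matOf a)

theorem moveSet_spanKey {a : P} {p : ℕ} (hp : El p a) (S : ℕ) : moveSet a (spanKey S) = spanKey (mm S p) := by
  ext v
  simp only [moveSet, spanKey, Finset.mem_image, exists_exists_and_eq_and, mm_assoc, mm_matOf hp]

theorem moveSet_mul (a b : P) (X : Finset ℕ) : moveSet (a * b) X = moveSet b (moveSet a X) := by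
  ext v
  simp only [moveSet, Finset.mem_image, exists_exists_and_eq_and, mm_assoc,
    mm_matOf ((matOf_el a).mul (matOf_el b))]

theorem moveSet_inv (a : P) (X : Finset ℕ) (hX : ∀ v ∈ X, v < 2 ^ 676) : moveSet a⁻¹ (moveSet a X) = X := by
  ext v
  rw [← moveSet_mul, mul_inv_cancel]
  simp only [moveSet, Finset.mem_image, ← mm_matOf El.one]
  exact ⟨fun ⟨w, hw, e⟩ => by rwa [← e, mm_one26 (hX w hw)], fun hv => ⟨v, hv, mm_one26 (hX v hv)⟩⟩

theorem spanKey_lt (S : ℕ) : ∀ v ∈ spanKey S, v < 2 ^ 676 := by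
  intro v hv
  obtain ⟨c, -, rfl⟩ := Finset.mem_image.1 hv
  exact mm_lt _ _

theorem moveSet_lt (a : P) (X : Finset ℕ) : ∀ v ∈ moveSet a X, v < 2 ^ 676 := by
  intro v hv
  obtain ⟨c, -, rfl⟩ := Finset.mem_image.1 hv
  exact mm_lt _ _

theorem moveSet_card (a : P) (X : Finset ℕ) (hX : ∀ v ∈ X, v < 2 ^ 676) : (moveSet a X).card = X.card := by
  refine le_antisymm Finset.card_image_le ?_
  conv_lhs => rw [← moveSet_inv a X hX]
  exact Finset.card_image_le

end Cfsg.Lib.ThCert
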