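import Cfsg.Prelude.Def_Spor_Th
import Cfsg.Agent.ThCert.Enum
import Cfsg.Agent.ThCert.Mat

/-!
The relators of the presented group as words in signed letters.
-/

set_option autoImplicit false
set_option maxRecDepth 100000

namespace Cfsg.Lib.ThCert

open Cfsg

/-- The relators: the letter `2 i` is the `i`th generator and `2 i + 1` its inverse. -/
def thWords : List (List ℕ) :=
  [[0, 0],
   [2, 2],
   [4, 4],
   [6, 6],
   [8, 8],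
   [0, 2, 0, 2, 0, 2],
   [0, 8, 0, 8],
   [2, 4, 2, 4, 2, 4],
   [2, 6, 2, 6],
   [2, 8, 2, 8],
   [0, 7, 5, 7, 5, 7, 5, 7, 5],
   [4, 8, 4, 8],
   [6, 8, 6, 8, 6, 8],
   [2, 4, 6, 8, 2, 4, 6, 8, 2, 4, 6, 8, 2, 4, 6, 8, 2, 4, 6, 8, 2, 4, 6, 8, 2, 4, 6, 8, 2, 4, 6, 8],
   [10, 10, 10, 10, 10, 10, 10],
   [11, 1, 10, 0],
   [11, 3, 10, 2],
   [11, 5, 10, 4],
   [10, 6, 10, 6],
   [9, 11, 8, 10, 11, 11, 11, 9, 10, 10, 10],
   [12, 12, 12],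
   [13, 1, 12, 0],
   [13, 3, 12, 2],
   [13, 5, 12, 4],
   [13, 7, 12, 6],
   [13, 9, 12, 8],
   [13, 10, 12, 11, 11],
   [14, 14, 5, 1],
   [15, 1, 14, 0],
   [15, 5, 14, 4],
   [15, 9, 14, 8],
   [6, 8, 15, 6, 14, 6, 8, 15, 6, 14],
   [15, 3, 5, 1, 2, 14, 3, 0, 4, 2, 9],
   [7, 15, 6, 3, 5, 1, 2, 7, 14, 6, 3, 0, 4, 2, 5, 9, 7, 15, 6, 3, 5, 1, 2, 9, 15],
   [15, 12, 14, 12],
   [9, 11, 11, 15, 10, 10, 8, 11, 11, 14, 10, 10],
   [0, 4, 11, 15, 11, 15, 11, 15],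
   [0, 4, 11, 15, 10, 14, 11, 15, 10, 14, 11, 15, 10, 14, 11, 15, 10, 14],
   [6, 11, 11, 14, 10, 10, 6, 11, 11, 14, 10, 10, 6, 11, 11, 14, 10, 10, 6, 11, 11, 14, 10, 10, 11, 11, 9, 7, 5, 6, 8, 10, 10, 10, 9, 7, 5, 6, 8, 11, 7, 5, 6, 5, 1]]

/-- The generators in order. -/
def genList : List Spor.Th.Gen := [.a, .b, .c, .d, .e, .s, .t, .u]

/-- The value of a signed letter. -/
def signed {G : Type*} [Group G] (v : Spor.Th.Gen → G) (x : ℕ) : G :=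
  if x % 2 = 0 then v (genList.getD (x / 2) .a) else (v (genList.getD (x / 2) .a))⁻¹

theorem extra_eq : Spor.Th.extra = thWords.map (wordVal (signed FreeGroup.of)) := by decide +kernel

end Cfsg.Lib.ThCert
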